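import Cfsg.Agent.Lib.SchurMult.TwoCollect
import Cfsg.Agent.Lib.OutMathieu.Rigid

/-!
Checker of a collector certificate for subgroups of `M24`.
-/

set_option autoImplicit false

namespace CfsgLib.OutMathieu

open Cfsg CfsgLib.Golay CfsgLib.SchurMult
open scoped Pointwise

/-- Certificate: collector, generator tables, conjugating tables, and the normal forms sorted by
their tables. -/
structure TwoCert where
  /-- the invariant sets -/
  sets : List ℕ
  /-- collector -/
  col : Collector
  /-- tables of the generators -/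
  gens : List ℕ
  /-- tables of the conjugating elements -/
  conjs : List ℕ
  /-- all normal forms, with increasing tables -/
  order : List ℕ

/-- Table of a normal form. -/
def nfTbl (gens : List ℕ) : ℕ → ℕ → ℕ
  | 0, _ => idTbl
  | k + 1, x =>
    bif x.testBit k then compTbl (nfTbl gens k x) (gens.getD k idTbl) else nfTbl gens k x

/-- Strictly increasing along a function. -/
def increasing (f : ℕ → ℕ) : List ℕ → Bool
  | [] => true
  | [_] => true
  | a :: b :: l => decide (f a < f b) && increasing f (b :: l)

namespace TwoCert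

variable (c : TwoCert)

/-- The generators and conjugators are in the group. -/
def memOK : Bool :=
  (c.gens ++ c.conjs).all fun t => inM24 t && c.sets.all fun s => imgMask t s == s

/-- The relations hold. -/
def relOK : Bool :=
  c.col.rels.all fun r => evalWord c.gens r.1 == evalWord c.gens r.2

/-- The conjugations hold. -/
def conjOK : Bool :=
  c.col.eqs.all fun e =>
    match e with
    | .assoc _ _ => true
    | .conj k m _ => m.all fun q =>
        compTbl (c.conjs.getD k idTbl) (nfTbl c.gens c.col.n q.1) ==
          compTbl (nfTbl c.gens c.col.n q.2) (c.conjs.getD k idTbl)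

/-- The normal forms are distinct. -/
def orderOK : Bool :=
  c.order.length == 2 ^ c.col.n && increasing (nfTbl c.gens c.col.n) c.order

end TwoCert

theorem pairwise_of_increasing {f : ℕ → ℕ} : ∀ {l : List ℕ}, increasing f l = true →
    l.Pairwise (fun a b => f a < f b)
  | [], _ => List.Pairwise.nil
  | [a], _ => List.pairwise_singleton _ a
  | a :: b :: l, h => by
    simp only [increasing, Bool.and_eq_true, decide_eq_true_eq] at h
    have hp := pairwise_of_increasing h.2
    refine List.Pairwise.cons (fun x hx => ?_) hp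
    rcases List.mem_cons.1 hx with rfl | hx
    · exact h.1
    · exact h.1.trans (List.rel_of_pairwise_cons hp hx)

variable {K : Subgroup (Equiv.Perm GolayPt)}

attribute [local irreducible] mkTbl

theorem nfTbl_eq {g h : Equiv.Perm GolayPt} {gens : List ℕ} {k x y : ℕ} (hgh : g = h)
    (hg : IsTbl g (nfTbl gens k x)) (hh : IsTbl h (nfTbl gens k y)) :
    nfTbl gens k x = nfTbl gens k y := by
  have key : ∀ k x, ∃ f : ℕ → ℕ, nfTbl gens k x = mkTbl 24 f ∧ ∀ j, f j < 32 ∨ 24 ≤ j := by
    intro k
    induction k with
    | zero => intro x; exact ⟨id, rfl, fun j => show j < 32 ∨ 24 ≤ j by omega⟩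
    | succ k ih =>
      intro x
      rw [nfTbl]
      cases x.testBit k
      · exact ih x
      · exact ⟨_, rfl, fun j => Or.inl (tblAt_lt _ _)⟩
  obtain ⟨f, hf, hf'⟩ := key k x
  obtain ⟨f', hf₂, hf₂'⟩ := key k y
  rw [hf] at hg ⊢
  rw [hf₂] at hh ⊢
  refine mkTbl_congr 24 fun i hi => ?_
  have h1 := hg (pt i)
  have h2 := hh (pt i)
  rw [idx_pt hi, tblAt_mkTbl 24 f hi fun j hj => (hf' j).resolve_right (by omega)] at h1
  rw [idx_pt hi, tblAt_mkTbl 24 f' hi fun j hj => (hf₂' j).resolve_right (by omega)] at h2
  rw [← h1, ← h2, hgh]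

theorem isTbl_nfTbl {gens : List ℕ} {el : ℕ → K}
    (hel : ∀ i, IsTbl (el i : Equiv.Perm GolayPt) (gens.getD i idTbl)) :
    ∀ k x : ℕ, IsTbl ((bprod el k x : K) : Equiv.Perm GolayPt) (nfTbl gens k x)
  | 0, _ => by rw [bprod, nfTbl, OneMemClass.coe_one]; exact isTbl_idTbl
  | k + 1, x => by
    rw [bprod, nfTbl]
    cases x.testBit k
    · exact isTbl_nfTbl hel k x
    · rw [cond_true, cond_true, Subgroup.coe_mul]
      exact isTbl_compTbl (isTbl_nfTbl hel k x) (hel k)

theorem isTbl_lprod {gens : List ℕ} {el : ℕ → K}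
    (hel : ∀ i, IsTbl (el i : Equiv.Perm GolayPt) (gens.getD i idTbl)) :
    ∀ w : List ℕ, IsTbl ((lprod el w : K) : Equiv.Perm GolayPt) (evalWord gens w)
  | [] => by rw [lprod, evalWord, OneMemClass.coe_one]; exact isTbl_idTbl
  | i :: w => by
    rw [lprod, evalWord, Subgroup.coe_mul]
    exact isTbl_compTbl (hel i) (isTbl_lprod hel w)

theorem exists_family (sets : List ℕ) (hK : K = stabK sets) (tbls : List ℕ)
    (h : ∀ t ∈ tbls, inM24 t = true ∧ ∀ s ∈ sets, imgMask t s = s) :
    ∃ el : ℕ → K, ∀ i, IsTbl (el i : Equiv.Perm GolayPt) (tbls.getD i idTbl) := by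
  have : ∀ i, ∃ g : K, IsTbl (g : Equiv.Perm GolayPt) (tbls.getD i idTbl) := by
    intro i
    by_cases hi : i < tbls.length
    · rw [List.getD_eq_getElem _ _ hi]
      obtain ⟨h1, h2⟩ := h _ (List.getElem_mem hi)
      obtain ⟨g, hg⟩ := exists_isTbl (t := tbls[i]) (by
        simp only [inM24, Bool.and_eq_true] at h1; exact h1.1)
      exact ⟨⟨g, hK ▸ mem_stabK_of_isTbl hg h1 h2⟩, hg⟩
    · rw [List.getD_eq_default _ _ (by omega)]
      exact ⟨1, isTbl_idTbl⟩
  choose el hel using this
  exact ⟨el, hel⟩

/-- A certificate shows that no stem extension of `K` has kernel of even order. -/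
theorem TwoCert.not_two_dvd (c : TwoCert) (hK : K = stabK c.sets)
    (hmem : c.memOK = true) (hrel : c.relOK = true) (hconj : c.conjOK = true)
    (horder : c.orderOK = true) (hT : c.col.tableOK = true) (hsolved : c.col.solvedOK = true)
    (hG : ∃ m, ¬ 2 ∣ m ∧ Nat.card K = 2 ^ c.col.n * m)
    (Γ : Type) [Group Γ] [Finite Γ] (σ : Γ →* K) (hσ : Cfsg.IsStemExtension σ) :
    ¬ 2 ∣ Nat.card σ.ker := by
  simp only [memOK, Bool.and_eq_true, List.all_eq_true, beq_iff_eq, List.mem_append] at hmem
  obtain ⟨el, hel⟩ := exists_family c.sets hK c.gens fun t ht => hmem t (Or.inl ht)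
  obtain ⟨ce, hce⟩ := exists_family c.sets hK c.conjs fun t ht => hmem t (Or.inr ht)
  simp only [relOK, List.all_eq_true, beq_iff_eq] at hrel
  simp only [conjOK, List.all_eq_true] at hconj
  refine not_two_dvd_card_ker c.col el ce hT hsolved (fun v hv => ?_) (fun e he => ?_) ?_ hG Γ σ hσ
  · rw [List.getD_eq_getElem _ _ hv]
    apply Subtype.ext
    have h1 := isTbl_lprod hel c.col.rels[v].1
    rw [hrel _ (List.getElem_mem hv)] at h1
    exact h1.ext (isTbl_lprod hel _)
  · have := hconj e he
    cases e with
    | assoc pre v => trivial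
    | conj k m pairs =>
      simp only [List.all_eq_true, beq_iff_eq] at this
      intro q hq
      rw [mul_inv_eq_iff_eq_mul]
      apply Subtype.ext
      have h1 := isTbl_compTbl (hce k) (isTbl_nfTbl hel c.col.n q.1)
      rw [this q hq] at h1
      rw [Subgroup.coe_mul, Subgroup.coe_mul]
      exact h1.ext (isTbl_compTbl (isTbl_nfTbl hel c.col.n q.2) (hce k))
  · simp only [orderOK, Bool.and_eq_true, beq_iff_eq] at horder
    have hp := pairwise_of_increasing horder.2
    set H : Subgroup K := Subgroup.closure (el '' Set.Iio c.col.n)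
    have hmemH : ∀ k, k ≤ c.col.n → ∀ x, bprod el k x ∈ H := by
      intro k
      induction k with
      | zero => intro _ _; exact one_mem H
      | succ k ih =>
        intro hk x
        rw [bprod]
        cases x.testBit k
        · exact ih (by omega) x
        · exact mul_mem (ih (by omega) x)
            (Subgroup.subset_closure ⟨k, Set.mem_Iio.2 (by omega), rfl⟩)
    have hinj : Function.Injective fun i : Fin c.order.length =>
        (⟨bprod el c.col.n c.order[i.1], hmemH _ le_rfl _⟩ : H) := by
      intro i j hij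
      have hij' := congrArg (fun z : H => (z : K)) hij
      simp only at hij'
      by_contra hne
      have heq : nfTbl c.gens c.col.n c.order[i.1] = nfTbl c.gens c.col.n c.order[j.1] :=
        nfTbl_eq (congrArg Subtype.val hij') (isTbl_nfTbl hel _ _) (isTbl_nfTbl hel _ _)
      rcases lt_trichotomy i.1 j.1 with h | h | h
      · exact (List.pairwise_iff_getElem.1 hp i j i.2 j.2 h).ne heq
      · exact hne (Fin.ext h)
      · exact (List.pairwise_iff_getElem.1 hp j i j.2 i.2 h).ne heq.symm
    have := Nat.card_le_card_of_injective _ hinj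
    simpa [horder.1] using this

end CfsgLib.OutMathieu
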