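import Cfsg.Agent.Lib.OutMathieu.MultTwoOne

/-! Collector certificate for a Sylow `2`-subgroup of `M12`. -/

set_option autoImplicit false
set_option maxRecDepth 100000

namespace CfsgLib.OutMathieu

open CfsgLib.Golay CfsgLib.SchurMult

/-- Part of a collection table. -/
def tblM12_0_0 : Trie := (.node (.node (.leaf 1) (.leaf 67108891)) (.node (.leaf 33554477) (.leaf 102139959)))

/-- Part of a collection table. -/
def tblM12_0_1 : Trie := (.node (.node (.leaf 2097210) (.leaf 71116316)) (.node (.leaf 35712598) (.leaf 103539824)))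

/-- Part of a collection table. -/
def tblM12_0_2 : Trie := (.node (.node (.leaf 4194351) (.leaf 72845365)) (.node (.leaf 37796419) (.leaf 104970841)))

/-- Part of a collection table. -/
def tblM12_0_3 : Trie := (.node (.node (.leaf 8205864) (.leaf 74010638)) (.node (.leaf 41786436) (.leaf 109024098)))

/-- Part of a collection table. -/
def tblM12_0_4 : Trie := (.node (.node (.leaf 8388649) (.leaf 76834319)) (.node (.leaf 41986629) (.leaf 109225315)))

/-- Part of a collection table. -/
def tblM12_0_5 : Trie := (.node (.node (.leaf 10489554) (.leaf 78187080)) (.node (.leaf 44059390) (.leaf 113214308)))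

/-- Part of a collection table. -/
def tblM12_0_6 : Trie := (.node (.node (.leaf 12585671) (.leaf 79889889)) (.node (.leaf 46144235) (.leaf 114654413)))

/-- Part of a collection table. -/
def tblM12_0_7 : Trie := (.node (.node (.leaf 16596160) (.leaf 83705050)) (.node (.leaf 50150636) (.leaf 116110582)))

/-- Part of a collection table. -/
def tblM12_0_8 : Trie := (.node (.node (.leaf 16777247) (.leaf 84870073)) (.node (.leaf 50361011) (.leaf 119091221)))

/-- Part of a collection table. -/
def tblM12_0_9 : Trie := (.node (.node (.leaf 20788760) (.leaf 87110658)) (.node (.leaf 54351028) (.leaf 120059566)))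

/-- Part of a collection table. -/
def tblM12_0_10 : Trie := (.node (.node (.leaf 22493361) (.leaf 89094679)) (.node (.leaf 56094813) (.leaf 123335675)))

/-- Part of a collection table. -/
def tblM12_0_11 : Trie := (.node (.node (.leaf 23658506) (.leaf 90965648)) (.node (.leaf 57222822) (.leaf 125486396)))

/-- Part of a collection table. -/
def tblM12_0_12 : Trie := (.node (.node (.leaf 26490379) (.leaf 93401233)) (.node (.leaf 60035239) (.leaf 126350141)))

/-- Part of a collection table. -/
def tblM12_0_13 : Trie := (.node (.node (.leaf 27871820) (.leaf 95374570)) (.node (.leaf 61439200) (.leaf 129596998)))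

/-- Part of a collection table. -/
def tblM12_0_14 : Trie := (.node (.node (.leaf 29615461) (.leaf 97584895)) (.node (.leaf 63142281) (.leaf 130514707)))

/-- Part of a collection table. -/
def tblM12_0_15 : Trie := (.node (.node (.leaf 33373406) (.leaf 99762040)) (.node (.leaf 66932338) (.leaf 132386004)))

/-- Part of a collection table. -/
def tblM12_1_0 : Trie := (.node (.node (.leaf 2) (.leaf 1048590)) (.node (.leaf 524306) (.leaf 1590302)))

/-- Part of a collection table. -/
def tblM12_1_1 : Trie := (.node (.node (.leaf 3) (.leaf 1048591)) (.node (.leaf 524307) (.leaf 1590303)))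

/-- Part of a collection table. -/
def tblM12_1_2 : Trie := (.node (.node (.leaf 65536) (.leaf 1114124)) (.node (.leaf 589840) (.leaf 1655836)))

/-- Part of a collection table. -/
def tblM12_1_3 : Trie := (.node (.node (.leaf 65537) (.leaf 1114125)) (.node (.leaf 589841) (.leaf 1655837)))

/-- Part of a collection table. -/
def tblM12_1_4 : Trie := (.node (.node (.leaf 131130) (.leaf 1240630)) (.node (.leaf 655786) (.leaf 1747878)))

/-- Part of a collection table. -/
def tblM12_1_5 : Trie := (.node (.node (.leaf 131131) (.leaf 1240631)) (.node (.leaf 655787) (.leaf 1747879)))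

/-- Part of a collection table. -/
def tblM12_1_6 : Trie := (.node (.node (.leaf 196664) (.leaf 1306164)) (.node (.leaf 721320) (.leaf 1813412)))

/-- Part of a collection table. -/
def tblM12_1_7 : Trie := (.node (.node (.leaf 196665) (.leaf 1306165)) (.node (.leaf 721321) (.leaf 1813413)))

/-- Part of a collection table. -/
def tblM12_1_8 : Trie := (.node (.node (.leaf 262170) (.leaf 1335958)) (.node (.leaf 786570) (.leaf 1844742)))

/-- Part of a collection table. -/
def tblM12_1_9 : Trie := (.node (.node (.leaf 262171) (.leaf 1335959)) (.node (.leaf 786571) (.leaf 1844743)))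

/-- Part of a collection table. -/
def tblM12_1_10 : Trie := (.node (.node (.leaf 327704) (.leaf 1401492)) (.node (.leaf 852104) (.leaf 1910276)))

/-- Part of a collection table. -/
def tblM12_1_11 : Trie := (.node (.node (.leaf 327705) (.leaf 1401493)) (.node (.leaf 852105) (.leaf 1910277)))

/-- Part of a collection table. -/
def tblM12_1_12 : Trie := (.node (.node (.leaf 397090) (.leaf 1475502)) (.node (.leaf 921138) (.leaf 2016958)))

/-- Part of a collection table. -/
def tblM12_1_13 : Trie := (.node (.node (.leaf 397091) (.leaf 1475503)) (.node (.leaf 921139) (.leaf 2016959)))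

/-- Part of a collection table. -/
def tblM12_1_14 : Trie := (.node (.node (.leaf 462624) (.leaf 1541036)) (.node (.leaf 986672) (.leaf 2082492)))

/-- Part of a collection table. -/
def tblM12_1_15 : Trie := (.node (.node (.leaf 462625) (.leaf 1541037)) (.node (.leaf 986673) (.leaf 2082493)))

/-- Part of a collection table. -/
def tblM12_2_0 : Trie := (.node (.node (.leaf 4) (.leaf 32820)) (.node (.leaf 16404) (.leaf 49316)))

/-- Part of a collection table. -/
def tblM12_2_1 : Trie := (.node (.node (.leaf 5) (.leaf 32821)) (.node (.leaf 16405) (.leaf 49317)))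

/-- Part of a collection table. -/
def tblM12_2_2 : Trie := (.node (.node (.leaf 6) (.leaf 32822)) (.node (.leaf 16406) (.leaf 49318)))

/-- Part of a collection table. -/
def tblM12_2_3 : Trie := (.node (.node (.leaf 7) (.leaf 32823)) (.node (.leaf 16407) (.leaf 49319)))

/-- Part of a collection table. -/
def tblM12_2_4 : Trie := (.node (.node (.leaf 4096) (.leaf 36912)) (.node (.leaf 20496) (.leaf 53408)))

/-- Part of a collection table. -/
def tblM12_2_5 : Trie := (.node (.node (.leaf 4097) (.leaf 36913)) (.node (.leaf 20497) (.leaf 53409)))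

/-- Part of a collection table. -/
def tblM12_2_6 : Trie := (.node (.node (.leaf 4098) (.leaf 36914)) (.node (.leaf 20498) (.leaf 53410)))

/-- Part of a collection table. -/
def tblM12_2_7 : Trie := (.node (.node (.leaf 4099) (.leaf 36915)) (.node (.leaf 20499) (.leaf 53411)))

/-- Part of a collection table. -/
def tblM12_2_8 : Trie := (.node (.node (.leaf 8220) (.leaf 41132)) (.node (.leaf 24716) (.leaf 57532)))

/-- Part of a collection table. -/
def tblM12_2_9 : Trie := (.node (.node (.leaf 8221) (.leaf 41133)) (.node (.leaf 24717) (.leaf 57533)))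

/-- Part of a collection table. -/
def tblM12_2_10 : Trie := (.node (.node (.leaf 8222) (.leaf 41134)) (.node (.leaf 24718) (.leaf 57534)))

/-- Part of a collection table. -/
def tblM12_2_11 : Trie := (.node (.node (.leaf 8223) (.leaf 41135)) (.node (.leaf 24719) (.leaf 57535)))

/-- Part of a collection table. -/
def tblM12_2_12 : Trie := (.node (.node (.leaf 12312) (.leaf 45224)) (.node (.leaf 28808) (.leaf 61624)))

/-- Part of a collection table. -/
def tblM12_2_13 : Trie := (.node (.node (.leaf 12313) (.leaf 45225)) (.node (.leaf 28809) (.leaf 61625)))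

/-- Part of a collection table. -/
def tblM12_2_14 : Trie := (.node (.node (.leaf 12314) (.leaf 45226)) (.node (.leaf 28810) (.leaf 61626)))

/-- Part of a collection table. -/
def tblM12_2_15 : Trie := (.node (.node (.leaf 12315) (.leaf 45227)) (.node (.leaf 28811) (.leaf 61627)))

/-- Part of a collection table. -/
def tblM12_3_0 : Trie := (.node (.node (.leaf 8) (.leaf 2104)) (.node (.leaf 1048) (.leaf 3240)))

/-- Part of a collection table. -/
def tblM12_3_1 : Trie := (.node (.node (.leaf 9) (.leaf 2105)) (.node (.leaf 1049) (.leaf 3241)))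

/-- Part of a collection table. -/
def tblM12_3_2 : Trie := (.node (.node (.leaf 10) (.leaf 2106)) (.node (.leaf 1050) (.leaf 3242)))

/-- Part of a collection table. -/
def tblM12_3_3 : Trie := (.node (.node (.leaf 11) (.leaf 2107)) (.node (.leaf 1051) (.leaf 3243)))

/-- Part of a collection table. -/
def tblM12_3_4 : Trie := (.node (.node (.leaf 12) (.leaf 2108)) (.node (.leaf 1052) (.leaf 3244)))

/-- Part of a collection table. -/
def tblM12_3_5 : Trie := (.node (.node (.leaf 13) (.leaf 2109)) (.node (.leaf 1053) (.leaf 3245)))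

/-- Part of a collection table. -/
def tblM12_3_6 : Trie := (.node (.node (.leaf 14) (.leaf 2110)) (.node (.leaf 1054) (.leaf 3246)))

/-- Part of a collection table. -/
def tblM12_3_7 : Trie := (.node (.node (.leaf 15) (.leaf 2111)) (.node (.leaf 1055) (.leaf 3247)))

/-- Part of a collection table. -/
def tblM12_3_8 : Trie := (.node (.node (.leaf 528) (.leaf 2720)) (.node (.leaf 1664) (.leaf 3760)))

/-- Part of a collection table. -/
def tblM12_3_9 : Trie := (.node (.node (.leaf 529) (.leaf 2721)) (.node (.leaf 1665) (.leaf 3761)))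

/-- Part of a collection table. -/
def tblM12_3_10 : Trie := (.node (.node (.leaf 530) (.leaf 2722)) (.node (.leaf 1666) (.leaf 3762)))

/-- Part of a collection table. -/
def tblM12_3_11 : Trie := (.node (.node (.leaf 531) (.leaf 2723)) (.node (.leaf 1667) (.leaf 3763)))

/-- Part of a collection table. -/
def tblM12_3_12 : Trie := (.node (.node (.leaf 532) (.leaf 2724)) (.node (.leaf 1668) (.leaf 3764)))

/-- Part of a collection table. -/
def tblM12_3_13 : Trie := (.node (.node (.leaf 533) (.leaf 2725)) (.node (.leaf 1669) (.leaf 3765)))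

/-- Part of a collection table. -/
def tblM12_3_14 : Trie := (.node (.node (.leaf 534) (.leaf 2726)) (.node (.leaf 1670) (.leaf 3766)))

/-- Part of a collection table. -/
def tblM12_3_15 : Trie := (.node (.node (.leaf 535) (.leaf 2727)) (.node (.leaf 1671) (.leaf 3767)))

/-- Part of a collection table. -/
def tblM12_4_0 : Trie := (.node (.node (.leaf 16) (.leaf 304)) (.node (.leaf 128) (.leaf 416)))

/-- Part of a collection table. -/
def tblM12_4_1 : Trie := (.node (.node (.leaf 17) (.leaf 305)) (.node (.leaf 129) (.leaf 417)))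

/-- Part of a collection table. -/
def tblM12_4_2 : Trie := (.node (.node (.leaf 18) (.leaf 306)) (.node (.leaf 130) (.leaf 418)))

/-- Part of a collection table. -/
def tblM12_4_3 : Trie := (.node (.node (.leaf 19) (.leaf 307)) (.node (.leaf 131) (.leaf 419)))

/-- Part of a collection table. -/
def tblM12_4_4 : Trie := (.node (.node (.leaf 20) (.leaf 308)) (.node (.leaf 132) (.leaf 420)))

/-- Part of a collection table. -/
def tblM12_4_5 : Trie := (.node (.node (.leaf 21) (.leaf 309)) (.node (.leaf 133) (.leaf 421)))

/-- Part of a collection table. -/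
def tblM12_4_6 : Trie := (.node (.node (.leaf 22) (.leaf 310)) (.node (.leaf 134) (.leaf 422)))

/-- Part of a collection table. -/
def tblM12_4_7 : Trie := (.node (.node (.leaf 23) (.leaf 311)) (.node (.leaf 135) (.leaf 423)))

/-- Part of a collection table. -/
def tblM12_4_8 : Trie := (.node (.node (.leaf 24) (.leaf 312)) (.node (.leaf 136) (.leaf 424)))

/-- Part of a collection table. -/
def tblM12_4_9 : Trie := (.node (.node (.leaf 25) (.leaf 313)) (.node (.leaf 137) (.leaf 425)))

/-- Part of a collection table. -/
def tblM12_4_10 : Trie := (.node (.node (.leaf 26) (.leaf 314)) (.node (.leaf 138) (.leaf 426)))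

/-- Part of a collection table. -/
def tblM12_4_11 : Trie := (.node (.node (.leaf 27) (.leaf 315)) (.node (.leaf 139) (.leaf 427)))

/-- Part of a collection table. -/
def tblM12_4_12 : Trie := (.node (.node (.leaf 28) (.leaf 316)) (.node (.leaf 140) (.leaf 428)))

/-- Part of a collection table. -/
def tblM12_4_13 : Trie := (.node (.node (.leaf 29) (.leaf 317)) (.node (.leaf 141) (.leaf 429)))

/-- Part of a collection table. -/
def tblM12_4_14 : Trie := (.node (.node (.leaf 30) (.leaf 318)) (.node (.leaf 142) (.leaf 430)))

/-- Part of a collection table. -/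
def tblM12_4_15 : Trie := (.node (.node (.leaf 31) (.leaf 319)) (.node (.leaf 143) (.leaf 431)))

/-- Part of a collection table. -/
def tblM12_5_0 : Trie := (.node (.node (.leaf 32) (.leaf 64)) (.node (.leaf 48) (.leaf 80)))

/-- Part of a collection table. -/
def tblM12_5_1 : Trie := (.node (.node (.leaf 33) (.leaf 65)) (.node (.leaf 49) (.leaf 81)))

/-- Part of a collection table. -/
def tblM12_5_2 : Trie := (.node (.node (.leaf 34) (.leaf 66)) (.node (.leaf 50) (.leaf 82)))

/-- Part of a collection table. -/
def tblM12_5_3 : Trie := (.node (.node (.leaf 35) (.leaf 67)) (.node (.leaf 51) (.leaf 83)))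

/-- Part of a collection table. -/
def tblM12_5_4 : Trie := (.node (.node (.leaf 36) (.leaf 68)) (.node (.leaf 52) (.leaf 84)))

/-- Part of a collection table. -/
def tblM12_5_5 : Trie := (.node (.node (.leaf 37) (.leaf 69)) (.node (.leaf 53) (.leaf 85)))

/-- Part of a collection table. -/
def tblM12_5_6 : Trie := (.node (.node (.leaf 38) (.leaf 70)) (.node (.leaf 54) (.leaf 86)))

/-- Part of a collection table. -/
def tblM12_5_7 : Trie := (.node (.node (.leaf 39) (.leaf 71)) (.node (.leaf 55) (.leaf 87)))

/-- Part of a collection table. -/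
def tblM12_5_8 : Trie := (.node (.node (.leaf 40) (.leaf 72)) (.node (.leaf 56) (.leaf 88)))

/-- Part of a collection table. -/
def tblM12_5_9 : Trie := (.node (.node (.leaf 41) (.leaf 73)) (.node (.leaf 57) (.leaf 89)))

/-- Part of a collection table. -/
def tblM12_5_10 : Trie := (.node (.node (.leaf 42) (.leaf 74)) (.node (.leaf 58) (.leaf 90)))

/-- Part of a collection table. -/
def tblM12_5_11 : Trie := (.node (.node (.leaf 43) (.leaf 75)) (.node (.leaf 59) (.leaf 91)))

/-- Part of a collection table. -/
def tblM12_5_12 : Trie := (.node (.node (.leaf 44) (.leaf 76)) (.node (.leaf 60) (.leaf 92)))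

/-- Part of a collection table. -/
def tblM12_5_13 : Trie := (.node (.node (.leaf 45) (.leaf 77)) (.node (.leaf 61) (.leaf 93)))

/-- Part of a collection table. -/
def tblM12_5_14 : Trie := (.node (.node (.leaf 46) (.leaf 78)) (.node (.leaf 62) (.leaf 94)))

/-- Part of a collection table. -/
def tblM12_5_15 : Trie := (.node (.node (.leaf 47) (.leaf 79)) (.node (.leaf 63) (.leaf 95)))

/-- Collector for `M12`. -/
def colM12 : Collector where
  n := 6
  rels := [([5, 5], []),
    ([4, 4], []),
    ([5, 4], [4, 5]),
    ([3, 3], [4]),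
    ([4, 3], [3, 4]),
    ([5, 3], [3, 4, 5]),
    ([2, 2], []),
    ([3, 2], [2, 3, 4]),
    ([4, 2], [2, 4]),
    ([5, 2], [2, 4, 5]),
    ([1, 1], []),
    ([2, 1], [1, 3, 4, 5]),
    ([3, 1], [1, 3, 4]),
    ([4, 1], [1, 4]),
    ([5, 1], [1, 2, 3]),
    ([0, 0], [1, 3, 4, 5]),
    ([1, 0], [0, 1, 2, 3, 5]),
    ([2, 0], [0, 3, 5]),
    ([3, 0], [0, 1, 2, 3, 4]),
    ([4, 0], [0, 2, 3, 5]),
    ([5, 0], [0, 1, 3, 4])]
  table := [(.node (.node (.node (.node tblM12_0_0 tblM12_0_8) (.node tblM12_0_4 tblM12_0_12)) (.node (.node tblM12_0_2 tblM12_0_10) (.node tblM12_0_6 tblM12_0_14))) (.node (.node (.node tblM12_0_1 tblM12_0_9) (.node tblM12_0_5 tblM12_0_13)) (.node (.node tblM12_0_3 tblM12_0_11) (.node tblM12_0_7 tblM12_0_15)))),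
    (.node (.node (.node (.node tblM12_1_0 tblM12_1_8) (.node tblM12_1_4 tblM12_1_12)) (.node (.node tblM12_1_2 tblM12_1_10) (.node tblM12_1_6 tblM12_1_14))) (.node (.node (.node tblM12_1_1 tblM12_1_9) (.node tblM12_1_5 tblM12_1_13)) (.node (.node tblM12_1_3 tblM12_1_11) (.node tblM12_1_7 tblM12_1_15)))),
    (.node (.node (.node (.node tblM12_2_0 tblM12_2_8) (.node tblM12_2_4 tblM12_2_12)) (.node (.node tblM12_2_2 tblM12_2_10) (.node tblM12_2_6 tblM12_2_14))) (.node (.node (.node tblM12_2_1 tblM12_2_9) (.node tblM12_2_5 tblM12_2_13)) (.node (.node tblM12_2_3 tblM12_2_11) (.node tblM12_2_7 tblM12_2_15)))),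
    (.node (.node (.node (.node tblM12_3_0 tblM12_3_8) (.node tblM12_3_4 tblM12_3_12)) (.node (.node tblM12_3_2 tblM12_3_10) (.node tblM12_3_6 tblM12_3_14))) (.node (.node (.node tblM12_3_1 tblM12_3_9) (.node tblM12_3_5 tblM12_3_13)) (.node (.node tblM12_3_3 tblM12_3_11) (.node tblM12_3_7 tblM12_3_15)))),
    (.node (.node (.node (.node tblM12_4_0 tblM12_4_8) (.node tblM12_4_4 tblM12_4_12)) (.node (.node tblM12_4_2 tblM12_4_10) (.node tblM12_4_6 tblM12_4_14))) (.node (.node (.node tblM12_4_1 tblM12_4_9) (.node tblM12_4_5 tblM12_4_13)) (.node (.node tblM12_4_3 tblM12_4_11) (.node tblM12_4_7 tblM12_4_15)))),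
    (.node (.node (.node (.node tblM12_5_0 tblM12_5_8) (.node tblM12_5_4 tblM12_5_12)) (.node (.node tblM12_5_2 tblM12_5_10) (.node tblM12_5_6 tblM12_5_14))) (.node (.node (.node tblM12_5_1 tblM12_5_9) (.node tblM12_5_5 tblM12_5_13)) (.node (.node tblM12_5_3 tblM12_5_11) (.node tblM12_5_7 tblM12_5_15))))]
  eqs := [.assoc [0] 15,
    .assoc [1] 15,
    .assoc [1] 16,
    .assoc [2] 10,
    .assoc [2] 11,
    .assoc [2] 15,
    .assoc [2] 16,
    .assoc [2] 17,
    .assoc [3] 6,
    .assoc [3] 11,
    .assoc [3] 15,
    .assoc [3] 16,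
    .conj 0 [(0, 0), (10, 16)] [(10, 10)],
    .conj 1 [(0, 0), (2, 38)] [(2, 2)],
    .conj 2 [(0, 0), (2, 38), (4, 40), (10, 32), (12, 18), (24, 58), (30, 24), (34, 52), (36, 22), (48, 62), (54, 12)] [(10, 2), (12, 2), (30, 2), (36, 2), (10, 4), (12, 4), (34, 4), (36, 4)],
    .conj 3 [(0, 0), (9, 53), (46, 60), (55, 9)] [(46, 9), (9, 46)],
    .conj 4 [(0, 0), (4, 13)] [(4, 4)]]
  gauge := [0, 786432, 65536, 0, 1835008, 0]
  comb := [24521, 16512, 16434, 17487, 34, 42602, 65004, 42102, 16768, 44810, 28726, 6235, 9307, 16540, 40079, 81115, 0, 64953, 44351, 44351, 0]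

/-- Certificate for `M12`. -/
def twoM12 : TwoCert where
  sets := [340831]
  col := colM12
  gens := [318494219586972430691823278075709488,
    320164928421094846534343112823682627,
    430370510348236426377172159770539596,
    316022365265004823088183267895167404,
    237088193432378916389358651429618755,
    970499966350631336865513127433832480]
  conjs := [649635012764412691278466079080419713,
    715861705721753027359292798481469830,
    715861705721753027359292798481469830,
    845754257381522617453070794676800784,
    309407587357230128451658693125376432]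
  order := [58, 48, 31, 21, 6, 12, 35, 41, 26, 44, 63, 9, 3, 53, 38, 16, 20, 30, 33, 43, 40, 34, 29, 23, 8, 62, 61, 11, 1, 55, 52, 2, 4, 14, 49, 59, 56, 50, 13, 7, 24, 46, 45, 27, 17, 39, 36, 18, 42, 32, 15, 5, 22, 28, 51, 57, 10, 60, 47, 25, 19, 37, 54, 0]

theorem twoM12_mem : twoM12.memOK = true ∧ twoM12.relOK = true ∧ twoM12.conjOK = true := by decide +kernel

theorem twoM12_order : twoM12.orderOK = true := by decide +kernel

theorem twoM12_table : colM12.tableOK = true := by decide +kernel

theorem twoM12_pair : (decide (4 < 2 ^ colM12.n) && decide (11 < 2 ^ colM12.n) && (colM12.mulNF 4 11).1 == (colM12.mulNF 11 4).1 && (colM12.mulNF 4 4).1 == 0 && colM12.solvedOneOK (pairComm colM12 4 11) [false, false, false, true, false, false, true, false, false, false, false, false, true, false, false, false, false, true, true, true, false]) = true := by decide +kernel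

end CfsgLib.OutMathieu
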