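import Cfsg.Agent.Lib.OutMathieu.MultTwo

/-! Collector certificate for a Sylow `2`-subgroup of `M23`. -/

set_option autoImplicit false
set_option maxRecDepth 100000

namespace CfsgLib.OutMathieu

open CfsgLib.Golay CfsgLib.SchurMult

/-- Part of a collection table. -/
def tblM23_0_0 : Trie := (.node (.node (.node (.leaf 1) (.leaf 17179869301)) (.node (.leaf 8589934699) (.leaf 25773213023))) (.node (.node (.leaf 4294967387) (.leaf 21477726063)) (.node (.leaf 13073939845) (.leaf 30253940209))))

/-- Part of a collection table. -/
def tblM23_0_1 : Trie := (.node (.node (.node (.leaf 268435578) (.leaf 17452238718)) (.node (.leaf 9114887776) (.leaf 26297905892))) (.node (.node (.leaf 4819920464) (.leaf 22001368532)) (.node (.leaf 13242166798) (.leaf 30422167818))))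

/-- Part of a collection table. -/
def tblM23_0_2 : Trie := (.node (.node (.node (.leaf 536870921) (.leaf 17717010189)) (.node (.leaf 9143711715) (.leaf 26326721383))) (.node (.node (.leaf 4848744403) (.leaf 22031232087)) (.node (.leaf 13614217981) (.leaf 30790811129))))

/-- Part of a collection table. -/
def tblM23_0_3 : Trie := (.node (.node (.node (.leaf 805435266) (.leaf 17985304566)) (.node (.leaf 9399446744) (.leaf 26582203372))) (.node (.node (.leaf 5104480744) (.leaf 22287758556)) (.node (.leaf 13916540678) (.leaf 31096541042))))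

/-- Part of a collection table. -/
def tblM23_0_4 : Trie := (.node (.node (.node (.leaf 1073741889) (.leaf 18255712949)) (.node (.leaf 9797949723) (.leaf 26978606127))) (.node (.node (.leaf 5502981675) (.leaf 22684156191)) (.node (.leaf 14181315141) (.leaf 31363408049))))

/-- Part of a collection table. -/
def tblM23_0_5 : Trie := (.node (.node (.node (.leaf 1342177466) (.leaf 18523887038)) (.node (.leaf 10054459920) (.leaf 27233807252))) (.node (.node (.leaf 5759495456) (.leaf 22940412836)) (.node (.leaf 14282305230) (.leaf 31464399818))))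

/-- Part of a collection table. -/
def tblM23_0_6 : Trie := (.node (.node (.node (.leaf 1610612809) (.leaf 18792844621)) (.node (.leaf 10351623827) (.leaf 27532015383))) (.node (.node (.leaf 6056653219) (.leaf 23237572391)) (.node (.leaf 14721590717) (.leaf 31900283065))))

/-- Part of a collection table. -/
def tblM23_0_7 : Trie := (.node (.node (.node (.leaf 1879177154) (.leaf 19061138742)) (.node (.leaf 10607454888) (.leaf 27788639644))) (.node (.node (.leaf 6312491160) (.leaf 23493148076)) (.node (.leaf 14956643014) (.leaf 32134549554))))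

/-- Part of a collection table. -/
def tblM23_0_8 : Trie := (.node (.node (.node (.leaf 2147483763) (.leaf 19331028743)) (.node (.leaf 10979774057) (.leaf 28156758877))) (.node (.node (.leaf 6684806745) (.leaf 23863368045)) (.node (.leaf 15121474423) (.leaf 32303838211))))

/-- Part of a collection table. -/
def tblM23_0_9 : Trie := (.node (.node (.node (.leaf 2672545416) (.leaf 19852677516)) (.node (.leaf 11245599074) (.leaf 28428611046))) (.node (.node (.leaf 6950631762) (.leaf 24132068054)) (.node (.leaf 15371318396) (.leaf 32548696952))))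

/-- Part of a collection table. -/
def tblM23_0_10 : Trie := (.node (.node (.node (.leaf 2701139723) (.leaf 19881263119)) (.node (.leaf 11278613329) (.leaf 28461097173))) (.node (.node (.leaf 6983640673) (.leaf 24166658789)) (.node (.leaf 15774802175) (.leaf 32958736379))))

/-- Part of a collection table. -/
def tblM23_0_11 : Trie := (.node (.node (.node (.leaf 2957109376) (.leaf 20136978676)) (.node (.leaf 11547044074) (.leaf 28730322398))) (.node (.node (.leaf 7252076762) (.leaf 24434835438)) (.node (.leaf 16022607108) (.leaf 33202607472))))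

/-- Part of a collection table. -/
def tblM23_0_12 : Trie := (.node (.node (.node (.leaf 3355446723) (.leaf 20537417527)) (.node (.leaf 11815424169) (.leaf 28996601757))) (.node (.node (.leaf 7520453273) (.leaf 24701110189)) (.node (.leaf 16164698311) (.leaf 33342597683))))

/-- Part of a collection table. -/
def tblM23_0_13 : Trie := (.node (.node (.node (.leaf 3612070328) (.leaf 20792722620)) (.node (.leaf 12085966242) (.leaf 29266883366))) (.node (.node (.leaf 7790995346) (.leaf 24971390486)) (.node (.leaf 16409784268) (.leaf 33592140488))))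

/-- Part of a collection table. -/
def tblM23_0_14 : Trie := (.node (.node (.node (.leaf 3909094715) (.leaf 21090801727)) (.node (.leaf 12587822993) (.leaf 29767165461))) (.node (.node (.leaf 8292851873) (.leaf 25473771045)) (.node (.leaf 16815661903) (.leaf 33997762123))))

/-- Part of a collection table. -/
def tblM23_0_15 : Trie := (.node (.node (.node (.leaf 4165073584) (.leaf 21346516804)) (.node (.leaf 12856785962) (.leaf 30035864350))) (.node (.node (.leaf 8561815066) (.leaf 25742469934)) (.node (.leaf 17131064116) (.leaf 34310278848))))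

/-- Part of a collection table. -/
def tblM23_1_0 : Trie := (.node (.node (.node (.leaf 2) (.leaf 134217778)) (.node (.leaf 67108886) (.leaf 201328230))) (.node (.node (.leaf 33554470) (.leaf 167774550)) (.node (.leaf 101844034) (.leaf 236066418))))

/-- Part of a collection table. -/
def tblM23_1_1 : Trie := (.node (.node (.node (.leaf 3) (.leaf 134217779)) (.node (.leaf 67108887) (.leaf 201328231))) (.node (.node (.leaf 33554471) (.leaf 167774551)) (.node (.leaf 101844035) (.leaf 236066419))))

/-- Part of a collection table. -/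
def tblM23_1_2 : Trie := (.node (.node (.node (.leaf 4194416) (.leaf 138420160)) (.node (.leaf 74978980) (.leaf 209199060))) (.node (.node (.leaf 41421716) (.leaf 175640036)) (.node (.leaf 108135344) (.leaf 242355712))))

/-- Part of a collection table. -/
def tblM23_1_3 : Trie := (.node (.node (.node (.leaf 4194417) (.leaf 138420161)) (.node (.leaf 74978981) (.leaf 209199061))) (.node (.node (.leaf 41421717) (.leaf 175640037)) (.node (.leaf 108135345) (.leaf 242355713))))

/-- Part of a collection table. -/
def tblM23_1_4 : Trie := (.node (.node (.node (.leaf 8388614) (.leaf 142606390)) (.node (.leaf 75628562) (.leaf 209847906))) (.node (.node (.leaf 42074146) (.leaf 176294226)) (.node (.leaf 110232646) (.leaf 244455030))))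

/-- Part of a collection table. -/
def tblM23_1_5 : Trie := (.node (.node (.node (.leaf 8388615) (.leaf 142606391)) (.node (.leaf 75628563) (.leaf 209847907))) (.node (.node (.leaf 42074147) (.leaf 176294227)) (.node (.leaf 110232647) (.leaf 244455031))))

/-- Part of a collection table. -/
def tblM23_1_6 : Trie := (.node (.node (.node (.leaf 16255092) (.leaf 150476740)) (.node (.leaf 79830688) (.leaf 214046672))) (.node (.node (.leaf 46269328) (.leaf 180487648)) (.node (.leaf 113904564) (.leaf 248120836))))

/-- Part of a collection table. -/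
def tblM23_1_7 : Trie := (.node (.node (.node (.leaf 16255093) (.leaf 150476741)) (.node (.leaf 79830689) (.leaf 214046673))) (.node (.node (.leaf 46269329) (.leaf 180487649)) (.node (.leaf 113904565) (.leaf 248120837))))

/-- Part of a collection table. -/
def tblM23_1_8 : Trie := (.node (.node (.node (.leaf 16777338) (.leaf 151003082)) (.node (.leaf 87820062) (.leaf 222036334))) (.node (.node (.leaf 54265646) (.leaf 188485214)) (.node (.leaf 120197562) (.leaf 254417930))))

/-- Part of a collection table. -/
def tblM23_1_9 : Trie := (.node (.node (.node (.leaf 16777339) (.leaf 151003083)) (.node (.leaf 87820063) (.leaf 222036335))) (.node (.node (.leaf 54265647) (.leaf 188485215)) (.node (.leaf 120197563) (.leaf 254417931))))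

/-- Part of a collection table. -/
def tblM23_1_10 : Trie := (.node (.node (.node (.leaf 21088136) (.leaf 155305912)) (.node (.leaf 88463660) (.leaf 222679132))) (.node (.node (.leaf 54903836) (.leaf 189121132)) (.node (.leaf 122405832) (.leaf 256627192))))

/-- Part of a collection table. -/
def tblM23_1_11 : Trie := (.node (.node (.node (.leaf 21088137) (.leaf 155305913)) (.node (.leaf 88463661) (.leaf 222679133))) (.node (.node (.leaf 54903837) (.leaf 189121133)) (.node (.leaf 122405833) (.leaf 256627193))))

/-- Part of a collection table. -/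
def tblM23_1_12 : Trie := (.node (.node (.node (.leaf 25165950) (.leaf 159391694)) (.node (.leaf 96339738) (.leaf 230556010))) (.node (.node (.leaf 62785322) (.leaf 197004890)) (.node (.leaf 128586174) (.leaf 262806542))))

/-- Part of a collection table. -/
def tblM23_1_13 : Trie := (.node (.node (.node (.leaf 25165951) (.leaf 159391695)) (.node (.leaf 96339739) (.leaf 230556011))) (.node (.node (.leaf 62785323) (.leaf 197004891)) (.node (.leaf 128586175) (.leaf 262806543))))

/-- Part of a collection table. -/
def tblM23_1_14 : Trie := (.node (.node (.node (.leaf 33148812) (.leaf 167366588)) (.node (.leaf 100651304) (.leaf 234870872))) (.node (.node (.leaf 67095576) (.leaf 201312872)) (.node (.leaf 133417932) (.leaf 267639292))))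

/-- Part of a collection table. -/
def tblM23_1_15 : Trie := (.node (.node (.node (.leaf 33148813) (.leaf 167366589)) (.node (.leaf 100651305) (.leaf 234870873))) (.node (.node (.leaf 67095577) (.leaf 201312873)) (.node (.leaf 133417933) (.leaf 267639293))))

/-- Part of a collection table. -/
def tblM23_2_0 : Trie := (.node (.node (.node (.leaf 4) (.leaf 2097220)) (.node (.leaf 1048596) (.leaf 3145812))) (.node (.node (.leaf 524324) (.leaf 2621540)) (.node (.leaf 1574964) (.leaf 3672180))))

/-- Part of a collection table. -/
def tblM23_2_1 : Trie := (.node (.node (.node (.leaf 5) (.leaf 2097221)) (.node (.leaf 1048597) (.leaf 3145813))) (.node (.node (.leaf 524325) (.leaf 2621541)) (.node (.leaf 1574965) (.leaf 3672181))))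

/-- Part of a collection table. -/
def tblM23_2_2 : Trie := (.node (.node (.node (.leaf 6) (.leaf 2097222)) (.node (.leaf 1048598) (.leaf 3145814))) (.node (.node (.leaf 524326) (.leaf 2621542)) (.node (.leaf 1574966) (.leaf 3672182))))

/-- Part of a collection table. -/
def tblM23_2_3 : Trie := (.node (.node (.node (.leaf 7) (.leaf 2097223)) (.node (.leaf 1048599) (.leaf 3145815))) (.node (.node (.leaf 524327) (.leaf 2621543)) (.node (.leaf 1574967) (.leaf 3672183))))

/-- Part of a collection table. -/
def tblM23_2_4 : Trie := (.node (.node (.node (.leaf 131072) (.leaf 2228288)) (.node (.leaf 1179664) (.leaf 3276880))) (.node (.node (.leaf 655392) (.leaf 2752608)) (.node (.leaf 1706032) (.leaf 3803248))))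

/-- Part of a collection table. -/
def tblM23_2_5 : Trie := (.node (.node (.node (.leaf 131073) (.leaf 2228289)) (.node (.leaf 1179665) (.leaf 3276881))) (.node (.node (.leaf 655393) (.leaf 2752609)) (.node (.leaf 1706033) (.leaf 3803249))))

/-- Part of a collection table. -/
def tblM23_2_6 : Trie := (.node (.node (.node (.leaf 131074) (.leaf 2228290)) (.node (.leaf 1179666) (.leaf 3276882))) (.node (.node (.leaf 655394) (.leaf 2752610)) (.node (.leaf 1706034) (.leaf 3803250))))

/-- Part of a collection table. -/
def tblM23_2_7 : Trie := (.node (.node (.node (.leaf 131075) (.leaf 2228291)) (.node (.leaf 1179667) (.leaf 3276883))) (.node (.node (.leaf 655395) (.leaf 2752611)) (.node (.leaf 1706035) (.leaf 3803251))))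

/-- Part of a collection table. -/
def tblM23_2_8 : Trie := (.node (.node (.node (.leaf 262268) (.leaf 2359484)) (.node (.leaf 1318572) (.leaf 3415788))) (.node (.node (.leaf 787356) (.leaf 2884572)) (.node (.leaf 1837004) (.leaf 3933964))))

/-- Part of a collection table. -/
def tblM23_2_9 : Trie := (.node (.node (.node (.leaf 262269) (.leaf 2359485)) (.node (.leaf 1318573) (.leaf 3415789))) (.node (.node (.leaf 787357) (.leaf 2884573)) (.node (.leaf 1837005) (.leaf 3933965))))

/-- Part of a collection table. -/
def tblM23_2_10 : Trie := (.node (.node (.node (.leaf 262270) (.leaf 2359486)) (.node (.leaf 1318574) (.leaf 3415790))) (.node (.node (.leaf 787358) (.leaf 2884574)) (.node (.leaf 1837006) (.leaf 3933966))))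

/-- Part of a collection table. -/
def tblM23_2_11 : Trie := (.node (.node (.node (.leaf 262271) (.leaf 2359487)) (.node (.leaf 1318575) (.leaf 3415791))) (.node (.node (.leaf 787359) (.leaf 2884575)) (.node (.leaf 1837007) (.leaf 3933967))))

/-- Part of a collection table. -/
def tblM23_2_12 : Trie := (.node (.node (.node (.leaf 393336) (.leaf 2490552)) (.node (.leaf 1449640) (.leaf 3546856))) (.node (.node (.leaf 918424) (.leaf 3015640)) (.node (.leaf 1968072) (.leaf 4065032))))

/-- Part of a collection table. -/
def tblM23_2_13 : Trie := (.node (.node (.node (.leaf 393337) (.leaf 2490553)) (.node (.leaf 1449641) (.leaf 3546857))) (.node (.node (.leaf 918425) (.leaf 3015641)) (.node (.leaf 1968073) (.leaf 4065033))))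

/-- Part of a collection table. -/
def tblM23_2_14 : Trie := (.node (.node (.node (.leaf 393338) (.leaf 2490554)) (.node (.leaf 1449642) (.leaf 3546858))) (.node (.node (.leaf 918426) (.leaf 3015642)) (.node (.leaf 1968074) (.leaf 4065034))))

/-- Part of a collection table. -/
def tblM23_2_15 : Trie := (.node (.node (.node (.leaf 393339) (.leaf 2490555)) (.node (.leaf 1449643) (.leaf 3546859))) (.node (.node (.leaf 918427) (.leaf 3015643)) (.node (.leaf 1968075) (.leaf 4065035))))

/-- Part of a collection table. -/
def tblM23_3_0 : Trie := (.node (.node (.node (.leaf 8) (.leaf 65608)) (.node (.leaf 32856) (.leaf 98456))) (.node (.node (.leaf 16488) (.leaf 82088)) (.node (.leaf 55480) (.leaf 121080))))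

/-- Part of a collection table. -/
def tblM23_3_1 : Trie := (.node (.node (.node (.leaf 9) (.leaf 65609)) (.node (.leaf 32857) (.leaf 98457))) (.node (.node (.leaf 16489) (.leaf 82089)) (.node (.leaf 55481) (.leaf 121081))))

/-- Part of a collection table. -/
def tblM23_3_2 : Trie := (.node (.node (.node (.leaf 10) (.leaf 65610)) (.node (.leaf 32858) (.leaf 98458))) (.node (.node (.leaf 16490) (.leaf 82090)) (.node (.leaf 55482) (.leaf 121082))))

/-- Part of a collection table. -/
def tblM23_3_3 : Trie := (.node (.node (.node (.leaf 11) (.leaf 65611)) (.node (.leaf 32859) (.leaf 98459))) (.node (.node (.leaf 16491) (.leaf 82091)) (.node (.leaf 55483) (.leaf 121083))))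

/-- Part of a collection table. -/
def tblM23_3_4 : Trie := (.node (.node (.node (.leaf 12) (.leaf 65612)) (.node (.leaf 32860) (.leaf 98460))) (.node (.node (.leaf 16492) (.leaf 82092)) (.node (.leaf 55484) (.leaf 121084))))

/-- Part of a collection table. -/
def tblM23_3_5 : Trie := (.node (.node (.node (.leaf 13) (.leaf 65613)) (.node (.leaf 32861) (.leaf 98461))) (.node (.node (.leaf 16493) (.leaf 82093)) (.node (.leaf 55485) (.leaf 121085))))

/-- Part of a collection table. -/
def tblM23_3_6 : Trie := (.node (.node (.node (.leaf 14) (.leaf 65614)) (.node (.leaf 32862) (.leaf 98462))) (.node (.node (.leaf 16494) (.leaf 82094)) (.node (.leaf 55486) (.leaf 121086))))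

/-- Part of a collection table. -/
def tblM23_3_7 : Trie := (.node (.node (.node (.leaf 15) (.leaf 65615)) (.node (.leaf 32863) (.leaf 98463))) (.node (.node (.leaf 16495) (.leaf 82095)) (.node (.leaf 55487) (.leaf 121087))))

/-- Part of a collection table. -/
def tblM23_3_8 : Trie := (.node (.node (.node (.leaf 8304) (.leaf 73904)) (.node (.leaf 48864) (.leaf 114208))) (.node (.node (.leaf 25552) (.leaf 90896)) (.node (.leaf 63296) (.leaf 128896))))

/-- Part of a collection table. -/
def tblM23_3_9 : Trie := (.node (.node (.node (.leaf 8305) (.leaf 73905)) (.node (.leaf 48865) (.leaf 114209))) (.node (.node (.leaf 25553) (.leaf 90897)) (.node (.leaf 63297) (.leaf 128897))))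

/-- Part of a collection table. -/
def tblM23_3_10 : Trie := (.node (.node (.node (.leaf 8306) (.leaf 73906)) (.node (.leaf 48866) (.leaf 114210))) (.node (.node (.leaf 25554) (.leaf 90898)) (.node (.leaf 63298) (.leaf 128898))))

/-- Part of a collection table. -/
def tblM23_3_11 : Trie := (.node (.node (.node (.leaf 8307) (.leaf 73907)) (.node (.leaf 48867) (.leaf 114211))) (.node (.node (.leaf 25555) (.leaf 90899)) (.node (.leaf 63299) (.leaf 128899))))

/-- Part of a collection table. -/
def tblM23_3_12 : Trie := (.node (.node (.node (.leaf 8308) (.leaf 73908)) (.node (.leaf 48868) (.leaf 114212))) (.node (.node (.leaf 25556) (.leaf 90900)) (.node (.leaf 63300) (.leaf 128900))))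

/-- Part of a collection table. -/
def tblM23_3_13 : Trie := (.node (.node (.node (.leaf 8309) (.leaf 73909)) (.node (.leaf 48869) (.leaf 114213))) (.node (.node (.leaf 25557) (.leaf 90901)) (.node (.leaf 63301) (.leaf 128901))))

/-- Part of a collection table. -/
def tblM23_3_14 : Trie := (.node (.node (.node (.leaf 8310) (.leaf 73910)) (.node (.leaf 48870) (.leaf 114214))) (.node (.node (.leaf 25558) (.leaf 90902)) (.node (.leaf 63302) (.leaf 128902))))

/-- Part of a collection table. -/
def tblM23_3_15 : Trie := (.node (.node (.node (.leaf 8311) (.leaf 73911)) (.node (.leaf 48871) (.leaf 114215))) (.node (.node (.leaf 25559) (.leaf 90903)) (.node (.leaf 63303) (.leaf 128903))))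

/-- Part of a collection table. -/
def tblM23_4_0 : Trie := (.node (.node (.node (.leaf 16) (.leaf 4176)) (.node (.leaf 2096) (.leaf 6256))) (.node (.node (.leaf 1088) (.leaf 5248)) (.node (.leaf 3680) (.leaf 7840))))

/-- Part of a collection table. -/
def tblM23_4_1 : Trie := (.node (.node (.node (.leaf 17) (.leaf 4177)) (.node (.leaf 2097) (.leaf 6257))) (.node (.node (.leaf 1089) (.leaf 5249)) (.node (.leaf 3681) (.leaf 7841))))

/-- Part of a collection table. -/
def tblM23_4_2 : Trie := (.node (.node (.node (.leaf 18) (.leaf 4178)) (.node (.leaf 2098) (.leaf 6258))) (.node (.node (.leaf 1090) (.leaf 5250)) (.node (.leaf 3682) (.leaf 7842))))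

/-- Part of a collection table. -/
def tblM23_4_3 : Trie := (.node (.node (.node (.leaf 19) (.leaf 4179)) (.node (.leaf 2099) (.leaf 6259))) (.node (.node (.leaf 1091) (.leaf 5251)) (.node (.leaf 3683) (.leaf 7843))))

/-- Part of a collection table. -/
def tblM23_4_4 : Trie := (.node (.node (.node (.leaf 20) (.leaf 4180)) (.node (.leaf 2100) (.leaf 6260))) (.node (.node (.leaf 1092) (.leaf 5252)) (.node (.leaf 3684) (.leaf 7844))))

/-- Part of a collection table. -/
def tblM23_4_5 : Trie := (.node (.node (.node (.leaf 21) (.leaf 4181)) (.node (.leaf 2101) (.leaf 6261))) (.node (.node (.leaf 1093) (.leaf 5253)) (.node (.leaf 3685) (.leaf 7845))))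

/-- Part of a collection table. -/
def tblM23_4_6 : Trie := (.node (.node (.node (.leaf 22) (.leaf 4182)) (.node (.leaf 2102) (.leaf 6262))) (.node (.node (.leaf 1094) (.leaf 5254)) (.node (.leaf 3686) (.leaf 7846))))

/-- Part of a collection table. -/
def tblM23_4_7 : Trie := (.node (.node (.node (.leaf 23) (.leaf 4183)) (.node (.leaf 2103) (.leaf 6263))) (.node (.node (.leaf 1095) (.leaf 5255)) (.node (.leaf 3687) (.leaf 7847))))

/-- Part of a collection table. -/
def tblM23_4_8 : Trie := (.node (.node (.node (.leaf 24) (.leaf 4184)) (.node (.leaf 2104) (.leaf 6264))) (.node (.node (.leaf 1096) (.leaf 5256)) (.node (.leaf 3688) (.leaf 7848))))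

/-- Part of a collection table. -/
def tblM23_4_9 : Trie := (.node (.node (.node (.leaf 25) (.leaf 4185)) (.node (.leaf 2105) (.leaf 6265))) (.node (.node (.leaf 1097) (.leaf 5257)) (.node (.leaf 3689) (.leaf 7849))))

/-- Part of a collection table. -/
def tblM23_4_10 : Trie := (.node (.node (.node (.leaf 26) (.leaf 4186)) (.node (.leaf 2106) (.leaf 6266))) (.node (.node (.leaf 1098) (.leaf 5258)) (.node (.leaf 3690) (.leaf 7850))))

/-- Part of a collection table. -/
def tblM23_4_11 : Trie := (.node (.node (.node (.leaf 27) (.leaf 4187)) (.node (.leaf 2107) (.leaf 6267))) (.node (.node (.leaf 1099) (.leaf 5259)) (.node (.leaf 3691) (.leaf 7851))))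

/-- Part of a collection table. -/
def tblM23_4_12 : Trie := (.node (.node (.node (.leaf 28) (.leaf 4188)) (.node (.leaf 2108) (.leaf 6268))) (.node (.node (.leaf 1100) (.leaf 5260)) (.node (.leaf 3692) (.leaf 7852))))

/-- Part of a collection table. -/
def tblM23_4_13 : Trie := (.node (.node (.node (.leaf 29) (.leaf 4189)) (.node (.leaf 2109) (.leaf 6269))) (.node (.node (.leaf 1101) (.leaf 5261)) (.node (.leaf 3693) (.leaf 7853))))

/-- Part of a collection table. -/
def tblM23_4_14 : Trie := (.node (.node (.node (.leaf 30) (.leaf 4190)) (.node (.leaf 2110) (.leaf 6270))) (.node (.node (.leaf 1102) (.leaf 5262)) (.node (.leaf 3694) (.leaf 7854))))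

/-- Part of a collection table. -/
def tblM23_4_15 : Trie := (.node (.node (.node (.leaf 31) (.leaf 4191)) (.node (.leaf 2111) (.leaf 6271))) (.node (.node (.leaf 1103) (.leaf 5263)) (.node (.leaf 3695) (.leaf 7855))))

/-- Part of a collection table. -/
def tblM23_5_0 : Trie := (.node (.node (.node (.leaf 32) (.leaf 608)) (.node (.leaf 320) (.leaf 896))) (.node (.node (.leaf 48) (.leaf 624)) (.node (.leaf 336) (.leaf 912))))

/-- Part of a collection table. -/
def tblM23_5_1 : Trie := (.node (.node (.node (.leaf 33) (.leaf 609)) (.node (.leaf 321) (.leaf 897))) (.node (.node (.leaf 49) (.leaf 625)) (.node (.leaf 337) (.leaf 913))))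

/-- Part of a collection table. -/
def tblM23_5_2 : Trie := (.node (.node (.node (.leaf 34) (.leaf 610)) (.node (.leaf 322) (.leaf 898))) (.node (.node (.leaf 50) (.leaf 626)) (.node (.leaf 338) (.leaf 914))))

/-- Part of a collection table. -/
def tblM23_5_3 : Trie := (.node (.node (.node (.leaf 35) (.leaf 611)) (.node (.leaf 323) (.leaf 899))) (.node (.node (.leaf 51) (.leaf 627)) (.node (.leaf 339) (.leaf 915))))

/-- Part of a collection table. -/
def tblM23_5_4 : Trie := (.node (.node (.node (.leaf 36) (.leaf 612)) (.node (.leaf 324) (.leaf 900))) (.node (.node (.leaf 52) (.leaf 628)) (.node (.leaf 340) (.leaf 916))))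

/-- Part of a collection table. -/
def tblM23_5_5 : Trie := (.node (.node (.node (.leaf 37) (.leaf 613)) (.node (.leaf 325) (.leaf 901))) (.node (.node (.leaf 53) (.leaf 629)) (.node (.leaf 341) (.leaf 917))))

/-- Part of a collection table. -/
def tblM23_5_6 : Trie := (.node (.node (.node (.leaf 38) (.leaf 614)) (.node (.leaf 326) (.leaf 902))) (.node (.node (.leaf 54) (.leaf 630)) (.node (.leaf 342) (.leaf 918))))

/-- Part of a collection table. -/
def tblM23_5_7 : Trie := (.node (.node (.node (.leaf 39) (.leaf 615)) (.node (.leaf 327) (.leaf 903))) (.node (.node (.leaf 55) (.leaf 631)) (.node (.leaf 343) (.leaf 919))))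

/-- Part of a collection table. -/
def tblM23_5_8 : Trie := (.node (.node (.node (.leaf 40) (.leaf 616)) (.node (.leaf 328) (.leaf 904))) (.node (.node (.leaf 56) (.leaf 632)) (.node (.leaf 344) (.leaf 920))))

/-- Part of a collection table. -/
def tblM23_5_9 : Trie := (.node (.node (.node (.leaf 41) (.leaf 617)) (.node (.leaf 329) (.leaf 905))) (.node (.node (.leaf 57) (.leaf 633)) (.node (.leaf 345) (.leaf 921))))

/-- Part of a collection table. -/
def tblM23_5_10 : Trie := (.node (.node (.node (.leaf 42) (.leaf 618)) (.node (.leaf 330) (.leaf 906))) (.node (.node (.leaf 58) (.leaf 634)) (.node (.leaf 346) (.leaf 922))))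

/-- Part of a collection table. -/
def tblM23_5_11 : Trie := (.node (.node (.node (.leaf 43) (.leaf 619)) (.node (.leaf 331) (.leaf 907))) (.node (.node (.leaf 59) (.leaf 635)) (.node (.leaf 347) (.leaf 923))))

/-- Part of a collection table. -/
def tblM23_5_12 : Trie := (.node (.node (.node (.leaf 44) (.leaf 620)) (.node (.leaf 332) (.leaf 908))) (.node (.node (.leaf 60) (.leaf 636)) (.node (.leaf 348) (.leaf 924))))

/-- Part of a collection table. -/
def tblM23_5_13 : Trie := (.node (.node (.node (.leaf 45) (.leaf 621)) (.node (.leaf 333) (.leaf 909))) (.node (.node (.leaf 61) (.leaf 637)) (.node (.leaf 349) (.leaf 925))))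

/-- Part of a collection table. -/
def tblM23_5_14 : Trie := (.node (.node (.node (.leaf 46) (.leaf 622)) (.node (.leaf 334) (.leaf 910))) (.node (.node (.leaf 62) (.leaf 638)) (.node (.leaf 350) (.leaf 926))))

/-- Part of a collection table. -/
def tblM23_5_15 : Trie := (.node (.node (.node (.leaf 47) (.leaf 623)) (.node (.leaf 335) (.leaf 911))) (.node (.node (.leaf 63) (.leaf 639)) (.node (.leaf 351) (.leaf 927))))

/-- Part of a collection table. -/
def tblM23_6_0 : Trie := (.node (.node (.node (.leaf 64) (.leaf 128)) (.node (.leaf 96) (.leaf 160))) (.node (.node (.leaf 80) (.leaf 144)) (.node (.leaf 112) (.leaf 176))))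

/-- Part of a collection table. -/
def tblM23_6_1 : Trie := (.node (.node (.node (.leaf 65) (.leaf 129)) (.node (.leaf 97) (.leaf 161))) (.node (.node (.leaf 81) (.leaf 145)) (.node (.leaf 113) (.leaf 177))))

/-- Part of a collection table. -/
def tblM23_6_2 : Trie := (.node (.node (.node (.leaf 66) (.leaf 130)) (.node (.leaf 98) (.leaf 162))) (.node (.node (.leaf 82) (.leaf 146)) (.node (.leaf 114) (.leaf 178))))

/-- Part of a collection table. -/
def tblM23_6_3 : Trie := (.node (.node (.node (.leaf 67) (.leaf 131)) (.node (.leaf 99) (.leaf 163))) (.node (.node (.leaf 83) (.leaf 147)) (.node (.leaf 115) (.leaf 179))))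

/-- Part of a collection table. -/
def tblM23_6_4 : Trie := (.node (.node (.node (.leaf 68) (.leaf 132)) (.node (.leaf 100) (.leaf 164))) (.node (.node (.leaf 84) (.leaf 148)) (.node (.leaf 116) (.leaf 180))))

/-- Part of a collection table. -/
def tblM23_6_5 : Trie := (.node (.node (.node (.leaf 69) (.leaf 133)) (.node (.leaf 101) (.leaf 165))) (.node (.node (.leaf 85) (.leaf 149)) (.node (.leaf 117) (.leaf 181))))

/-- Part of a collection table. -/
def tblM23_6_6 : Trie := (.node (.node (.node (.leaf 70) (.leaf 134)) (.node (.leaf 102) (.leaf 166))) (.node (.node (.leaf 86) (.leaf 150)) (.node (.leaf 118) (.leaf 182))))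

/-- Part of a collection table. -/
def tblM23_6_7 : Trie := (.node (.node (.node (.leaf 71) (.leaf 135)) (.node (.leaf 103) (.leaf 167))) (.node (.node (.leaf 87) (.leaf 151)) (.node (.leaf 119) (.leaf 183))))

/-- Part of a collection table. -/
def tblM23_6_8 : Trie := (.node (.node (.node (.leaf 72) (.leaf 136)) (.node (.leaf 104) (.leaf 168))) (.node (.node (.leaf 88) (.leaf 152)) (.node (.leaf 120) (.leaf 184))))

/-- Part of a collection table. -/
def tblM23_6_9 : Trie := (.node (.node (.node (.leaf 73) (.leaf 137)) (.node (.leaf 105) (.leaf 169))) (.node (.node (.leaf 89) (.leaf 153)) (.node (.leaf 121) (.leaf 185))))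

/-- Part of a collection table. -/
def tblM23_6_10 : Trie := (.node (.node (.node (.leaf 74) (.leaf 138)) (.node (.leaf 106) (.leaf 170))) (.node (.node (.leaf 90) (.leaf 154)) (.node (.leaf 122) (.leaf 186))))

/-- Part of a collection table. -/
def tblM23_6_11 : Trie := (.node (.node (.node (.leaf 75) (.leaf 139)) (.node (.leaf 107) (.leaf 171))) (.node (.node (.leaf 91) (.leaf 155)) (.node (.leaf 123) (.leaf 187))))

/-- Part of a collection table. -/
def tblM23_6_12 : Trie := (.node (.node (.node (.leaf 76) (.leaf 140)) (.node (.leaf 108) (.leaf 172))) (.node (.node (.leaf 92) (.leaf 156)) (.node (.leaf 124) (.leaf 188))))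

/-- Part of a collection table. -/
def tblM23_6_13 : Trie := (.node (.node (.node (.leaf 77) (.leaf 141)) (.node (.leaf 109) (.leaf 173))) (.node (.node (.leaf 93) (.leaf 157)) (.node (.leaf 125) (.leaf 189))))

/-- Part of a collection table. -/
def tblM23_6_14 : Trie := (.node (.node (.node (.leaf 78) (.leaf 142)) (.node (.leaf 110) (.leaf 174))) (.node (.node (.leaf 94) (.leaf 158)) (.node (.leaf 126) (.leaf 190))))

/-- Part of a collection table. -/
def tblM23_6_15 : Trie := (.node (.node (.node (.leaf 79) (.leaf 143)) (.node (.leaf 111) (.leaf 175))) (.node (.node (.leaf 95) (.leaf 159)) (.node (.leaf 127) (.leaf 191))))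

/-- Collector for `M23`. -/
def colM23 : Collector where
  n := 7
  rels := [([6, 6], []),
    ([5, 5], [6]),
    ([6, 5], [5, 6]),
    ([4, 4], [6]),
    ([5, 4], [4, 5]),
    ([6, 4], [4, 6]),
    ([3, 3], [4, 5, 6]),
    ([4, 3], [3, 5, 6]),
    ([5, 3], [3, 4, 6]),
    ([6, 3], [3, 6]),
    ([2, 2], []),
    ([3, 2], [2, 3, 4, 5, 6]),
    ([4, 2], [2, 5]),
    ([5, 2], [2, 4]),
    ([6, 2], [2, 6]),
    ([1, 1], [4, 5, 6]),
    ([2, 1], [1, 2]),
    ([3, 1], [1, 3, 4, 5, 6]),
    ([4, 1], [1, 2, 5]),
    ([5, 1], [1, 2, 4]),
    ([6, 1], [1, 4, 5]),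
    ([0, 0], [1, 3, 4, 5, 6]),
    ([1, 0], [0, 3]),
    ([2, 0], [0, 6]),
    ([3, 0], [0, 1, 4, 5, 6]),
    ([4, 0], [0, 1, 3, 4, 6]),
    ([5, 0], [0, 1, 3, 5, 6]),
    ([6, 0], [0, 2, 4, 5, 6])]
  table := [(.node (.node (.node (.node tblM23_0_0 tblM23_0_8) (.node tblM23_0_4 tblM23_0_12)) (.node (.node tblM23_0_2 tblM23_0_10) (.node tblM23_0_6 tblM23_0_14))) (.node (.node (.node tblM23_0_1 tblM23_0_9) (.node tblM23_0_5 tblM23_0_13)) (.node (.node tblM23_0_3 tblM23_0_11) (.node tblM23_0_7 tblM23_0_15)))),
    (.node (.node (.node (.node tblM23_1_0 tblM23_1_8) (.node tblM23_1_4 tblM23_1_12)) (.node (.node tblM23_1_2 tblM23_1_10) (.node tblM23_1_6 tblM23_1_14))) (.node (.node (.node tblM23_1_1 tblM23_1_9) (.node tblM23_1_5 tblM23_1_13)) (.node (.node tblM23_1_3 tblM23_1_11) (.node tblM23_1_7 tblM23_1_15)))),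
    (.node (.node (.node (.node tblM23_2_0 tblM23_2_8) (.node tblM23_2_4 tblM23_2_12)) (.node (.node tblM23_2_2 tblM23_2_10) (.node tblM23_2_6 tblM23_2_14))) (.node (.node (.node tblM23_2_1 tblM23_2_9) (.node tblM23_2_5 tblM23_2_13)) (.node (.node tblM23_2_3 tblM23_2_11) (.node tblM23_2_7 tblM23_2_15)))),
    (.node (.node (.node (.node tblM23_3_0 tblM23_3_8) (.node tblM23_3_4 tblM23_3_12)) (.node (.node tblM23_3_2 tblM23_3_10) (.node tblM23_3_6 tblM23_3_14))) (.node (.node (.node tblM23_3_1 tblM23_3_9) (.node tblM23_3_5 tblM23_3_13)) (.node (.node tblM23_3_3 tblM23_3_11) (.node tblM23_3_7 tblM23_3_15)))),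
    (.node (.node (.node (.node tblM23_4_0 tblM23_4_8) (.node tblM23_4_4 tblM23_4_12)) (.node (.node tblM23_4_2 tblM23_4_10) (.node tblM23_4_6 tblM23_4_14))) (.node (.node (.node tblM23_4_1 tblM23_4_9) (.node tblM23_4_5 tblM23_4_13)) (.node (.node tblM23_4_3 tblM23_4_11) (.node tblM23_4_7 tblM23_4_15)))),
    (.node (.node (.node (.node tblM23_5_0 tblM23_5_8) (.node tblM23_5_4 tblM23_5_12)) (.node (.node tblM23_5_2 tblM23_5_10) (.node tblM23_5_6 tblM23_5_14))) (.node (.node (.node tblM23_5_1 tblM23_5_9) (.node tblM23_5_5 tblM23_5_13)) (.node (.node tblM23_5_3 tblM23_5_11) (.node tblM23_5_7 tblM23_5_15)))),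
    (.node (.node (.node (.node tblM23_6_0 tblM23_6_8) (.node tblM23_6_4 tblM23_6_12)) (.node (.node tblM23_6_2 tblM23_6_10) (.node tblM23_6_6 tblM23_6_14))) (.node (.node (.node tblM23_6_1 tblM23_6_9) (.node tblM23_6_5 tblM23_6_13)) (.node (.node tblM23_6_3 tblM23_6_11) (.node tblM23_6_7 tblM23_6_15))))]
  eqs := [.assoc [0] 21,
    .assoc [1] 15,
    .assoc [1] 21,
    .assoc [1] 22,
    .assoc [2] 15,
    .assoc [2] 21,
    .assoc [2] 22,
    .assoc [2] 23,
    .assoc [3] 6,
    .assoc [3] 10,
    .assoc [3] 15,
    .assoc [3] 16,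
    .assoc [3] 21,
    .assoc [3] 23,
    .assoc [4] 7,
    .assoc [4] 15,
    .assoc [4] 21,
    .assoc [4] 22,
    .conj 0 [(0, 0), (12, 48)] [(12, 12)],
    .conj 1 [(0, 0), (12, 48), (54, 52), (58, 4)] [(54, 12), (12, 54)],
    .conj 2 [(0, 0), (54, 52)] [(54, 54)],
    .conj 3 [(0, 0), (70, 44)] [(70, 70)],
    .conj 4 [(0, 0), (2, 71), (12, 88), (14, 31)] [(14, 2), (2, 12)],
    .conj 5 [(0, 0), (3, 38), (4, 64), (9, 73), (10, 43), (73, 61), (126, 107)] [(10, 3), (73, 3), (10, 4), (4, 9)]]
  gauge := [0, 159383552, 218103808, 0, 83886080, 0, 226492416]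
  comb := [1454131, 12924469, 2578, 13074127, 147704, 4625, 1063721, 2118060, 2097325, 1323739, 1454259, 1323195, 13854963, 13860336, 153067, 1111798, 1323675, 1848315, 2877739, 2832874, 195404, 10957251, 1849087, 0, 0, 88592, 0, 0]

/-- Certificate for `M23`. -/
def twoM23 : TwoCert where
  sets := [8388608]
  col := colM23
  gens := [977016466563541766314212281922406471,
    977009141749603816243704027283072179,
    984817967082281637999347894736494825,
    977010502091138182670585029142498406,
    977012862765497336192919051515889769,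
    977005700044427658273205742099443846,
    984797943402148550079655053022005418]
  conjs := [979619093149572876603916778058554977,
    979619093149572876603916778058554977,
    979619093149572876603916778058554977,
    979619093149572876603916778058554977,
    975520645271020923758556684833357894,
    983550541864589490308571922590421158]
  order := [109, 113, 117, 105, 20, 60, 72, 32, 15, 123, 83, 103, 114, 106, 118, 110, 94, 6, 90, 2, 84, 124, 8, 96, 65, 29, 25, 69, 56, 16, 36, 76, 35, 23, 63, 75, 45, 49, 53, 41, 1, 93, 89, 5, 99, 87, 127, 11, 120, 80, 100, 12, 30, 70, 26, 66, 79, 59, 19, 39, 50, 42, 54, 46, 67, 27, 31, 71, 82, 102, 122, 14, 33, 61, 21, 73, 52, 48, 40, 44, 24, 28, 68, 64, 62, 74, 22, 34, 3, 91, 95, 7, 126, 10, 86, 98, 97, 125, 85, 9, 111, 119, 115, 107, 47, 55, 51, 43, 77, 17, 57, 37, 18, 38, 58, 78, 116, 112, 104, 108, 13, 81, 121, 101, 88, 92, 4, 0]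

theorem twoM23_mem : twoM23.memOK = true ∧ twoM23.relOK = true ∧ twoM23.conjOK = true := by decide +kernel

theorem twoM23_order : twoM23.orderOK = true := by decide +kernel

theorem twoM23_table : colM23.tableOK = true := by decide +kernel

theorem twoM23_solved : colM23.solvedOK = true := by decide +kernel

end CfsgLib.OutMathieu
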