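import Cfsg.Agent.Lib.OutMathieu.MultTwo

/-! Collector certificate for a Sylow `2`-subgroup of `M24`. -/

set_option autoImplicit false
set_option Elab.async false
set_option maxRecDepth 100000

namespace CfsgLib.OutMathieu

open CfsgLib.Golay CfsgLib.SchurMult

/-- Part of a collection table. -/
def tblM24_0_0 : Trie := (.node (.node (.node (.node (.node (.node (.leaf 1) (.leaf 18446744073709552061)) (.node (.leaf 9223372036854776095) (.leaf 27670135796784435683))) (.node (.node (.leaf 4611686018427388667) (.leaf 23058482576092833639)) (.node (.leaf 13861895576543678437) (.leaf 32308655412963899513)))) (.node (.node (.node (.leaf 2305843009213694627) (.leaf 20752633382971449951)) (.node (.leaf 11552970904901691713) (.leaf 29999728120792282365))) (.node (.node (.leaf 6941243456751549605) (.leaf 25387998842653559609)) (.node (.leaf 16159181142245611047) (.leaf 34605892453539781563))))) (.node (.node (.node (.node (.leaf 1152921504606847901) (.leaf 19599729323993607009)) (.node (.leaf 10408811311710719939) (.leaf 28855612310869440639))) (.node (.node (.leaf 5797165698867164167) (.leaf 24243909506749573339))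 (.node (.leaf 15020464789076397337) (.leaf 33467225985250844101)))) (.node (.node (.node (.leaf 3491322499353261887) (.leaf 21938046028995620995)) (.node (.leaf 12687851793651282653) (.leaf 31134615773297857057))) (.node (.node (.leaf 8076205349793568345) (.leaf 26522916868473675397)) (.node (.leaf 17320658801585908123) (.leaf 35767393562505876807)))))) (.node (.node (.node (.node (.node (.leaf 576460752303424267) (.leaf 19023258370501775863)) (.node (.leaf 9827213093477705929) (.leaf 28273962010169231925))) (.node (.node (.leaf 5215585624111553325) (.leaf 23662274977188107953)) (.node (.leaf 14412890131687143823) (.leaf 32859608610270497619)))) (.node (.node (.node (.leaf 2909742353207759733) (.leaf 21356434616616914313)) (.node (.leaf 12110118314556887115) (.leaf 30556867359077061303))) (.node (.node (.leaf 7498455119176468687) (.leaf 25945186872834206227)) (.node (.leaf 16723598976210671089) (.leaf 35170359366857227373))))) (.node (.node (.node (.node (.leaf 1729435801424288919) (.leaf 20176190083833621803)) (.node (.leaf 10958034534533646357) (.leaf 29404779436453053353))) (.node (.node (.leaf 6346401850397787089)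 (.leaf 24793107480146682125)) (.node (.leaf 15593949000923323763) (.leaf 34040672092612877039)))) (.node (.node (.node (.leaf 4040558907228899049) (.leaf 22487278081725773141)) (.node (.leaf 13281101130239852503) (.leaf 31727804818068722283))) (.node (.node (.leaf 8669428770470219827) (.leaf 27116169558879394735)) (.node (.leaf 17890990863443607117) (.leaf 36337774633525305489)))))))

/-- Part of a collection table. -/
def tblM24_0_1 : Trie := (.node (.node (.node (.node (.node (.node (.leaf 36028797018964830) (.leaf 18482832061873311458)) (.node (.leaf 9289737918272843520) (.leaf 27736534638157997052))) (.node (.node (.leaf 4678086121741104836) (.leaf 23124799710654959448)) (.node (.leaf 13885518351673497754) (.leaf 32332270764836348678)))) (.node (.node (.node (.leaf 2372243252062500028) (.leaf 20818994796525814848)) (.node (.leaf 11600282864754732574) (.leaf 30046989823053411234))) (.node (.node (.leaf 6988544128760249306) (.leaf 25435334831615721542)) (.node (.leaf 16178901409997392408) (.leaf 34625680034553564036))))) (.node (.node (.node (.node (.leaf 1189009492759858370) (.leaf 19635758121030958142))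 (.node (.leaf 10419183516150575580) (.leaf 28865960125675263584))) (.node (.node (.leaf 5807510553330256952) (.leaf 24254258628968860900)) (.node (.leaf 15032842765041574502) (.leaf 33479553603692361402)))) (.node (.node (.node (.leaf 3501667561031653664) (.leaf 21948431495208899228)) (.node (.leaf 12735132811598156162) (.leaf 31181903377880002942))) (.node (.node (.leaf 8123488995605883174) (.leaf 26570248523455604218)) (.node (.leaf 17336756127047064996) (.leaf 35783524217296420216)))))) (.node (.node (.node (.node (.node (.leaf 642860855582537492) (.leaf 19089588869294534120)) (.node (.leaf 9838466246989154710) (.leaf 28285237443661870954))) (.node (.node (.leaf 5226788534035069202) (.leaf 23673551088751405198)) (.node (.leaf 14459713000152276720) (.leaf 32906420698542841900)))) (.node (.node (.node (.leaf 2920945488458228266) (.leaf 21367727488409297110)) (.node (.leaf 12163102263057468500) (.leaf 30609841049093969576))) (.node (.node (.leaf 7551430074827511728) (.leaf 25998201665161898348)) (.node (.leaf 16769743079158049742) (.leaf 35216500529796422226))))) (.node (.node (.node (.node (.leaf 1795766300200263816)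 (.leaf 20242518628629301556)) (.node (.leaf 11023354754144129354) (.leaf 29470084945446641398))) (.node (.node (.leaf 6411674421901361646) (.leaf 24858402242573412146)) (.node (.leaf 15620494883307306508) (.leaf 34067203959408213392)))) (.node (.node (.node (.leaf 4105831434080420790) (.leaf 22552598268570728458)) (.node (.leaf 13298037186903493576) (.leaf 31744786318149021300))) (.node (.node (.leaf 8686338946460067660) (.leaf 27133105832436496592)) (.node (.leaf 17934920864484026482) (.leaf 36381666111225017006)))))))

/-- Part of a collection table. -/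
def tblM24_0_2 : Trie := (.node (.node (.node (.node (.node (.node (.leaf 72057594037928123) (.leaf 18518814491773581415)) (.node (.leaf 9301986176882509689) (.leaf 27748784687196703653))) (.node (.node (.leaf 4690353262099812317) (.leaf 23137039242264129633)) (.node (.leaf 13937780984642597759) (.leaf 32384476871671445379)))) (.node (.node (.node (.leaf 2384510046201514725) (.leaf 20831212166280275513)) (.node (.leaf 11622608119683427323) (.leaf 30069394642056006439))) (.node (.node (.leaf 7010966587529778751) (.leaf 25457677939996921539)) (.node (.leaf 16216365230105532193) (.leaf 34663124851744822429))))) (.node (.node (.node (.node (.leaf 1224991922668694087) (.leaf 19671775869907428827)) (.node (.leaf 10468866158247892165) (.leaf 28915623244543127897))) (.node (.node (.leaf 5857153261555658305) (.leaf 24303936926746573501)) (.node (.leaf 15060285721082540259) (.leaf 33507040971429188959)))) (.node (.node (.node (.leaf 3551310338963794969) (.leaf 21998052633904603525)) (.node (.leaf 12775521641845314823) (.leaf 31222283375925632667))) (.node (.node (.leaf 8163850329000057251) (.leaf 26610583433142019103))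 (.node (.leaf 17401831268927744509) (.leaf 35848554810689848577)))))) (.node (.node (.node (.node (.node (.leaf 655127995441284109) (.leaf 19101872203836527505)) (.node (.leaf 9878318335074465395) (.leaf 28325092116991255727))) (.node (.node (.leaf 5266646147472220407) (.leaf 23713402199671313227)) (.node (.leaf 14485851610906878409) (.leaf 32932583222161461365)))) (.node (.node (.node (.leaf 2960803327615941615) (.leaf 21407539962398381363)) (.node (.leaf 12207856092187170125) (.leaf 30654613547989556945))) (.node (.node (.leaf 7596169018313709193) (.leaf 26042957592920795957)) (.node (.leaf 16805764788020358667) (.leaf 35252544593710134711))))) (.node (.node (.node (.node (.leaf 1808049634749552049) (.leaf 20254764136694229869)) (.node (.leaf 11034178007353976463) (.leaf 29480966206748577555))) (.node (.node (.leaf 6422552376852338731) (.leaf 24869299273360608983)) (.node (.leaf 15646635511208583445) (.leaf 34093398617419690985)))) (.node (.node (.node (.leaf 4116709389881594963) (.leaf 22563448046471436751)) (.node (.leaf 13342808154114355441) (.leaf 31789540318010330669))) (.node (.node (.leaf 8731091754186020437)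 (.leaf 27177874606972585129)) (.node (.leaf 17969810851266670487) (.leaf 36416579984857993579)))))))

/-- Part of a collection table. -/
def tblM24_0_3 : Trie := (.node (.node (.node (.node (.node (.node (.leaf 138457697351644292) (.leaf 18585210808353689688)) (.node (.leaf 9366186757166596614) (.leaf 27812895722814821082))) (.node (.node (.leaf 4754506588140537474) (.leaf 23201224299943917886)) (.node (.leaf 13955306594613601632) (.leaf 32402030971527440796)))) (.node (.node (.node (.leaf 2448663568718157722) (.leaf 20895399517503305542)) (.node (.leaf 11639588661465357252) (.leaf 30086328422233204504))) (.node (.node (.leaf 7027897608276385824) (.leaf 25474639473760926940)) (.node (.leaf 16252393336803274366) (.leaf 34699177879949845954))))) (.node (.node (.node (.node (.leaf 1291388239245656696) (.leaf 19738091237474222564)) (.node (.leaf 10494790547977532858) (.leaf 28941512182737191974))) (.node (.node (.leaf 5883073381772695326) (.leaf 24329801853462091746)) (.node (.leaf 15116106255562754812) (.leaf 33562827058837545792)))) (.node (.node (.node (.leaf 3577230355662903654) (.leaf 22023998944626885882))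 (.node (.leaf 12792542535344363832) (.leaf 31239269640595529380))) (.node (.node (.leaf 8180834809532012476) (.leaf 26627552663381884416)) (.node (.leaf 17437827132189527202) (.leaf 35884560245270210654)))))) (.node (.node (.node (.node (.node (.leaf 719281322527754802) (.leaf 19165989305676076462)) (.node (.leaf 9925155416020842252) (.leaf 28371846993562001872))) (.node (.node (.leaf 5313472696145666280) (.leaf 23760202018586694484)) (.node (.leaf 14528624029258501782) (.leaf 32975395819755469610)))) (.node (.node (.node (.leaf 3007629672651325072) (.leaf 21454328800126537804)) (.node (.leaf 12245036311742501746) (.leaf 30691798935987454190))) (.node (.node (.leaf 7633389592263426518) (.leaf 26080101407299627114)) (.node (.leaf 16849598262735384084) (.leaf 35296378444219462056))))) (.node (.node (.node (.node (.leaf 1872166736573372302) (.leaf 20318971954556904786)) (.node (.leaf 11063811824097531888) (.leaf 29510594127612115564))) (.node (.node (.leaf 6452113436758308916) (.leaf 24898856139411436232)) (.node (.leaf 15675955009151983178) (.leaf 34122660108107187382)))) (.node (.node (.node (.leaf 4146270377889836332)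 (.leaf 22593028949213470896)) (.node (.leaf 13379968660183259854) (.leaf 31826690505640622098))) (.node (.node (.leaf 8768277221573210378) (.leaf 27215038194321832950)) (.node (.leaf 17982450758665537416) (.leaf 36429132536699092340)))))))

/-- Part of a collection table. -/
def tblM24_0_4 : Trie := (.node (.node (.node (.node (.node (.node (.leaf 144115188075856583) (.leaf 18590908027728378715)) (.node (.leaf 9392507489684292389) (.leaf 27839231625678065657))) (.node (.node (.leaf 4780784826594887361) (.leaf 23227577175322094141)) (.node (.leaf 13979423631144788739) (.leaf 32426149999463542783)))) (.node (.node (.node (.leaf 2474941686436103353) (.leaf 20921694101718547557)) (.node (.leaf 11695820458425302919) (.leaf 30142555968305929755))) (.node (.node (.leaf 7084119466597680195) (.leaf 25530867861259309247)) (.node (.leaf 16305197748558806909) (.leaf 34751891426900720513))))) (.node (.node (.node (.node (.leaf 1297085458637349947) (.leaf 19743833516976514279)) (.node (.leaf 10522477420380423641) (.leaf 28969198983145240133))) (.node (.node (.leaf 5910788783450450269) (.leaf 24357510730109692129)) (.node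 (.leaf 15144723402615827935) (.leaf 33591435162372164195)))) (.node (.node (.node (.leaf 3604945799937944837) (.leaf 22051672624524076697)) (.node (.leaf 12837474400202723707) (.leaf 31284194632912933287))) (.node (.node (.leaf 8225770376207599263) (.leaf 26672541685456761123)) (.node (.leaf 17470597703666489761) (.leaf 35917352952013644829)))))) (.node (.node (.node (.node (.node (.leaf 745559560505526033) (.leaf 19192357403500598925)) (.node (.leaf 9960532683696667471) (.leaf 28407263285890000083))) (.node (.node (.leaf 5348812434025850827) (.leaf 23795595718851232375)) (.node (.leaf 14574677737870225109) (.leaf 33021383633381216297)))) (.node (.node (.node (.leaf 3042969584229687699) (.leaf 21489723386140088847)) (.node (.leaf 12252193079322670161) (.leaf 30698942593774385613))) (.node (.node (.leaf 7640508847125050261) (.leaf 26087297791071358313)) (.node (.leaf 16895878760553460023) (.leaf 35342608604869124235))))) (.node (.node (.node (.node (.leaf 1898534834394700781) (.leaf 20345237281320645937)) (.node (.leaf 11107391765654687667) (.leaf 29554128156294148463))) (.node (.node (.leaf 6495678440243781719)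 (.leaf 24942426159808002731)) (.node (.leaf 15721948179980591625) (.leaf 34168726890454104501)))) (.node (.node (.node (.leaf 4189835330480496687) (.leaf 22636582570644612851)) (.node (.leaf 13411867558051480749) (.leaf 31858618334285721201))) (.node (.node (.leaf 8800186900826961737) (.leaf 27246988614742732021)) (.node (.leaf 18035104488867386859) (.leaf 36481849987672222487)))))))

/-- Part of a collection table. -/
def tblM24_0_5 : Trie := (.node (.node (.node (.node (.node (.node (.leaf 210481061606991608) (.leaf 18657261873485054820)) (.node (.leaf 9418433944652314714) (.leaf 27865172180996337798))) (.node (.node (.leaf 4806688337895764382) (.leaf 23253439878534333794)) (.node (.leaf 14017202243947610396) (.leaf 32463928306478502368)))) (.node (.node (.node (.leaf 2500845406997626822) (.leaf 20947638081764115226)) (.node (.leaf 11730788742625078200) (.leaf 30177523354272761380))) (.node (.node (.leaf 7119098601038529116) (.leaf 25565874770510682784)) (.node (.leaf 16323170253266551842) (.leaf 34769916535083718878))))) (.node (.node (.node (.node (.leaf 1363439304395086852) (.leaf 19810183095367106776))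 (.node (.leaf 10586679917629443750) (.leaf 29033399569013993786))) (.node (.node (.leaf 5974984551869495810) (.leaf 24421693666020636606)) (.node (.leaf 15180232633290649536) (.leaf 33627033821931362428)))) (.node (.node (.node (.leaf 3669141576124496506) (.leaf 22115857769552181734)) (.node (.leaf 12872429507846158660) (.leaf 31319186543842178456))) (.node (.node (.leaf 8260760523316705408) (.leaf 26707495775912742716)) (.node (.leaf 17488629527693638398) (.leaf 35935408944320058178)))))) (.node (.node (.node (.node (.node (.leaf 771463072806826286) (.leaf 19218226591895010482)) (.node (.leaf 9984821368173048880) (.leaf 28431564344935235500))) (.node (.node (.leaf 5373083353107659732) (.leaf 23819885507963131496)) (.node (.leaf 14621947538420098954) (.leaf 33068717550365908342)))) (.node (.node (.node (.leaf 3067240411014053612) (.leaf 21514021004160811376)) (.node (.leaf 12307362037286466158) (.leaf 30754147769553511410))) (.node (.node (.leaf 7695712251893414602) (.leaf 26142416344021096502)) (.node (.leaf 16903669273409937704) (.leaf 35350432435986276500))))) (.node (.node (.node (.node (.leaf 1924404022811226578)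 (.leaf 20371125164755442446)) (.node (.leaf 11137013082947774668) (.leaf 29583744256373869072))) (.node (.node (.leaf 6525330369953094728) (.leaf 24972079368302403252)) (.node (.leaf 15746728952776897366) (.leaf 34193487737455468778)))) (.node (.node (.node (.leaf 4219487306295219024) (.leaf 22666217219522432396)) (.node (.leaf 13467049711231055506) (.leaf 31913838757464496206))) (.node (.node (.leaf 8855410061349111318) (.leaf 27302120561250359722)) (.node (.leaf 18061198583193002484) (.leaf 36507967485331098376)))))))

/-- Part of a collection table. -/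
def tblM24_0_6 : Trie := (.node (.node (.node (.node (.node (.node (.leaf 222729173618398849) (.leaf 18669499763584035133)) (.node (.leaf 9459623175338547647) (.leaf 27906360370412268547))) (.node (.node (.leaf 4847926118904818811) (.leaf 23294671912856741863)) (.node (.leaf 14071560272775062021) (.leaf 32518269652774187737)))) (.node (.node (.node (.leaf 2542082981708739907) (.leaf 20988849131970160895)) (.node (.leaf 11776681239002186177) (.leaf 30223429616067427965))) (.node (.node (.leaf 7164981698936483653) (.leaf 25611712175261101977)) (.node (.leaf 16359238462252210343) (.leaf 34805993847643549499))))) (.node (.node (.node (.node (.leaf 1375677194485525277) (.leaf 19822403462785395681)) (.node (.leaf 10625347921151436323) (.leaf 29072129319123515103))) (.node (.node (.leaf 6013667117829110407) (.leaf 24460455017630636635)) (.node (.leaf 15214296506631638457) (.leaf 33661048807864794149)))) (.node (.node (.node (.leaf 3707824127413545887) (.leaf 22154595936718373731)) (.node (.leaf 12900333504797744221) (.leaf 31347082274072646817))) (.node (.node (.leaf 8288599056983687417) (.leaf 26735350232123685221))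 (.node (.leaf 17516759966243936539) (.leaf 35963523351765371335)))))) (.node (.node (.node (.node (.node (.leaf 812700853653165803) (.leaf 19259474138187507031)) (.node (.leaf 10023344996109191433) (.leaf 28470071902385177589))) (.node (.node (.leaf 5411693414746034893) (.leaf 23858415536660983825)) (.node (.leaf 14646735263630661199) (.leaf 33093449485034309779)))) (.node (.node (.node (.leaf 3105850263749169333) (.leaf 21552601737994565193)) (.node (.leaf 12325424942756626347) (.leaf 30772126571804810263))) (.node (.node (.leaf 7713729218193363215) (.leaf 26160489979436011475)) (.node (.leaf 16946271876863332689) (.leaf 35393038960146520973))))) (.node (.node (.node (.node (.leaf 1965651569088101943) (.leaf 20412361648677789899)) (.node (.leaf 11169361680072840661) (.leaf 29616117740621200489))) (.node (.node (.leaf 6557706997740271473) (.leaf 25004425923712492781)) (.node (.leaf 15812022577932847795) (.leaf 34258809656331763503)))) (.node (.node (.node (.leaf 4251864146101841705) (.leaf 22698587808517815957)) (.node (.leaf 13503120040249921399) (.leaf 31949819175608455563))) (.node (.node (.leaf 8891419118237534707)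 (.leaf 27338175463293886575)) (.node (.leaf 18112063339360994733) (.leaf 36558783062601441841)))))))

/-- Part of a collection table. -/
def tblM24_0_7 : Trie := (.node (.node (.node (.node (.node (.node (.leaf 286929699580399582) (.leaf 18733669197977432162)) (.node (.leaf 9475734557007245216) (.leaf 27922502880572231196))) (.node (.node (.leaf 4864078596578970692) (.leaf 23310818476781341656)) (.node (.leaf 14089516157991190394) (.leaf 32536312443395470246)))) (.node (.node (.node (.leaf 2558235394723005276) (.leaf 21004956183252111072)) (.node (.leaf 11811555393913724062) (.leaf 30258308017072960290))) (.node (.node (.leaf 7199895951002283578) (.leaf 25646602051471500006)) (.node (.leaf 16405604315923731608) (.leaf 34852341154459168516))))) (.node (.node (.node (.node (.leaf 1439846628889059906) (.leaf 19886621515160499902)) (.node (.leaf 10642889001499908156) (.leaf 29089630561883458752))) (.node (.node (.leaf 6031169869218597560) (.leaf 24477959764679358052)) (.node (.leaf 15268387797146481862) (.leaf 33715136069771399514)))) (.node (.node (.node (.leaf 3725327006649093504) (.leaf 22172097364876127612))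 (.node (.leaf 12935198846569856258) (.leaf 31381960590655205886))) (.node (.node (.leaf 8323513188913510790) (.leaf 26770266308045292570)) (.node (.leaf 17560597991064759588) (.leaf 36007357261517382136)))))) (.node (.node (.node (.node (.node (.leaf 828853328945624820) (.leaf 19275550369460667720)) (.node (.leaf 10078552219976691286) (.leaf 28525255358299716778))) (.node (.node (.leaf 5466808613546163442) (.leaf 23913566838857646638)) (.node (.leaf 14681857338873639728) (.leaf 33128580372453091820)))) (.node (.node (.node (.leaf 3160965417894389738) (.leaf 21607778311326646550)) (.node (.leaf 12367856431654888372) (.leaf 30814552965784901640))) (.node (.node (.leaf 7756163138012794992) (.leaf 26202903977106573996)) (.node (.leaf 16982340460018384750) (.leaf 35429064478403837362))))) (.node (.node (.node (.node (.leaf 1981727800344190504) (.leaf 20428504303541509332)) (.node (.leaf 11224583942556454538) (.leaf 29671283531875103542))) (.node (.node (.leaf 6612835484967893326) (.leaf 25059600776807527122)) (.node (.leaf 15847118477423130572) (.leaf 34293920045997049424)))) (.node (.node (.node (.leaf 4306992582935395446)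 (.leaf 22753739734969364938)) (.node (.leaf 13531992283027055464) (.leaf 31978791978641567124))) (.node (.node (.leaf 8920320421810614412) (.leaf 27367056361540525328)) (.node (.leaf 18148063260035124114) (.leaf 36594815076172984334)))))))

/-- Part of a collection table. -/
def tblM24_0_8 : Trie := (.node (.node (.node (.node (.node (.node (.leaf 288230376151712501) (.leaf 18735026510760931657)) (.node (.leaf 9538228660832262743) (.leaf 27985013128593606827))) (.node (.node (.leaf 4926565043887327475) (.leaf 23373299303736931887)) (.node (.leaf 14141516960574359345) (.leaf 32588312871243308525)))) (.node (.node (.node (.leaf 2620722226178528235) (.leaf 21067436988755866903)) (.node (.leaf 11827541496807413685) (.leaf 30274293041365101577))) (.node (.node (.leaf 7215823172108510321) (.leaf 25662574868816707245)) (.node (.leaf 16442018928585575279) (.leaf 34888823194123209139))))) (.node (.node (.node (.node (.leaf 1441203941663320617) (.leaf 19887911192803764437)) (.node (.leaf 10683969974836771467) (.leaf 29130758607973123895))) (.node (.node (.leaf 6072311763103108431) (.leaf 24519069255277414099)) (.node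 (.leaf 15306868706372584397) (.leaf 33753589855444103761)))) (.node (.node (.node (.leaf 3766468724252412023) (.leaf 22213204760829232587)) (.node (.leaf 12991731534038013801) (.leaf 31438450776329853333))) (.node (.node (.leaf 8380061596950135949) (.leaf 26826814286513547537)) (.node (.leaf 17607511965012475795) (.leaf 36054213168804807695)))))) (.node (.node (.node (.node (.node (.leaf 891339778169723459) (.leaf 19338044244291653311)) (.node (.leaf 10094487644237127741) (.leaf 28541229419838813377))) (.node (.node (.leaf 5482839138800693945) (.leaf 23929558415670955621)) (.node (.leaf 14718262628519611591) (.leaf 33165010747465247067)))) (.node (.node (.node (.leaf 3176995984039196033) (.leaf 21623731500686136701)) (.node (.leaf 12404882591098078467) (.leaf 30851608859156220415))) (.node (.node (.leaf 7793196624204087687) (.leaf 26239914748613721115)) (.node (.leaf 17011845090527204645) (.leaf 35458568884415748601))))) (.node (.node (.node (.node (.leaf 2044221675191026655) (.leaf 20491014519061658723)) (.node (.leaf 11251535183081038753) (.leaf 29698215528399749661))) (.node (.node (.leaf 6639788493482360901)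 (.leaf 25086527826076600281)) (.node (.leaf 15865598235283649403) (.leaf 34312320874983784359)))) (.node (.node (.node (.leaf 4333945306793004893) (.leaf 22780739217106830049)) (.node (.leaf 13569058490756239519) (.leaf 32015794058465738531))) (.node (.node (.leaf 8957311089064157755) (.leaf 27404088644770131687)) (.node (.leaf 18161192067838662809) (.leaf 36607943178418496261)))))))

/-- Part of a collection table. -/
def tblM24_0_9 : Trie := (.node (.node (.node (.node (.node (.node (.leaf 324318282290875306) (.leaf 18771020257625335830)) (.node (.leaf 9580691238191023688) (.leaf 28027404034010750132))) (.node (.node (.leaf 4968955544156902284) (.leaf 23415760726080430416)) (.node (.leaf 14160692451939781902) (.leaf 32607453356006937554)))) (.node (.node (.node (.leaf 2663112306871175156) (.leaf 21109912934209398024)) (.node (.leaf 11856783309417417450) (.leaf 30303577538356672854))) (.node (.node (.leaf 7245142733303227982) (.leaf 25691855048012986514)) (.node (.leaf 16483796409293775888) (.leaf 34930539378133200588))))) (.node (.node (.node (.node (.leaf 1477197688517423990) (.leaf 19923986434088693130))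 (.node (.leaf 10731794676772697748) (.leaf 29178495686065406760))) (.node (.node (.leaf 6120047635441042992) (.leaf 24566825703733713324)) (.node (.leaf 15323755150254544370) (.leaf 33770511426314108014)))) (.node (.node (.node (.leaf 3814204595489603688) (.leaf 22260941501847248340)) (.node (.leaf 13034522472626760246) (.leaf 31481232681132618954))) (.node (.node (.leaf 8422799577535396530) (.leaf 26869566686509010734)) (.node (.leaf 17633170691780303084) (.leaf 36079908501538940784)))))) (.node (.node (.node (.node (.node (.leaf 933730277621221468) (.leaf 19380470763917312160)) (.node (.leaf 10159769142192901986) (.leaf 28606572460353425310))) (.node (.node (.leaf 5548140031090772422) (.leaf 23994879330799268122)) (.node (.leaf 14755494726289622264) (.leaf 33202229465663520100)))) (.node (.node (.node (.leaf 3242296809371338462) (.leaf 21689017122334991906)) (.node (.leaf 12440362080467937052) (.leaf 30887158034716846048))) (.node (.node (.leaf 7828711297273806264) (.leaf 26275461381703896100)) (.node (.leaf 17046715863871438426) (.leaf 35493498017918121606))))) (.node (.node (.node (.node (.leaf 2086648194795720128)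 (.leaf 20533422874643526268)) (.node (.leaf 11298823962574960894) (.leaf 29745557953416727874))) (.node (.node (.leaf 6687096343029404474) (.leaf 25133856370964667558)) (.node (.leaf 15900539133709880132) (.leaf 34347305617138191256)))) (.node (.node (.node (.leaf 4381253239135804418) (.leaf 22827997312845356478)) (.node (.leaf 13604546912316360320) (.leaf 32051317314511927612))) (.node (.node (.leaf 8992868780516243972) (.leaf 27439648527109008088)) (.node (.leaf 18198407533579120614) (.leaf 36645092277495109754)))))))

/-- Part of a collection table. -/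
def tblM24_0_10 : Trie := (.node (.node (.node (.node (.node (.node (.leaf 360300615554053743) (.leaf 18807081955160074227)) (.node (.leaf 9605544714168790385) (.leaf 28052314122847562477))) (.node (.node (.leaf 4993864097341960341) (.leaf 23440617831675281705)) (.node (.leaf 14222156520438488779) (.leaf 32668949708977863735)))) (.node (.node (.node (.leaf 2688021108402992045) (.leaf 21134828014542115889)) (.node (.leaf 11905393842051704111) (.leaf 30352122181368424627))) (.node (.node (.leaf 7293651662245048203) (.leaf 25740456933460661623)) (.node (.leaf 16521758383516444265) (.leaf 34968539220543859669))))) (.node (.node (.node (.node (.leaf 1513259386048965267) (.leaf 19959958478621934671)) (.node (.leaf 10759802786535168397) (.leaf 29206520302115515217))) (.node (.node (.leaf 6148104680650482441) (.leaf 24594795353757889013)) (.node (.leaf 15362762932893899287) (.leaf 33809470228748879275)))) (.node (.node (.node (.leaf 3842261701746125329) (.leaf 22288971635138114765)) (.node (.leaf 13047014191269163475) (.leaf 31493763920705755919))) (.node (.node (.leaf 8435370280786680663) (.leaf 26882058678131230955))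 (.node (.leaf 17688599535701018293) (.leaf 36135384569517877321)))))) (.node (.node (.node (.node (.node (.leaf 958638832167444805) (.leaf 19405395782264253849)) (.node (.leaf 10188655836793708007) (.leaf 28635433350918513275))) (.node (.node (.leaf 5576983560790455107) (.leaf 24023705782763807487)) (.node (.leaf 14775535292474999937) (.leaf 33222270611785691965)))) (.node (.node (.node (.leaf 3271140610864838971) (.leaf 21717903987146112679)) (.node (.leaf 12484610956952254469) (.leaf 30931355313819804889))) (.node (.node (.leaf 7872881516471347137) (.leaf 26319638998889549949)) (.node (.leaf 17094032352923831231) (.leaf 35540728345054618115))))) (.node (.node (.node (.node (.leaf 2111573213160501177) (.leaf 20558346300596372005)) (.node (.leaf 11329603342188700443) (.leaf 29776366633952867271))) (.node (.node (.leaf 6717950489548611807) (.leaf 25164700441776200739)) (.node (.leaf 15934079507272896093) (.leaf 34380793123700594337)))) (.node (.node (.node (.leaf 4412107353177843847) (.leaf 22858859982070336603)) (.node (.leaf 13630773274666357497) (.leaf 32077472911764256613))) (.node (.node (.leaf 9019078735026022685)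 (.leaf 27465806734722431457)) (.node (.leaf 18233265981646745955) (.leaf 36679994705218485663)))))))

/-- Part of a collection table. -/
def tblM24_0_11 : Trie := (.node (.node (.node (.node (.node (.node (.leaf 426697144741234448) (.leaf 18873424876684727948)) (.node (.leaf 9622440887594646350) (.leaf 28069234166245729490))) (.node (.node (.leaf 5010782502636234698) (.leaf 23457522618741195382)) (.node (.leaf 14263045826533256916) (.leaf 32709830766623215656)))) (.node (.node (.node (.leaf 2704939360783540626) (.leaf 21151711167196256782)) (.node (.leaf 11942319166820414544) (.leaf 30389060005438061004))) (.node (.node (.leaf 7330636309011346324) (.leaf 25777372459216506216)) (.node (.leaf 16557788063967129910) (.leaf 35004518337776377994))))) (.node (.node (.node (.node (.leaf 1579602307583089644) (.leaf 20026347768603424048)) (.node (.leaf 10778887715242889138) (.leaf 29225676899623498094))) (.node (.node (.leaf 6167228420519977046) (.leaf 24613967206556482218)) (.node (.leaf 15392380077194486280) (.leaf 33839089514140088756)))) (.node (.node (.node (.leaf 3861385581338976302) (.leaf 22308131434234095346))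 (.node (.leaf 13083989146934117548) (.leaf 31530721502058344048))) (.node (.node (.leaf 8472299968499791688) (.leaf 26919021551210196212)) (.node (.leaf 17724658813133641194) (.leaf 36171432216345651990)))))) (.node (.node (.node (.node (.node (.leaf 975557237014326330) (.leaf 19422305009809599718)) (.node (.leaf 10200254100951764440) (.leaf 28646984381321264708))) (.node (.node (.leaf 5588575082965819740) (.leaf 24035304994475319520)) (.node (.leaf 14818269702129559006) (.leaf 33265007654144164450)))) (.node (.node (.node (.leaf 3282732030873167108) (.leaf 21729458168260275864)) (.node (.leaf 12514960799001385338) (.leaf 30961690251223800230))) (.node (.node (.leaf 7903257601786416798) (.leaf 26350045894238894370)) (.node (.leaf 17149078962951967136) (.leaf 35595851462673067036))))) (.node (.node (.node (.node (.leaf 2128482440695622342) (.leaf 20575204910393758554)) (.node (.leaf 11371870864607128356) (.leaf 29818669766183561208))) (.node (.node (.leaf 6760221868798881472) (.leaf 25206943849058583100)) (.node (.leaf 15963290600603093762) (.leaf 34410087338607577086)))) (.node (.node (.node (.leaf 4454378724342967480)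 (.leaf 22901132243431855204)) (.node (.leaf 13674623081488717702) (.leaf 32121428959977354778))) (.node (.node (.leaf 9062995757064105026) (.leaf 27509744151325178046)) (.node (.leaf 18288644704566843260) (.leaf 36735412055153939328)))))))

/-- Part of a collection table. -/
def tblM24_0_12 : Trie := (.node (.node (.node (.node (.node (.node (.leaf 432394218501791763) (.leaf 18879139397130234575)) (.node (.leaf 9656351662591579437) (.leaf 28103115319390984369))) (.node (.node (.leaf 5044723969401741193) (.leaf 23491423268758529397)) (.node (.leaf 14299890234075163639) (.leaf 32746610877576120587)))) (.node (.node (.node (.leaf 2738880775876234225) (.leaf 21185577720673347181)) (.node (.leaf 11996587247943910739) (.leaf 30443319318921088911))) (.node (.node (.leaf 7384850593605553335) (.leaf 25831602067251292747)) (.node (.leaf 16603231006274474037) (.leaf 35049974249953499849))))) (.node (.node (.node (.node (.leaf 1585316828022548719) (.leaf 20032050242970736499)) (.node (.leaf 10817027070648792721) (.leaf 29263798637260560461))) (.node (.node (.leaf 6205364468295681557) (.leaf 24652074805019629993)) (.node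 (.leaf 15447198029786046571) (.leaf 33893948164642962903)))) (.node (.node (.node (.leaf 3899521572285138701) (.leaf 22346248868653388241)) (.node (.leaf 13149510674552742319) (.leaf 31596244055824893491))) (.node (.node (.leaf 8537786166318128939) (.leaf 26984581575085854359)) (.node (.leaf 17733272360127457513) (.leaf 36180006097261206357)))))) (.node (.node (.node (.node (.node (.leaf 1009498703672312921) (.leaf 19456236533135330437)) (.node (.leaf 10234789728526282459) (.leaf 28681573013889371655))) (.node (.node (.leaf 5623158960542140735) (.leaf 24069886978035521155)) (.node (.leaf 14856965892230219165) (.leaf 33303716887401673057)))) (.node (.node (.node (.leaf 3317316148717390663) (.leaf 21764011424540199835)) (.node (.leaf 12565507804984198937) (.leaf 31012234817125930949))) (.node (.node (.leaf 7953784171316626653) (.leaf 26400533440006502433)) (.node (.leaf 17184113509997071811) (.leaf 35630826703093133951))))) (.node (.node (.node (.node (.leaf 2162413964019007973) (.leaf 20609156207735815801)) (.node (.leaf 11402800317410677799) (.leaf 29849541917218018747))) (.node (.node (.leaf 6791133549075714019)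 (.leaf 25237835616653751071)) (.node (.leaf 16015565300187452225) (.leaf 34462252335670690557)))) (.node (.node (.node (.leaf 4485290469489187067) (.leaf 22932043864582398311)) (.node (.leaf 13700406775665545893) (.leaf 32147174633630084409))) (.node (.node (.leaf 9088693817700673025) (.leaf 27535473128799464381)) (.node (.leaf 18330128770096390239) (.leaf 36776877483268122787)))))))

/-- Part of a collection table. -/
def tblM24_0_13 : Trie := (.node (.node (.node (.node (.node (.node (.leaf 498748271484453740) (.leaf 18945480536206066096)) (.node (.leaf 9693556607428055826) (.leaf 28140284080567222926))) (.node (.node (.leaf 5081881722283548374) (.leaf 23528587703090896938)) (.node (.leaf 14329520778826434536) (.leaf 32776232247960740116)))) (.node (.node (.node (.leaf 2776038809650562510) (.leaf 21222760642001399890)) (.node (.leaf 12015507098816951852) (.leaf 30462219086579262704))) (.node (.node (.leaf 7403791521963286696) (.leaf 25850529597995897428)) (.node (.leaf 16621306619834146154) (.leaf 35068027181214042006))))) (.node (.node (.node (.node (.leaf 1651657967103361936) (.leaf 20098411916231424012))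 (.node (.leaf 10851955192647426222) (.leaf 29298705213101886066))) (.node (.node (.leaf 6240281405224129354) (.leaf 24687003026320279798)) (.node (.leaf 15488053251069742196) (.leaf 33934791469840302536)))) (.node (.node (.node (.leaf 3934438452689656114) (.leaf 22381198945497238510)) (.node (.leaf 13168431847882138320) (.leaf 31615137332528337228))) (.node (.node (.leaf 8556698731219291956) (.leaf 27003499038449688200)) (.node (.leaf 17787268523291949494) (.leaf 36234002181201674762)))))) (.node (.node (.node (.node (.node (.leaf 1046656456093523750) (.leaf 19493350389893977082)) (.node (.leaf 10295938227297755876) (.leaf 28742723910251695672))) (.node (.node (.leaf 5684308978717295392) (.leaf 24131002320158605468)) (.node (.leaf 14881730521154683586) (.leaf 33328514211773214270)))) (.node (.node (.node (.leaf 3378465924105636728) (.leaf 21825164353041696676)) (.node (.leaf 12577863124104104038) (.leaf 31024609044563598522))) (.node (.node (.leaf 7966232682551838594) (.leaf 26412915165630626686)) (.node (.leaf 17221155533221756892) (.leaf 35667920108842352736))))) (.node (.node (.node (.node (.leaf 2199527820782902938)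 (.leaf 20646298778456157446)) (.node (.leaf 11445093424317010968) (.leaf 29891835988767021444))) (.node (.node (.leaf 6833422662672207356) (.leaf 25280162975780266240)) (.node (.leaf 16062806274309514270) (.leaf 34509549878845273506)))) (.node (.node (.node (.leaf 4527579593267905732) (.leaf 22974337006397989208)) (.node (.leaf 13748828113506349530) (.leaf 32195595851158094406))) (.node (.node (.leaf 9137144148657593694) (.leaf 27583911996472368354)) (.node (.leaf 18367468718024716864) (.leaf 36814252382269974204)))))))

/-- Part of a collection table. -/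
def tblM24_0_14 : Trie := (.node (.node (.node (.node (.node (.node (.leaf 510985938240649525) (.leaf 18957744799625898121)) (.node (.leaf 9741819749417550583) (.leaf 28188533831984574795))) (.node (.node (.leaf 5130109945770583859) (.leaf 23576903657683664367)) (.node (.leaf 14364125332342018449) (.leaf 32810841888565455373)))) (.node (.node (.node (.leaf 2824267114606913547) (.leaf 21271010452397615031)) (.node (.leaf 12047327717720857205) (.leaf 30494035794729670601))) (.node (.node (.leaf 7435608025681134801) (.leaf 25882357721732642637)) (.node (.leaf 16657326065890633391) (.leaf 35104045281616249971))))) (.node (.node (.node (.node (.leaf 1663922230536775145) (.leaf 20110664497401813781)) (.node (.leaf 10892614130781076331) (.leaf 29339368557443954071))) (.node (.node (.leaf 6280909284231587983) (.leaf 24727661768409285907)) (.node (.leaf 15509133769045418029) (.leaf 33955874687016658673)))) (.node (.node (.node (.leaf 3975066192573605079) (.leaf 22421813732420000299)) (.node (.leaf 13200233293562065577) (.leaf 31646949297658157141))) (.node (.node (.leaf 8588515433335901549) (.leaf 27035284204555787185))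 (.node (.leaf 17806454340298169939) (.leaf 36253166550089978831)))))) (.node (.node (.node (.node (.node (.leaf 1094884679466817443) (.leaf 19541670595084695071)) (.node (.leaf 10323816296232795325) (.leaf 28770573201519938625))) (.node (.node (.leaf 5712180667040697881) (.leaf 24158891254986313605)) (.node (.leaf 14917759129334784071) (.leaf 33364498597220362203)))) (.node (.node (.node (.leaf 3406337750764326657) (.leaf 21853028920753325053)) (.node (.leaf 12620693637464756963) (.leaf 31067409011473886047))) (.node (.node (.leaf 8009016593866878727) (.leaf 26455708045752708251)) (.node (.leaf 17241318520703664837) (.leaf 35688031438912027481))))) (.node (.node (.node (.node (.leaf 2247848025966291327) (.leaf 20694570516495573379)) (.node (.leaf 11465655174197073185) (.leaf 29912383786559086237))) (.node (.node (.leaf 6853958933757006245) (.leaf 25300727025567166841)) (.node (.leaf 16080822288414126587) (.leaf 34527569070414353703)))) (.node (.node (.node (.leaf 4548115837470088669) (.leaf 22994881335371233889)) (.node (.leaf 13773619427002988607) (.leaf 32220363701198777539))) (.node (.node (.leaf 9161904692080323259)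 (.leaf 27608671533047387751)) (.node (.leaf 18406986567006465081) (.leaf 36853733525754473701)))))))

/-- Part of a collection table. -/
def tblM24_0_15 : Trie := (.node (.node (.node (.node (.node (.node (.leaf 575155394518597226) (.leaf 19021931970921673686)) (.node (.leaf 9779019950310463208) (.leaf 28225783429533066580))) (.node (.node (.leaf 5167358996824668748) (.leaf 23614063103580202128)) (.node (.leaf 14411402029975995310) (.leaf 32858173977230402610)))) (.node (.node (.node (.leaf 2861515889750538260) (.leaf 21308259132734632872)) (.node (.leaf 12084437024052200746) (.leaf 30531196918389114006))) (.node (.node (.leaf 7472804546677688046) (.leaf 25919503239095433586)) (.node (.leaf 16711003937805912016) (.leaf 35157725104826082572))))) (.node (.node (.node (.node (.leaf 1728109401828392630) (.leaf 20174808048111030346)) (.node (.leaf 10929579496469871476) (.leaf 29376309409579246984))) (.node (.node (.leaf 6317908244054343152) (.leaf 24764633794488177772)) (.node (.leaf 15533945581151763986) (.leaf 33980653151573565646)))) (.node (.node (.node (.leaf 4012065159906997448) (.leaf 22458805486361941556))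 (.node (.leaf 13237374264960554486) (.leaf 31684097339779530506))) (.node (.node (.leaf 8625698691885087570) (.leaf 27072428613719139726)) (.node (.leaf 17860966495145142060) (.leaf 36307691038096714416)))))) (.node (.node (.node (.node (.node (.leaf 1132133731627340220) (.leaf 19578905075840443392)) (.node (.leaf 10340725475914500578) (.leaf 28787498238774751518))) (.node (.node (.leaf 5729063456664888166) (.leaf 24175761214535070458)) (.node (.leaf 14982720983041123448) (.leaf 33429471179064061924)))) (.node (.node (.node (.leaf 3423220360113857118) (.leaf 21869933975651252898)) (.node (.leaf 12667018595866242300) (.leaf 31113757491661330752))) (.node (.node (.leaf 8055356964302522168) (.leaf 26502087312939534500)) (.node (.leaf 17270551174837707706) (.leaf 35717320105416330790))))) (.node (.node (.node (.node (.leaf 2285082506745053024) (.leaf 20731767060182073244)) (.node (.leaf 11518544857615783038) (.leaf 29965280939942004674))) (.node (.node (.leaf 6906891875676576986) (.leaf 25353638747655413766)) (.node (.leaf 16123253010570642884) (.leaf 34570001654265085208)))) (.node (.node (.node (.leaf 4601049013880542338)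 (.leaf 23047801908737090366)) (.node (.leaf 13819984260913822240) (.leaf 32266690718288325340))) (.node (.node (.leaf 9208301806311827076) (.leaf 27655019715320923736)) (.node (.leaf 18418286673986051398) (.leaf 36865044276783534490)))))))

/-- Part of a collection table. -/
def tblM24_1_0 : Trie := (.node (.node (.node (.node (.node (.node (.leaf 2) (.leaf 18014398509482818)) (.node (.leaf 9007199254741502) (.leaf 27021597764716734))) (.node (.node (.leaf 4503599627370658) (.leaf 22517998136989154)) (.node (.leaf 13521829309947934) (.leaf 31536227819430750)))) (.node (.node (.node (.leaf 2251799813686270) (.leaf 20266198324189886)) (.node (.leaf 11329271488884034) (.leaf 29343669998690818))) (.node (.node (.leaf 6755399473968478) (.leaf 24769797983255070)) (.node (.leaf 15786658748888738) (.leaf 33801057257714658))))) (.node (.node (.node (.node (.leaf 1125899906842658) (.leaf 19140298416325474)) (.node (.leaf 10135307539046046) (.leaf 28149706048134110))) (.node (.node (.leaf 5629499535261826) (.leaf 23643898044880322)) (.node (.leaf 14645539261931902) (.leaf 32659937771744830)))) (.node (.node (.node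 (.leaf 3379908097988766) (.leaf 21394306607599070)) (.node (.leaf 12397945935110498) (.leaf 30412344444923426))) (.node (.node (.leaf 7883507729561662) (.leaf 25897906239044478)) (.node (.leaf 16890653668617858) (.leaf 34905052178754498)))))) (.node (.node (.node (.node (.node (.leaf 562949953421550) (.leaf 18577348463134638)) (.node (.leaf 9586430116133682) (.leaf 27600828624823922))) (.node (.node (.leaf 5066549588174606) (.leaf 23080948098447950)) (.node (.leaf 14127379168961426) (.leaf 32141777678317778)))) (.node (.node (.node (.leaf 2831030675078450) (.leaf 20845429184295026)) (.node (.leaf 11854933619145134) (.leaf 29869332128495342))) (.node (.node (.leaf 7334630293044946) (.leaf 25349028802162066)) (.node (.leaf 16364958905338126) (.leaf 34379357415081038))))) (.node (.node (.node (.node (.leaf 1688849867654542) (.leaf 19703248377531086)) (.node (.leaf 10723368126968594) (.leaf 28737766637235794))) (.node (.node (.leaf 6192449499357294) (.leaf 24206848008910126)) (.node (.leaf 15207280047776690) (.leaf 33221678556346610)))) (.node (.node (.node (.leaf 3967968685913362) (.leaf 21982367195658322))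 (.node (.leaf 12958756974142670) (.leaf 30973155483788174))) (.node (.node (.leaf 8471568321640178) (.leaf 26485966831871410)) (.node (.leaf 17512762479430254) (.leaf 35527160988323630)))))))

/-- Part of a collection table. -/
def tblM24_1_1 : Trie := (.node (.node (.node (.node (.node (.node (.leaf 3) (.leaf 18014398509482819)) (.node (.leaf 9007199254741503) (.leaf 27021597764716735))) (.node (.node (.leaf 4503599627370659) (.leaf 22517998136989155)) (.node (.leaf 13521829309947935) (.leaf 31536227819430751)))) (.node (.node (.node (.leaf 2251799813686271) (.leaf 20266198324189887)) (.node (.leaf 11329271488884035) (.leaf 29343669998690819))) (.node (.node (.leaf 6755399473968479) (.leaf 24769797983255071)) (.node (.leaf 15786658748888739) (.leaf 33801057257714659))))) (.node (.node (.node (.node (.leaf 1125899906842659) (.leaf 19140298416325475)) (.node (.leaf 10135307539046047) (.leaf 28149706048134111))) (.node (.node (.leaf 5629499535261827) (.leaf 23643898044880323)) (.node (.leaf 14645539261931903) (.leaf 32659937771744831)))) (.node (.node (.node (.leaf 3379908097988767) (.leaf 21394306607599071))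 (.node (.leaf 12397945935110499) (.leaf 30412344444923427))) (.node (.node (.leaf 7883507729561663) (.leaf 25897906239044479)) (.node (.leaf 16890653668617859) (.leaf 34905052178754499)))))) (.node (.node (.node (.node (.node (.leaf 562949953421551) (.leaf 18577348463134639)) (.node (.leaf 9586430116133683) (.leaf 27600828624823923))) (.node (.node (.leaf 5066549588174607) (.leaf 23080948098447951)) (.node (.leaf 14127379168961427) (.leaf 32141777678317779)))) (.node (.node (.node (.leaf 2831030675078451) (.leaf 20845429184295027)) (.node (.leaf 11854933619145135) (.leaf 29869332128495343))) (.node (.node (.leaf 7334630293044947) (.leaf 25349028802162067)) (.node (.leaf 16364958905338127) (.leaf 34379357415081039))))) (.node (.node (.node (.node (.leaf 1688849867654543) (.leaf 19703248377531087)) (.node (.leaf 10723368126968595) (.leaf 28737766637235795))) (.node (.node (.leaf 6192449499357295) (.leaf 24206848008910127)) (.node (.leaf 15207280047776691) (.leaf 33221678556346611)))) (.node (.node (.node (.leaf 3967968685913363) (.leaf 21982367195658323)) (.node (.leaf 12958756974142671) (.leaf 30973155483788175)))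 (.node (.node (.leaf 8471568321640179) (.leaf 26485966831871411)) (.node (.leaf 17512762479430255) (.leaf 35527160988323631)))))))

/-- Part of a collection table. -/
def tblM24_1_2 : Trie := (.node (.node (.node (.node (.node (.node (.leaf 70368744178076) (.leaf 18084767254056668)) (.node (.leaf 9105938870481184) (.leaf 27120337380228192))) (.node (.node (.leaf 4573968384271484) (.leaf 22588366893822268)) (.node (.leaf 13589713056833920) (.leaf 31604111566450368)))) (.node (.node (.node (.leaf 2350539429425952) (.leaf 20364937938644576)) (.node (.leaf 11377649998950620) (.leaf 29392048508598172))) (.node (.node (.leaf 6854139030582464) (.leaf 24868537540227968)) (.node (.leaf 15857027496560252) (.leaf 33871426006631228))))) (.node (.node (.node (.node (.leaf 1196268663735548) (.leaf 19210667173184444)) (.node (.leaf 10220903845672192) (.leaf 28235302355417152))) (.node (.node (.leaf 5699868290097948) (.leaf 23714266800373340)) (.node (.leaf 14761990091879840) (.leaf 32776388601494240)))) (.node (.node (.node (.leaf 3465504404616960) (.leaf 21479902914882112)) (.node (.leaf 12525627799252412) (.leaf 30540026309124860)))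 (.node (.node (.leaf 7969104023597280) (.leaf 25983502533179296)) (.node (.leaf 16961022413672732) (.leaf 34975420922895452)))))) (.node (.node (.node (.node (.node (.leaf 661690264349520) (.leaf 18676088773636112)) (.node (.leaf 9689913426277836) (.leaf 27704311935597708))) (.node (.node (.leaf 5165289880988144) (.leaf 23179688390369456)) (.node (.leaf 14151698193302572) (.leaf 32166096702785388)))) (.node (.node (.node (.leaf 2934513985222604) (.leaf 20948912494014092)) (.node (.leaf 11910126155465232) (.leaf 29924524664427856))) (.node (.node (.leaf 7438113589379436) (.leaf 25452512099061292)) (.node (.leaf 16459801541728240) (.leaf 34474200051240624))))) (.node (.node (.node (.node (.leaf 1787590160445296) (.leaf 19801988670256176)) (.node (.leaf 10818021531893420) (.leaf 28832420042030060))) (.node (.node (.leaf 6291189799628240) (.leaf 24305588309533840)) (.node (.leaf 15275405833933132) (.leaf 33289804343746060)))) (.node (.node (.node (.leaf 4062622090836140) (.leaf 22077020600446444)) (.node (.leaf 13057828000192048) (.leaf 31072226509144432))) (.node (.node (.leaf 8566221721344012) (.leaf 26580620230826828))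 (.node (.leaf 17572455080529872) (.leaf 35586853589980816)))))))

/-- Part of a collection table. -/
def tblM24_1_3 : Trie := (.node (.node (.node (.node (.node (.node (.leaf 70368744178077) (.leaf 18084767254056669)) (.node (.leaf 9105938870481185) (.leaf 27120337380228193))) (.node (.node (.leaf 4573968384271485) (.leaf 22588366893822269)) (.node (.leaf 13589713056833921) (.leaf 31604111566450369)))) (.node (.node (.node (.leaf 2350539429425953) (.leaf 20364937938644577)) (.node (.leaf 11377649998950621) (.leaf 29392048508598173))) (.node (.node (.leaf 6854139030582465) (.leaf 24868537540227969)) (.node (.leaf 15857027496560253) (.leaf 33871426006631229))))) (.node (.node (.node (.node (.leaf 1196268663735549) (.leaf 19210667173184445)) (.node (.leaf 10220903845672193) (.leaf 28235302355417153))) (.node (.node (.leaf 5699868290097949) (.leaf 23714266800373341)) (.node (.leaf 14761990091879841) (.leaf 32776388601494241)))) (.node (.node (.node (.leaf 3465504404616961) (.leaf 21479902914882113)) (.node (.leaf 12525627799252413) (.leaf 30540026309124861))) (.node (.node (.leaf 7969104023597281) (.leaf 25983502533179297))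 (.node (.leaf 16961022413672733) (.leaf 34975420922895453)))))) (.node (.node (.node (.node (.node (.leaf 661690264349521) (.leaf 18676088773636113)) (.node (.leaf 9689913426277837) (.leaf 27704311935597709))) (.node (.node (.leaf 5165289880988145) (.leaf 23179688390369457)) (.node (.leaf 14151698193302573) (.leaf 32166096702785389)))) (.node (.node (.node (.leaf 2934513985222605) (.leaf 20948912494014093)) (.node (.leaf 11910126155465233) (.leaf 29924524664427857))) (.node (.node (.leaf 7438113589379437) (.leaf 25452512099061293)) (.node (.leaf 16459801541728241) (.leaf 34474200051240625))))) (.node (.node (.node (.node (.leaf 1787590160445297) (.leaf 19801988670256177)) (.node (.leaf 10818021531893421) (.leaf 28832420042030061))) (.node (.node (.leaf 6291189799628241) (.leaf 24305588309533841)) (.node (.leaf 15275405833933133) (.leaf 33289804343746061)))) (.node (.node (.node (.leaf 4062622090836141) (.leaf 22077020600446445)) (.node (.leaf 13057828000192049) (.leaf 31072226509144433))) (.node (.node (.leaf 8566221721344013) (.leaf 26580620230826829)) (.node (.leaf 17572455080529873) (.leaf 35586853589980817)))))))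

/-- Part of a collection table. -/
def tblM24_1_4 : Trie := (.node (.node (.node (.node (.node (.node (.leaf 140737488355738) (.leaf 18155135998234330)) (.node (.leaf 9176084659009798) (.leaf 27190483168228422))) (.node (.node (.leaf 4644337128449146) (.leaf 22658735637999930)) (.node (.leaf 13659995501181350) (.leaf 31674394010793702)))) (.node (.node (.node (.leaf 2420685217954566) (.leaf 20435083727693382)) (.node (.leaf 11445906309069018) (.leaf 29460304818388890))) (.node (.node (.leaf 6924284853714150) (.leaf 24938683363031974)) (.node (.leaf 15929680475426426) (.leaf 33944078984317754))))) (.node (.node (.node (.node (.leaf 1266637407913210) (.leaf 19281035917362106)) (.node (.leaf 10290946566830374) (.leaf 28305345076048998))) (.node (.node (.leaf 5770237034275610) (.leaf 23784635544551002)) (.node (.leaf 14831894567495046) (.leaf 32846293077109446)))) (.node (.node (.node (.leaf 3535547125775142) (.leaf 21549945635513958)) (.node (.leaf 12593710923882938) (.leaf 30608109433237242))) (.node (.node (.leaf 8039146762583238) (.leaf 26053545272228742)) (.node (.leaf 17033504926407962) (.leaf 35047903436148826))))))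 (.node (.node (.node (.node (.node (.leaf 731836255282038) (.leaf 18746234764965942)) (.node (.leaf 9762533385878986) (.leaf 27776931895522442))) (.node (.node (.leaf 5235435911209430) (.leaf 23249834420791446)) (.node (.leaf 14219918769130538) (.leaf 32234317278613354)))) (.node (.node (.node (.leaf 3007133944823754) (.leaf 21021532454987402)) (.node (.leaf 11982831957810742) (.leaf 29997230466763126))) (.node (.node (.leaf 7510733586991466) (.leaf 25525132096276010)) (.node (.leaf 16528245393265622) (.leaf 34542643902057110))))) (.node (.node (.node (.node (.leaf 1857736190699350) (.leaf 19872134699858966)) (.node (.leaf 10886242139600554) (.leaf 28900640648426474))) (.node (.node (.leaf 6361335790527990) (.leaf 24375734299585718)) (.node (.leaf 15348025831971146) (.leaf 33362424341124618)))) (.node (.node (.node (.leaf 4130842698543274) (.leaf 22145241207891434)) (.node (.leaf 13130807326213654) (.leaf 31145205835174230))) (.node (.node (.leaf 8634442331148298) (.leaf 26648840840631114)) (.node (.leaf 17640900297678838) (.leaf 35655298807842486)))))))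

/-- Part of a collection table. -/
def tblM24_1_5 : Trie := (.node (.node (.node (.node (.node (.node (.leaf 140737488355739) (.leaf 18155135998234331)) (.node (.leaf 9176084659009799) (.leaf 27190483168228423))) (.node (.node (.leaf 4644337128449147) (.leaf 22658735637999931)) (.node (.leaf 13659995501181351) (.leaf 31674394010793703)))) (.node (.node (.node (.leaf 2420685217954567) (.leaf 20435083727693383)) (.node (.leaf 11445906309069019) (.leaf 29460304818388891))) (.node (.node (.leaf 6924284853714151) (.leaf 24938683363031975)) (.node (.leaf 15929680475426427) (.leaf 33944078984317755))))) (.node (.node (.node (.node (.leaf 1266637407913211) (.leaf 19281035917362107)) (.node (.leaf 10290946566830375) (.leaf 28305345076048999))) (.node (.node (.leaf 5770237034275611) (.leaf 23784635544551003)) (.node (.leaf 14831894567495047) (.leaf 32846293077109447)))) (.node (.node (.node (.leaf 3535547125775143) (.leaf 21549945635513959)) (.node (.leaf 12593710923882939) (.leaf 30608109433237243))) (.node (.node (.leaf 8039146762583239) (.leaf 26053545272228743)) (.node (.leaf 17033504926407963) (.leaf 35047903436148827))))))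 (.node (.node (.node (.node (.node (.leaf 731836255282039) (.leaf 18746234764965943)) (.node (.leaf 9762533385878987) (.leaf 27776931895522443))) (.node (.node (.leaf 5235435911209431) (.leaf 23249834420791447)) (.node (.leaf 14219918769130539) (.leaf 32234317278613355)))) (.node (.node (.node (.leaf 3007133944823755) (.leaf 21021532454987403)) (.node (.leaf 11982831957810743) (.leaf 29997230466763127))) (.node (.node (.leaf 7510733586991467) (.leaf 25525132096276011)) (.node (.leaf 16528245393265623) (.leaf 34542643902057111))))) (.node (.node (.node (.node (.leaf 1857736190699351) (.leaf 19872134699858967)) (.node (.leaf 10886242139600555) (.leaf 28900640648426475))) (.node (.node (.leaf 6361335790527991) (.leaf 24375734299585719)) (.node (.leaf 15348025831971147) (.leaf 33362424341124619)))) (.node (.node (.node (.leaf 4130842698543275) (.leaf 22145241207891435)) (.node (.leaf 13130807326213655) (.leaf 31145205835174231))) (.node (.node (.leaf 8634442331148299) (.leaf 26648840840631115)) (.node (.leaf 17640900297678839) (.leaf 35655298807842487)))))))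

/-- Part of a collection table. -/
def tblM24_1_6 : Trie := (.node (.node (.node (.node (.node (.node (.leaf 211217284544548) (.leaf 18225615794027364)) (.node (.leaf 9220890439399928) (.leaf 27235288948453560))) (.node (.node (.leaf 4714816910866564) (.leaf 22729215420214724)) (.node (.leaf 13731052918708248) (.leaf 31745451428191064)))) (.node (.node (.node (.leaf 2465490998344696) (.leaf 20479889507918520)) (.node (.leaf 11538018945518948) (.leaf 29552417455325732))) (.node (.node (.leaf 6969090620067160) (.leaf 24983489129742872)) (.node (.leaf 16000007726812804) (.leaf 34014406236949444))))) (.node (.node (.node (.node (.leaf 1337117190338564) (.leaf 19351515699821380)) (.node (.leaf 10344600374535832) (.leaf 28358998883361752))) (.node (.node (.leaf 5840716817709220) (.leaf 23855115327057380)) (.node (.leaf 14859159009188216) (.leaf 32873557518341688)))) (.node (.node (.node (.leaf 3589200933478552) (.leaf 21603599442834904)) (.node (.leaf 12606932826950980) (.leaf 30621331336626692))) (.node (.node (.leaf 8092800565035064) (.leaf 26107199074517880)) (.node (.leaf 17103969333412516) (.leaf 35118367842240484))))))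 (.node (.node (.node (.node (.node (.leaf 776641138079976) (.leaf 18791039647399848)) (.node (.leaf 9795288964419348) (.leaf 27809687474688596))) (.node (.node (.leaf 5280240768622344) (.leaf 23294639278359112)) (.node (.leaf 14340840359600052) (.leaf 32355238868681972)))) (.node (.node (.node (.leaf 3039889523362068) (.leaf 21054288033104980)) (.node (.leaf 12065705758969256) (.leaf 30080104268579560))) (.node (.node (.leaf 7543489159154420) (.leaf 25557887669066164)) (.node (.leaf 16575800033623304) (.leaf 34590198542839880))))) (.node (.node (.node (.node (.leaf 1902541048118664) (.leaf 19916939557204680)) (.node (.leaf 10936659259720500) (.leaf 28951057769471604))) (.node (.node (.leaf 6406140679542888) (.leaf 24420539188956456)) (.node (.leaf 15416102513104788) (.leaf 33430501021928660)))) (.node (.node (.node (.leaf 4181259818665268) (.leaf 22195658327885940)) (.node (.leaf 13169565341635784) (.leaf 31183963851281288))) (.node (.node (.leaf 8684859453343444) (.leaf 26699257963582868)) (.node (.leaf 17723638228400744) (.leaf 35738036737294120)))))))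

/-- Part of a collection table. -/
def tblM24_1_7 : Trie := (.node (.node (.node (.node (.node (.node (.leaf 211217284544549) (.leaf 18225615794027365)) (.node (.leaf 9220890439399929) (.leaf 27235288948453561))) (.node (.node (.leaf 4714816910866565) (.leaf 22729215420214725)) (.node (.leaf 13731052918708249) (.leaf 31745451428191065)))) (.node (.node (.node (.leaf 2465490998344697) (.leaf 20479889507918521)) (.node (.leaf 11538018945518949) (.leaf 29552417455325733))) (.node (.node (.leaf 6969090620067161) (.leaf 24983489129742873)) (.node (.leaf 16000007726812805) (.leaf 34014406236949445))))) (.node (.node (.node (.node (.leaf 1337117190338565) (.leaf 19351515699821381)) (.node (.leaf 10344600374535833) (.leaf 28358998883361753))) (.node (.node (.leaf 5840716817709221) (.leaf 23855115327057381)) (.node (.leaf 14859159009188217) (.leaf 32873557518341689)))) (.node (.node (.node (.leaf 3589200933478553) (.leaf 21603599442834905)) (.node (.leaf 12606932826950981) (.leaf 30621331336626693))) (.node (.node (.leaf 8092800565035065) (.leaf 26107199074517881)) (.node (.leaf 17103969333412517) (.leaf 35118367842240485))))))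 (.node (.node (.node (.node (.node (.leaf 776641138079977) (.leaf 18791039647399849)) (.node (.leaf 9795288964419349) (.leaf 27809687474688597))) (.node (.node (.leaf 5280240768622345) (.leaf 23294639278359113)) (.node (.leaf 14340840359600053) (.leaf 32355238868681973)))) (.node (.node (.node (.leaf 3039889523362069) (.leaf 21054288033104981)) (.node (.leaf 12065705758969257) (.leaf 30080104268579561))) (.node (.node (.leaf 7543489159154421) (.leaf 25557887669066165)) (.node (.leaf 16575800033623305) (.leaf 34590198542839881))))) (.node (.node (.node (.node (.leaf 1902541048118665) (.leaf 19916939557204681)) (.node (.leaf 10936659259720501) (.leaf 28951057769471605))) (.node (.node (.leaf 6406140679542889) (.leaf 24420539188956457)) (.node (.leaf 15416102513104789) (.leaf 33430501021928661)))) (.node (.node (.node (.leaf 4181259818665269) (.leaf 22195658327885941)) (.node (.leaf 13169565341635785) (.leaf 31183963851281289))) (.node (.node (.leaf 8684859453343445) (.leaf 26699257963582869)) (.node (.leaf 17723638228400745) (.leaf 35738036737294121)))))))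

/-- Part of a collection table. -/
def tblM24_1_8 : Trie := (.node (.node (.node (.node (.node (.node (.leaf 281474976711094) (.leaf 18295873486589686)) (.node (.leaf 9318881239923786) (.leaf 27333279749466378))) (.node (.node (.leaf 4785074617853014) (.leaf 22799473127403798)) (.node (.leaf 13798119963557610) (.leaf 31812518472412586)))) (.node (.node (.node (.leaf 2563481798868554) (.leaf 20577880308939530)) (.node (.leaf 11610755054642422) (.leaf 29625153563960246))) (.node (.node (.leaf 7067081445096362) (.leaf 25081479955226858)) (.node (.leaf 16081199006161494) (.leaf 34095597516103446))))) (.node (.node (.node (.node (.leaf 1407374897317078) (.leaf 19421773406765974)) (.node (.leaf 10429344983923818) (.leaf 28443743493335338))) (.node (.node (.leaf 5910974522630966) (.leaf 23925373032906358)) (.node (.leaf 14974691836392138) (.leaf 32989090346230154)))) (.node (.node (.node (.leaf 3673945542868586) (.leaf 21688344052808490)) (.node (.leaf 12714752388670870) (.leaf 30729150898547414))) (.node (.node (.leaf 8177545156623242) (.leaf 26191943667015882)) (.node (.leaf 17229174378202422) (.leaf 35243572887423094))))))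 (.node (.node (.node (.node (.node (.leaf 874631505295738) (.leaf 18889030014580282)) (.node (.leaf 9865707040455142) (.leaf 27880105550098598))) (.node (.node (.leaf 5378231139237850) (.leaf 23392629649401498)) (.node (.leaf 14397996634685446) (.leaf 32412395144168262)))) (.node (.node (.node (.leaf 3110307599399910) (.leaf 21124706108514982)) (.node (.leaf 12159159098804282) (.leaf 30173557608287098))) (.node (.node (.leaf 7613907206966598) (.leaf 25628305716249094)) (.node (.leaf 16634068748304858) (.leaf 34648467258083482))))) (.node (.node (.node (.node (.leaf 2000531418692954) (.leaf 20014929928499738)) (.node (.leaf 10993796761681542) (.leaf 29008195271556038))) (.node (.node (.leaf 6504131040574458) (.leaf 24518529549165242)) (.node (.leaf 15521688606281062) (.leaf 33536087115956774)))) (.node (.node (.node (.leaf 4238397320624262) (.leaf 22252795829972422)) (.node (.leaf 13236492173170714) (.leaf 31250890682653530))) (.node (.node (.leaf 8741996952180774) (.leaf 26756395461663590)) (.node (.leaf 17746722304711162) (.leaf 35761120813895866)))))))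

/-- Part of a collection table. -/
def tblM24_1_9 : Trie := (.node (.node (.node (.node (.node (.node (.leaf 281474976711095) (.leaf 18295873486589687)) (.node (.leaf 9318881239923787) (.leaf 27333279749466379))) (.node (.node (.leaf 4785074617853015) (.leaf 22799473127403799)) (.node (.leaf 13798119963557611) (.leaf 31812518472412587)))) (.node (.node (.node (.leaf 2563481798868555) (.leaf 20577880308939531)) (.node (.leaf 11610755054642423) (.leaf 29625153563960247))) (.node (.node (.leaf 7067081445096363) (.leaf 25081479955226859)) (.node (.leaf 16081199006161495) (.leaf 34095597516103447))))) (.node (.node (.node (.node (.leaf 1407374897317079) (.leaf 19421773406765975)) (.node (.leaf 10429344983923819) (.leaf 28443743493335339))) (.node (.node (.leaf 5910974522630967) (.leaf 23925373032906359)) (.node (.leaf 14974691836392139) (.leaf 32989090346230155)))) (.node (.node (.node (.leaf 3673945542868587) (.leaf 21688344052808491)) (.node (.leaf 12714752388670871) (.leaf 30729150898547415))) (.node (.node (.leaf 8177545156623243) (.leaf 26191943667015883)) (.node (.leaf 17229174378202423) (.leaf 35243572887423095))))))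 (.node (.node (.node (.node (.node (.leaf 874631505295739) (.leaf 18889030014580283)) (.node (.leaf 9865707040455143) (.leaf 27880105550098599))) (.node (.node (.leaf 5378231139237851) (.leaf 23392629649401499)) (.node (.leaf 14397996634685447) (.leaf 32412395144168263)))) (.node (.node (.node (.leaf 3110307599399911) (.leaf 21124706108514983)) (.node (.leaf 12159159098804283) (.leaf 30173557608287099))) (.node (.node (.leaf 7613907206966599) (.leaf 25628305716249095)) (.node (.leaf 16634068748304859) (.leaf 34648467258083483))))) (.node (.node (.node (.node (.leaf 2000531418692955) (.leaf 20014929928499739)) (.node (.leaf 10993796761681543) (.leaf 29008195271556039))) (.node (.node (.leaf 6504131040574459) (.leaf 24518529549165243)) (.node (.leaf 15521688606281063) (.leaf 33536087115956775)))) (.node (.node (.node (.leaf 4238397320624263) (.leaf 22252795829972423)) (.node (.leaf 13236492173170715) (.leaf 31250890682653531))) (.node (.node (.leaf 8741996952180775) (.leaf 26756395461663591)) (.node (.leaf 17746722304711163) (.leaf 35761120813895867)))))))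

/-- Part of a collection table. -/
def tblM24_1_10 : Trie := (.node (.node (.node (.node (.node (.node (.leaf 380166263759400) (.leaf 18394564772722024)) (.node (.leaf 9424193187193492) (.leaf 27438591697070036))) (.node (.node (.leaf 4883765873336968) (.leaf 22898164382164936)) (.node (.leaf 13916830308551028) (.leaf 31931228818359860)))) (.node (.node (.node (.leaf 2668793746138260) (.leaf 20683192255492564)) (.node (.leaf 11665859326019432) (.leaf 29680257836358696))) (.node (.node (.leaf 7172393377694772) (.leaf 25186791887177588)) (.node (.leaf 16176022329673864) (.leaf 34190420839030216))))) (.node (.node (.node (.node (.leaf 1506066152776200) (.leaf 19520464661738824)) (.node (.leaf 10547902170954228) (.leaf 28562300680138932))) (.node (.node (.leaf 6009665796956840) (.leaf 24024064305784808)) (.node (.leaf 15044939250863124) (.leaf 33059337760345940)))) (.node (.node (.node (.leaf 3792502729898996) (.leaf 21806901239603892)) (.node (.leaf 12743604459686728) (.leaf 30758002968973320))) (.node (.node (.leaf 8296102389370196) (.leaf 26310500899176980)) (.node (.leaf 17288813610273960) (.leaf 35303212119890408))))))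 (.node (.node (.node (.node (.node (.leaf 979943395929476) (.leaf 18994341905539780)) (.node (.leaf 9960727894233688) (.leaf 27975126404175640))) (.node (.node (.leaf 5483543035742308) (.leaf 23497941545164068)) (.node (.leaf 14492743697292536) (.leaf 32507142206806968)))) (.node (.node (.node (.leaf 3205328453178456) (.leaf 21219726962589976)) (.node (.leaf 12216163833109700) (.leaf 30230562342558596))) (.node (.node (.leaf 7708928082694584) (.leaf 25723326591786744)) (.node (.leaf 16739657334284900) (.leaf 34754055844357924))))) (.node (.node (.node (.node (.leaf 2105843315222756) (.leaf 20120241824739236)) (.node (.leaf 11106358813874808) (.leaf 29120757322768184))) (.node (.node (.leaf 6609442941505284) (.leaf 24623841451774532)) (.node (.leaf 15563745260031192) (.leaf 33578143769611160)))) (.node (.node (.node (.leaf 4350959372819576) (.leaf 22365357882231096)) (.node (.leaf 13355343084011940) (.leaf 31369741593890532))) (.node (.node (.leaf 8854559001254296) (.leaf 26868957511128792)) (.node (.leaf 17852448604348676) (.leaf 35866847113571396)))))))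

/-- Part of a collection table. -/
def tblM24_1_11 : Trie := (.node (.node (.node (.node (.node (.node (.leaf 380166263759401) (.leaf 18394564772722025)) (.node (.leaf 9424193187193493) (.leaf 27438591697070037))) (.node (.node (.leaf 4883765873336969) (.leaf 22898164382164937)) (.node (.leaf 13916830308551029) (.leaf 31931228818359861)))) (.node (.node (.node (.leaf 2668793746138261) (.leaf 20683192255492565)) (.node (.leaf 11665859326019433) (.leaf 29680257836358697))) (.node (.node (.leaf 7172393377694773) (.leaf 25186791887177589)) (.node (.leaf 16176022329673865) (.leaf 34190420839030217))))) (.node (.node (.node (.node (.leaf 1506066152776201) (.leaf 19520464661738825)) (.node (.leaf 10547902170954229) (.leaf 28562300680138933))) (.node (.node (.leaf 6009665796956841) (.leaf 24024064305784809)) (.node (.leaf 15044939250863125) (.leaf 33059337760345941)))) (.node (.node (.node (.leaf 3792502729898997) (.leaf 21806901239603893)) (.node (.leaf 12743604459686729) (.leaf 30758002968973321))) (.node (.node (.leaf 8296102389370197) (.leaf 26310500899176981)) (.node (.leaf 17288813610273961) (.leaf 35303212119890409))))))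 (.node (.node (.node (.node (.node (.leaf 979943395929477) (.leaf 18994341905539781)) (.node (.leaf 9960727894233689) (.leaf 27975126404175641))) (.node (.node (.leaf 5483543035742309) (.leaf 23497941545164069)) (.node (.leaf 14492743697292537) (.leaf 32507142206806969)))) (.node (.node (.node (.leaf 3205328453178457) (.leaf 21219726962589977)) (.node (.leaf 12216163833109701) (.leaf 30230562342558597))) (.node (.node (.leaf 7708928082694585) (.leaf 25723326591786745)) (.node (.leaf 16739657334284901) (.leaf 34754055844357925))))) (.node (.node (.node (.node (.leaf 2105843315222757) (.leaf 20120241824739237)) (.node (.leaf 11106358813874809) (.leaf 29120757322768185))) (.node (.node (.leaf 6609442941505285) (.leaf 24623841451774533)) (.node (.leaf 15563745260031193) (.leaf 33578143769611161)))) (.node (.node (.node (.leaf 4350959372819577) (.leaf 22365357882231097)) (.node (.leaf 13355343084011941) (.leaf 31369741593890533))) (.node (.node (.leaf 8854559001254297) (.leaf 26868957511128793)) (.node (.leaf 17852448604348677) (.leaf 35866847113571397)))))))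

/-- Part of a collection table. -/
def tblM24_1_12 : Trie := (.node (.node (.node (.node (.node (.node (.leaf 450251543183182) (.leaf 18464650052461582)) (.node (.leaf 9479168754426514) (.leaf 27493567263254482))) (.node (.node (.leaf 4953851164016110) (.leaf 22968249673135278)) (.node (.leaf 13941019554024818) (.leaf 31955418063700530)))) (.node (.node (.node (.leaf 2723769313371282) (.leaf 20738167822725586)) (.node (.leaf 11721119844484622) (.leaf 29735518354493774))) (.node (.node (.leaf 7227368936539186) (.leaf 25241767446022002)) (.node (.leaf 16235679029530606) (.leaf 34250077538195118))))) (.node (.node (.node (.node (.leaf 1576151443471214) (.leaf 19590549953273902)) (.node (.leaf 10607275822447090) (.leaf 28621674331631794))) (.node (.node (.leaf 6079751078459854) (.leaf 24094149588103310)) (.node (.leaf 15064730449528850) (.leaf 33079128959011666)))) (.node (.node (.node (.leaf 3851876381391858) (.leaf 21866274890048178)) (.node (.leaf 12825252467053102) (.leaf 30839650977056110))) (.node (.node (.leaf 8355475994725714) (.leaf 26369874504532498)) (.node (.leaf 17374859359799246) (.leaf 35389257869057678))))))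 (.node (.node (.node (.node (.node (.leaf 1034919000911234) (.leaf 19049317510521538)) (.node (.leaf 10051153379576126) (.leaf 28065551888794750))) (.node (.node (.leaf 5538518632335458) (.leaf 23552917141757218)) (.node (.leaf 14543587037518238) (.leaf 32557985547392734)))) (.node (.node (.node (.leaf 3295753938520894) (.leaf 21310152448267902)) (.node (.leaf 12251348191251650) (.leaf 30265746700766082))) (.node (.node (.leaf 7799353575328990) (.leaf 25813752084843422)) (.node (.leaf 16810026065212002) (.leaf 34824424574236450))))) (.node (.node (.node (.node (.leaf 2160818911815906) (.leaf 20175217421332386)) (.node (.leaf 11157219195619614) (.leaf 29171617704838238))) (.node (.node (.leaf 6664418542292738) (.leaf 24678817051513410)) (.node (.leaf 15654188340483518) (.leaf 33668586850360062)))) (.node (.node (.node (.leaf 4401819754564382) (.leaf 22416218264311390)) (.node (.leaf 13390527483223458) (.leaf 31404925992309474))) (.node (.node (.leaf 8905419390323966) (.leaf 26919817899772862)) (.node (.leaf 17922817334263042) (.leaf 35937215843479618)))))))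

/-- Part of a collection table. -/
def tblM24_1_13 : Trie := (.node (.node (.node (.node (.node (.node (.leaf 450251543183183) (.leaf 18464650052461583)) (.node (.leaf 9479168754426515) (.leaf 27493567263254483))) (.node (.node (.leaf 4953851164016111) (.leaf 22968249673135279)) (.node (.leaf 13941019554024819) (.leaf 31955418063700531)))) (.node (.node (.node (.leaf 2723769313371283) (.leaf 20738167822725587)) (.node (.leaf 11721119844484623) (.leaf 29735518354493775))) (.node (.node (.leaf 7227368936539187) (.leaf 25241767446022003)) (.node (.leaf 16235679029530607) (.leaf 34250077538195119))))) (.node (.node (.node (.node (.leaf 1576151443471215) (.leaf 19590549953273903)) (.node (.leaf 10607275822447091) (.leaf 28621674331631795))) (.node (.node (.leaf 6079751078459855) (.leaf 24094149588103311)) (.node (.leaf 15064730449528851) (.leaf 33079128959011667)))) (.node (.node (.node (.leaf 3851876381391859) (.leaf 21866274890048179)) (.node (.leaf 12825252467053103) (.leaf 30839650977056111))) (.node (.node (.leaf 8355475994725715) (.leaf 26369874504532499)) (.node (.leaf 17374859359799247) (.leaf 35389257869057679))))))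 (.node (.node (.node (.node (.node (.leaf 1034919000911235) (.leaf 19049317510521539)) (.node (.leaf 10051153379576127) (.leaf 28065551888794751))) (.node (.node (.leaf 5538518632335459) (.leaf 23552917141757219)) (.node (.leaf 14543587037518239) (.leaf 32557985547392735)))) (.node (.node (.node (.leaf 3295753938520895) (.leaf 21310152448267903)) (.node (.leaf 12251348191251651) (.leaf 30265746700766083))) (.node (.node (.leaf 7799353575328991) (.leaf 25813752084843423)) (.node (.leaf 16810026065212003) (.leaf 34824424574236451))))) (.node (.node (.node (.node (.leaf 2160818911815907) (.leaf 20175217421332387)) (.node (.leaf 11157219195619615) (.leaf 29171617704838239))) (.node (.node (.leaf 6664418542292739) (.leaf 24678817051513411)) (.node (.leaf 15654188340483519) (.leaf 33668586850360063)))) (.node (.node (.node (.leaf 4401819754564383) (.leaf 22416218264311391)) (.node (.leaf 13390527483223459) (.leaf 31404925992309475))) (.node (.node (.leaf 8905419390323967) (.leaf 26919817899772863)) (.node (.leaf 17922817334263043) (.leaf 35937215843479619)))))))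

/-- Part of a collection table. -/
def tblM24_1_14 : Trie := (.node (.node (.node (.node (.node (.node (.leaf 495166161369520) (.leaf 18509564670457584)) (.node (.leaf 9527693126271788) (.leaf 27542091636547180))) (.node (.node (.leaf 4998765802232912) (.leaf 23013164311644432)) (.node (.leaf 14011397007836044) (.leaf 32025795517716684)))) (.node (.node (.node (.leaf 2772293685216556) (.leaf 20786692194961516)) (.node (.leaf 11764441044699376) (.leaf 29778839554019248))) (.node (.node (.leaf 7275893319960268) (.leaf 25290291829872012)) (.node (.leaf 16314115879380560) (.leaf 34328514389451536))))) (.node (.node (.node (.node (.leaf 1621066081713360) (.leaf 19635464591293328)) (.node (.leaf 10642675175541516) (.leaf 28657073684239948))) (.node (.node (.leaf 6124665702816560) (.leaf 24139064212555376)) (.node (.leaf 15183691061466028) (.leaf 33198089570814188)))) (.node (.node (.node (.leaf 3887275734486284) (.leaf 21901674243702860)) (.node (.leaf 12912278156428688) (.leaf 30926676666305232))) (.node (.node (.leaf 8390875370278636) (.leaf 26405273879403948)) (.node (.leaf 17417974414849328) (.leaf 35432372924070000))))))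 (.node (.node (.node (.node (.node (.leaf 1083443528320028) (.leaf 19097842037802844)) (.node (.leaf 10089767667750368) (.leaf 28104166177266848))) (.node (.node (.leaf 5587043155690684) (.leaf 23601441665044988)) (.node (.leaf 14586942146768896) (.leaf 32601340656251712)))) (.node (.node (.node (.leaf 3334368226695136) (.leaf 21348766736731808)) (.node (.leaf 12357047337434460) (.leaf 30371445846585884))) (.node (.node (.leaf 7837967830081856) (.leaf 25852366339239424)) (.node (.leaf 16831887465529020) (.leaf 34846285974617084))))) (.node (.node (.node (.node (.leaf 2209343435162684) (.leaf 20223741944645500)) (.node (.leaf 11217858459538048) (.leaf 29232256968366016))) (.node (.node (.leaf 6712943063581852) (.leaf 24727341572936156)) (.node (.leaf 15710635167202656) (.leaf 33725033676485152)))) (.node (.node (.node (.leaf 4462459018482816) (.leaf 22476857527828928)) (.node (.leaf 13460905888019836) (.leaf 31475304397175356))) (.node (.node (.leaf 8966058650055712) (.leaf 26980457159538528)) (.node (.leaf 17971067009297052) (.leaf 35985465519173596)))))))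

/-- Part of a collection table. -/
def tblM24_1_15 : Trie := (.node (.node (.node (.node (.node (.node (.leaf 495166161369521) (.leaf 18509564670457585)) (.node (.leaf 9527693126271789) (.leaf 27542091636547181))) (.node (.node (.leaf 4998765802232913) (.leaf 23013164311644433)) (.node (.leaf 14011397007836045) (.leaf 32025795517716685)))) (.node (.node (.node (.leaf 2772293685216557) (.leaf 20786692194961517)) (.node (.leaf 11764441044699377) (.leaf 29778839554019249))) (.node (.node (.leaf 7275893319960269) (.leaf 25290291829872013)) (.node (.leaf 16314115879380561) (.leaf 34328514389451537))))) (.node (.node (.node (.node (.leaf 1621066081713361) (.leaf 19635464591293329)) (.node (.leaf 10642675175541517) (.leaf 28657073684239949))) (.node (.node (.leaf 6124665702816561) (.leaf 24139064212555377)) (.node (.leaf 15183691061466029) (.leaf 33198089570814189)))) (.node (.node (.node (.leaf 3887275734486285) (.leaf 21901674243702861)) (.node (.leaf 12912278156428689) (.leaf 30926676666305233))) (.node (.node (.leaf 8390875370278637) (.leaf 26405273879403949)) (.node (.leaf 17417974414849329) (.leaf 35432372924070001))))))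 (.node (.node (.node (.node (.node (.leaf 1083443528320029) (.leaf 19097842037802845)) (.node (.leaf 10089767667750369) (.leaf 28104166177266849))) (.node (.node (.leaf 5587043155690685) (.leaf 23601441665044989)) (.node (.leaf 14586942146768897) (.leaf 32601340656251713)))) (.node (.node (.node (.leaf 3334368226695137) (.leaf 21348766736731809)) (.node (.leaf 12357047337434461) (.leaf 30371445846585885))) (.node (.node (.leaf 7837967830081857) (.leaf 25852366339239425)) (.node (.leaf 16831887465529021) (.leaf 34846285974617085))))) (.node (.node (.node (.node (.leaf 2209343435162685) (.leaf 20223741944645501)) (.node (.leaf 11217858459538049) (.leaf 29232256968366017))) (.node (.node (.leaf 6712943063581853) (.leaf 24727341572936157)) (.node (.leaf 15710635167202657) (.leaf 33725033676485153)))) (.node (.node (.node (.leaf 4462459018482817) (.leaf 22476857527828929)) (.node (.leaf 13460905888019837) (.leaf 31475304397175357))) (.node (.node (.leaf 8966058650055713) (.leaf 26980457159538529)) (.node (.leaf 17971067009297053) (.leaf 35985465519173597)))))))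

/-- Part of a collection table. -/
def tblM24_2_0 : Trie := (.node (.node (.node (.node (.node (.node (.leaf 4) (.leaf 35184372089668)) (.node (.leaf 17592186045220) (.leaf 52776558927460))) (.node (.node (.leaf 8796093022372) (.leaf 43980465247716)) (.node (.leaf 26388284310404) (.leaf 61572657322180)))) (.node (.node (.node (.leaf 4398046511396) (.leaf 39582418865252)) (.node (.leaf 21990241998148) (.leaf 57174614415876))) (.node (.node (.leaf 13194149003972) (.leaf 48378521784708)) (.node (.leaf 30786358106788) (.leaf 65970730852324))))) (.node (.node (.node (.node (.leaf 2199023255588) (.leaf 37383395345252)) (.node (.leaf 19791210349316) (.leaf 54975583231556))) (.node (.node (.leaf 10995117326468) (.leaf 46179489551812)) (.node (.leaf 28587307565988) (.leaf 63771680577764)))) (.node (.node (.node (.leaf 6597070815492) (.leaf 41781443169348)) (.node (.leaf 24189265253732) (.leaf 59373637671460))) (.node (.node (.leaf 15393172259556) (.leaf 50577545040292)) (.node (.leaf 32985380313732) (.leaf 68169753059268)))))) (.node (.node (.node (.node (.node (.leaf 1099511627796) (.leaf 36283883717460)) (.node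 (.leaf 18691697673012) (.leaf 53876070555252))) (.node (.node (.leaf 9895604650164) (.leaf 45079976875508)) (.node (.leaf 27487795938196) (.leaf 62672168949972)))) (.node (.node (.node (.leaf 5497558139188) (.leaf 40681930493044)) (.node (.leaf 23089753625940) (.leaf 58274126043668))) (.node (.node (.leaf 14293660631764) (.leaf 49478033412500)) (.node (.leaf 31885869734580) (.leaf 67070242480116))))) (.node (.node (.node (.node (.leaf 3298534883380) (.leaf 38482906973044)) (.node (.leaf 20890721977108) (.leaf 56075094859348))) (.node (.node (.leaf 12094628954260) (.leaf 47279001179604)) (.node (.leaf 29686819193780) (.leaf 64871192205556)))) (.node (.node (.node (.leaf 7696582443284) (.leaf 42880954797140)) (.node (.leaf 25288776881524) (.leaf 60473149299252))) (.node (.node (.leaf 16492683887348) (.leaf 51677056668084)) (.node (.leaf 34084891941524) (.leaf 69269264687060)))))))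

/-- Part of a collection table. -/
def tblM24_2_1 : Trie := (.node (.node (.node (.node (.node (.node (.leaf 5) (.leaf 35184372089669)) (.node (.leaf 17592186045221) (.leaf 52776558927461))) (.node (.node (.leaf 8796093022373) (.leaf 43980465247717)) (.node (.leaf 26388284310405) (.leaf 61572657322181)))) (.node (.node (.node (.leaf 4398046511397) (.leaf 39582418865253)) (.node (.leaf 21990241998149) (.leaf 57174614415877))) (.node (.node (.leaf 13194149003973) (.leaf 48378521784709)) (.node (.leaf 30786358106789) (.leaf 65970730852325))))) (.node (.node (.node (.node (.leaf 2199023255589) (.leaf 37383395345253)) (.node (.leaf 19791210349317) (.leaf 54975583231557))) (.node (.node (.leaf 10995117326469) (.leaf 46179489551813)) (.node (.leaf 28587307565989) (.leaf 63771680577765)))) (.node (.node (.node (.leaf 6597070815493) (.leaf 41781443169349)) (.node (.leaf 24189265253733) (.leaf 59373637671461))) (.node (.node (.leaf 15393172259557) (.leaf 50577545040293)) (.node (.leaf 32985380313733) (.leaf 68169753059269)))))) (.node (.node (.node (.node (.node (.leaf 1099511627797) (.leaf 36283883717461)) (.node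 (.leaf 18691697673013) (.leaf 53876070555253))) (.node (.node (.leaf 9895604650165) (.leaf 45079976875509)) (.node (.leaf 27487795938197) (.leaf 62672168949973)))) (.node (.node (.node (.leaf 5497558139189) (.leaf 40681930493045)) (.node (.leaf 23089753625941) (.leaf 58274126043669))) (.node (.node (.leaf 14293660631765) (.leaf 49478033412501)) (.node (.leaf 31885869734581) (.leaf 67070242480117))))) (.node (.node (.node (.node (.leaf 3298534883381) (.leaf 38482906973045)) (.node (.leaf 20890721977109) (.leaf 56075094859349))) (.node (.node (.leaf 12094628954261) (.leaf 47279001179605)) (.node (.leaf 29686819193781) (.leaf 64871192205557)))) (.node (.node (.node (.leaf 7696582443285) (.leaf 42880954797141)) (.node (.leaf 25288776881525) (.leaf 60473149299253))) (.node (.node (.leaf 16492683887349) (.leaf 51677056668085)) (.node (.leaf 34084891941525) (.leaf 69269264687061)))))))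

/-- Part of a collection table. -/
def tblM24_2_2 : Trie := (.node (.node (.node (.node (.node (.node (.leaf 6) (.leaf 35184372089670)) (.node (.leaf 17592186045222) (.leaf 52776558927462))) (.node (.node (.leaf 8796093022374) (.leaf 43980465247718)) (.node (.leaf 26388284310406) (.leaf 61572657322182)))) (.node (.node (.node (.leaf 4398046511398) (.leaf 39582418865254)) (.node (.leaf 21990241998150) (.leaf 57174614415878))) (.node (.node (.leaf 13194149003974) (.leaf 48378521784710)) (.node (.leaf 30786358106790) (.leaf 65970730852326))))) (.node (.node (.node (.node (.leaf 2199023255590) (.leaf 37383395345254)) (.node (.leaf 19791210349318) (.leaf 54975583231558))) (.node (.node (.leaf 10995117326470) (.leaf 46179489551814)) (.node (.leaf 28587307565990) (.leaf 63771680577766)))) (.node (.node (.node (.leaf 6597070815494) (.leaf 41781443169350)) (.node (.leaf 24189265253734) (.leaf 59373637671462))) (.node (.node (.leaf 15393172259558) (.leaf 50577545040294)) (.node (.leaf 32985380313734) (.leaf 68169753059270)))))) (.node (.node (.node (.node (.node (.leaf 1099511627798) (.leaf 36283883717462)) (.node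 (.leaf 18691697673014) (.leaf 53876070555254))) (.node (.node (.leaf 9895604650166) (.leaf 45079976875510)) (.node (.leaf 27487795938198) (.leaf 62672168949974)))) (.node (.node (.node (.leaf 5497558139190) (.leaf 40681930493046)) (.node (.leaf 23089753625942) (.leaf 58274126043670))) (.node (.node (.leaf 14293660631766) (.leaf 49478033412502)) (.node (.leaf 31885869734582) (.leaf 67070242480118))))) (.node (.node (.node (.node (.leaf 3298534883382) (.leaf 38482906973046)) (.node (.leaf 20890721977110) (.leaf 56075094859350))) (.node (.node (.leaf 12094628954262) (.leaf 47279001179606)) (.node (.leaf 29686819193782) (.leaf 64871192205558)))) (.node (.node (.node (.leaf 7696582443286) (.leaf 42880954797142)) (.node (.leaf 25288776881526) (.leaf 60473149299254))) (.node (.node (.leaf 16492683887350) (.leaf 51677056668086)) (.node (.leaf 34084891941526) (.leaf 69269264687062)))))))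

/-- Part of a collection table. -/
def tblM24_2_3 : Trie := (.node (.node (.node (.node (.node (.node (.leaf 7) (.leaf 35184372089671)) (.node (.leaf 17592186045223) (.leaf 52776558927463))) (.node (.node (.leaf 8796093022375) (.leaf 43980465247719)) (.node (.leaf 26388284310407) (.leaf 61572657322183)))) (.node (.node (.node (.leaf 4398046511399) (.leaf 39582418865255)) (.node (.leaf 21990241998151) (.leaf 57174614415879))) (.node (.node (.leaf 13194149003975) (.leaf 48378521784711)) (.node (.leaf 30786358106791) (.leaf 65970730852327))))) (.node (.node (.node (.node (.leaf 2199023255591) (.leaf 37383395345255)) (.node (.leaf 19791210349319) (.leaf 54975583231559))) (.node (.node (.leaf 10995117326471) (.leaf 46179489551815)) (.node (.leaf 28587307565991) (.leaf 63771680577767)))) (.node (.node (.node (.leaf 6597070815495) (.leaf 41781443169351)) (.node (.leaf 24189265253735) (.leaf 59373637671463))) (.node (.node (.leaf 15393172259559) (.leaf 50577545040295)) (.node (.leaf 32985380313735) (.leaf 68169753059271)))))) (.node (.node (.node (.node (.node (.leaf 1099511627799) (.leaf 36283883717463)) (.node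 (.leaf 18691697673015) (.leaf 53876070555255))) (.node (.node (.leaf 9895604650167) (.leaf 45079976875511)) (.node (.leaf 27487795938199) (.leaf 62672168949975)))) (.node (.node (.node (.leaf 5497558139191) (.leaf 40681930493047)) (.node (.leaf 23089753625943) (.leaf 58274126043671))) (.node (.node (.leaf 14293660631767) (.leaf 49478033412503)) (.node (.leaf 31885869734583) (.leaf 67070242480119))))) (.node (.node (.node (.node (.leaf 3298534883383) (.leaf 38482906973047)) (.node (.leaf 20890721977111) (.leaf 56075094859351))) (.node (.node (.leaf 12094628954263) (.leaf 47279001179607)) (.node (.leaf 29686819193783) (.leaf 64871192205559)))) (.node (.node (.node (.leaf 7696582443287) (.leaf 42880954797143)) (.node (.leaf 25288776881527) (.leaf 60473149299255))) (.node (.node (.leaf 16492683887351) (.leaf 51677056668087)) (.node (.leaf 34084891941527) (.leaf 69269264687063)))))))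

/-- Part of a collection table. -/
def tblM24_2_4 : Trie := (.node (.node (.node (.node (.node (.node (.leaf 274877906976) (.leaf 35459249996640)) (.node (.leaf 17867065000704) (.leaf 53051437882944))) (.node (.node (.leaf 9070971977856) (.leaf 44255344203200)) (.node (.leaf 26663162217376) (.leaf 61847535229152)))) (.node (.node (.node (.leaf 4672925466880) (.leaf 39857297820736)) (.node (.leaf 22265119905120) (.leaf 57449492322848))) (.node (.node (.leaf 13469026910944) (.leaf 48653399691680)) (.node (.leaf 31061234965120) (.leaf 66245607710656))))) (.node (.node (.node (.node (.leaf 2473902211072) (.leaf 37658274300736)) (.node (.leaf 20066088256288) (.leaf 55250461138528))) (.node (.node (.leaf 11269995233440) (.leaf 46454367458784)) (.node (.leaf 28862184424320) (.leaf 64046557436096)))) (.node (.node (.node (.leaf 6871948722464) (.leaf 42056321076320)) (.node (.leaf 24464142112064) (.leaf 59648514529792))) (.node (.node (.leaf 15668049117888) (.leaf 50852421898624)) (.node (.leaf 33260258220704) (.leaf 68444630966240)))))) (.node (.node (.node (.node (.node (.leaf 1374456643632) (.leaf 36558828733296))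 (.node (.leaf 18966643737360) (.leaf 54151016619600))) (.node (.node (.leaf 10170550714512) (.leaf 45354922939856)) (.node (.leaf 27762740954032) (.leaf 62947113965808)))) (.node (.node (.node (.leaf 5772504203536) (.leaf 40956876557392)) (.node (.leaf 23364698641776) (.leaf 58549071059504))) (.node (.node (.leaf 14568605647600) (.leaf 49752978428336)) (.node (.leaf 32160813701776) (.leaf 67345186447312))))) (.node (.node (.node (.node (.leaf 3573480947728) (.leaf 38757853037392)) (.node (.leaf 21165666992944) (.leaf 56350039875184))) (.node (.node (.leaf 12369573970096) (.leaf 47553946195440)) (.node (.leaf 29961763160976) (.leaf 65146136172752)))) (.node (.node (.node (.leaf 7971527459120) (.leaf 43155899812976)) (.node (.leaf 25563720848720) (.leaf 60748093266448))) (.node (.node (.leaf 16767627854544) (.leaf 51952000635280)) (.node (.leaf 34359836957360) (.leaf 69544209702896)))))))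

/-- Part of a collection table. -/
def tblM24_2_5 : Trie := (.node (.node (.node (.node (.node (.node (.leaf 274877906977) (.leaf 35459249996641)) (.node (.leaf 17867065000705) (.leaf 53051437882945))) (.node (.node (.leaf 9070971977857) (.leaf 44255344203201)) (.node (.leaf 26663162217377) (.leaf 61847535229153)))) (.node (.node (.node (.leaf 4672925466881) (.leaf 39857297820737)) (.node (.leaf 22265119905121) (.leaf 57449492322849))) (.node (.node (.leaf 13469026910945) (.leaf 48653399691681)) (.node (.leaf 31061234965121) (.leaf 66245607710657))))) (.node (.node (.node (.node (.leaf 2473902211073) (.leaf 37658274300737)) (.node (.leaf 20066088256289) (.leaf 55250461138529))) (.node (.node (.leaf 11269995233441) (.leaf 46454367458785)) (.node (.leaf 28862184424321) (.leaf 64046557436097)))) (.node (.node (.node (.leaf 6871948722465) (.leaf 42056321076321)) (.node (.leaf 24464142112065) (.leaf 59648514529793))) (.node (.node (.leaf 15668049117889) (.leaf 50852421898625)) (.node (.leaf 33260258220705) (.leaf 68444630966241)))))) (.node (.node (.node (.node (.node (.leaf 1374456643633) (.leaf 36558828733297))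 (.node (.leaf 18966643737361) (.leaf 54151016619601))) (.node (.node (.leaf 10170550714513) (.leaf 45354922939857)) (.node (.leaf 27762740954033) (.leaf 62947113965809)))) (.node (.node (.node (.leaf 5772504203537) (.leaf 40956876557393)) (.node (.leaf 23364698641777) (.leaf 58549071059505))) (.node (.node (.leaf 14568605647601) (.leaf 49752978428337)) (.node (.leaf 32160813701777) (.leaf 67345186447313))))) (.node (.node (.node (.node (.leaf 3573480947729) (.leaf 38757853037393)) (.node (.leaf 21165666992945) (.leaf 56350039875185))) (.node (.node (.leaf 12369573970097) (.leaf 47553946195441)) (.node (.leaf 29961763160977) (.leaf 65146136172753)))) (.node (.node (.node (.leaf 7971527459121) (.leaf 43155899812977)) (.node (.leaf 25563720848721) (.leaf 60748093266449))) (.node (.node (.leaf 16767627854545) (.leaf 51952000635281)) (.node (.leaf 34359836957361) (.leaf 69544209702897)))))))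

/-- Part of a collection table. -/
def tblM24_2_6 : Trie := (.node (.node (.node (.node (.node (.node (.leaf 274877906978) (.leaf 35459249996642)) (.node (.leaf 17867065000706) (.leaf 53051437882946))) (.node (.node (.leaf 9070971977858) (.leaf 44255344203202)) (.node (.leaf 26663162217378) (.leaf 61847535229154)))) (.node (.node (.node (.leaf 4672925466882) (.leaf 39857297820738)) (.node (.leaf 22265119905122) (.leaf 57449492322850))) (.node (.node (.leaf 13469026910946) (.leaf 48653399691682)) (.node (.leaf 31061234965122) (.leaf 66245607710658))))) (.node (.node (.node (.node (.leaf 2473902211074) (.leaf 37658274300738)) (.node (.leaf 20066088256290) (.leaf 55250461138530))) (.node (.node (.leaf 11269995233442) (.leaf 46454367458786)) (.node (.leaf 28862184424322) (.leaf 64046557436098)))) (.node (.node (.node (.leaf 6871948722466) (.leaf 42056321076322)) (.node (.leaf 24464142112066) (.leaf 59648514529794))) (.node (.node (.leaf 15668049117890) (.leaf 50852421898626)) (.node (.leaf 33260258220706) (.leaf 68444630966242)))))) (.node (.node (.node (.node (.node (.leaf 1374456643634) (.leaf 36558828733298))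 (.node (.leaf 18966643737362) (.leaf 54151016619602))) (.node (.node (.leaf 10170550714514) (.leaf 45354922939858)) (.node (.leaf 27762740954034) (.leaf 62947113965810)))) (.node (.node (.node (.leaf 5772504203538) (.leaf 40956876557394)) (.node (.leaf 23364698641778) (.leaf 58549071059506))) (.node (.node (.leaf 14568605647602) (.leaf 49752978428338)) (.node (.leaf 32160813701778) (.leaf 67345186447314))))) (.node (.node (.node (.node (.leaf 3573480947730) (.leaf 38757853037394)) (.node (.leaf 21165666992946) (.leaf 56350039875186))) (.node (.node (.leaf 12369573970098) (.leaf 47553946195442)) (.node (.leaf 29961763160978) (.leaf 65146136172754)))) (.node (.node (.node (.leaf 7971527459122) (.leaf 43155899812978)) (.node (.leaf 25563720848722) (.leaf 60748093266450))) (.node (.node (.leaf 16767627854546) (.leaf 51952000635282)) (.node (.leaf 34359836957362) (.leaf 69544209702898)))))))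

/-- Part of a collection table. -/
def tblM24_2_7 : Trie := (.node (.node (.node (.node (.node (.node (.leaf 274877906979) (.leaf 35459249996643)) (.node (.leaf 17867065000707) (.leaf 53051437882947))) (.node (.node (.leaf 9070971977859) (.leaf 44255344203203)) (.node (.leaf 26663162217379) (.leaf 61847535229155)))) (.node (.node (.node (.leaf 4672925466883) (.leaf 39857297820739)) (.node (.leaf 22265119905123) (.leaf 57449492322851))) (.node (.node (.leaf 13469026910947) (.leaf 48653399691683)) (.node (.leaf 31061234965123) (.leaf 66245607710659))))) (.node (.node (.node (.node (.leaf 2473902211075) (.leaf 37658274300739)) (.node (.leaf 20066088256291) (.leaf 55250461138531))) (.node (.node (.leaf 11269995233443) (.leaf 46454367458787)) (.node (.leaf 28862184424323) (.leaf 64046557436099)))) (.node (.node (.node (.leaf 6871948722467) (.leaf 42056321076323)) (.node (.leaf 24464142112067) (.leaf 59648514529795))) (.node (.node (.leaf 15668049117891) (.leaf 50852421898627)) (.node (.leaf 33260258220707) (.leaf 68444630966243)))))) (.node (.node (.node (.node (.node (.leaf 1374456643635) (.leaf 36558828733299))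 (.node (.leaf 18966643737363) (.leaf 54151016619603))) (.node (.node (.leaf 10170550714515) (.leaf 45354922939859)) (.node (.leaf 27762740954035) (.leaf 62947113965811)))) (.node (.node (.node (.leaf 5772504203539) (.leaf 40956876557395)) (.node (.leaf 23364698641779) (.leaf 58549071059507))) (.node (.node (.leaf 14568605647603) (.leaf 49752978428339)) (.node (.leaf 32160813701779) (.leaf 67345186447315))))) (.node (.node (.node (.node (.leaf 3573480947731) (.leaf 38757853037395)) (.node (.leaf 21165666992947) (.leaf 56350039875187))) (.node (.node (.leaf 12369573970099) (.leaf 47553946195443)) (.node (.leaf 29961763160979) (.leaf 65146136172755)))) (.node (.node (.node (.leaf 7971527459123) (.leaf 43155899812979)) (.node (.leaf 25563720848723) (.leaf 60748093266451))) (.node (.node (.leaf 16767627854547) (.leaf 51952000635283)) (.node (.leaf 34359836957363) (.leaf 69544209702899)))))))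

/-- Part of a collection table. -/
def tblM24_2_8 : Trie := (.node (.node (.node (.node (.node (.node (.leaf 549755814732) (.leaf 35734128760844)) (.node (.leaf 18141969914476) (.leaf 53326341545772))) (.node (.node (.leaf 9345876935148) (.leaf 44530248927404)) (.node (.leaf 26938057563340) (.leaf 62122429619084)))) (.node (.node (.node (.leaf 4947830380652) (.leaf 40132202532140)) (.node (.leaf 22540015371788) (.leaf 57724386939212))) (.node (.node (.leaf 13743922404748) (.leaf 48928294359756)) (.node (.leaf 31336104385516) (.leaf 66520475583148))))) (.node (.node (.node (.node (.leaf 2748807120748) (.leaf 37933178493996)) (.node (.leaf 20340966170188) (.leaf 55525338848012))) (.node (.node (.leaf 11544873190860) (.leaf 46729245707404)) (.node (.leaf 29137074264300) (.leaf 64321446322092)))) (.node (.node (.node (.leaf 7146826636364) (.leaf 42331198785804)) (.node (.leaf 24739014771244) (.leaf 59923387389292))) (.node (.node (.leaf 15942921804204) (.leaf 51127294285548)) (.node (.leaf 33535119515596) (.leaf 68719492286092)))))) (.node (.node (.node (.node (.node (.leaf 1651032263196) (.leaf 36835404881244))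 (.node (.leaf 19243201535292) (.leaf 54427573883004))) (.node (.node (.leaf 10447108541116) (.leaf 45631481286652)) (.node (.leaf 28039314513308) (.leaf 63223686992604)))) (.node (.node (.node (.leaf 6049062001468) (.leaf 41233434871420)) (.node (.leaf 23641272164188) (.leaf 58825644966940))) (.node (.node (.leaf 14845179141340) (.leaf 50029551328156)) (.node (.leaf 32437367329980) (.leaf 67621739545084))))) (.node (.node (.node (.node (.leaf 3850038741564) (.leaf 39034411359612)) (.node (.leaf 21442240519452) (.leaf 56626612867164))) (.node (.node (.leaf 12646147525276) (.leaf 47830520270812)) (.node (.leaf 30238320991676) (.leaf 65422693470972)))) (.node (.node (.node (.leaf 8248100985628) (.leaf 43432473855580)) (.node (.leaf 25840278642556) (.leaf 61024651445308))) (.node (.node (.leaf 17044185619708) (.leaf 52228557806524)) (.node (.leaf 34636374856860) (.leaf 69820747071964)))))))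

/-- Part of a collection table. -/
def tblM24_2_9 : Trie := (.node (.node (.node (.node (.node (.node (.leaf 549755814733) (.leaf 35734128760845)) (.node (.leaf 18141969914477) (.leaf 53326341545773))) (.node (.node (.leaf 9345876935149) (.leaf 44530248927405)) (.node (.leaf 26938057563341) (.leaf 62122429619085)))) (.node (.node (.node (.leaf 4947830380653) (.leaf 40132202532141)) (.node (.leaf 22540015371789) (.leaf 57724386939213))) (.node (.node (.leaf 13743922404749) (.leaf 48928294359757)) (.node (.leaf 31336104385517) (.leaf 66520475583149))))) (.node (.node (.node (.node (.leaf 2748807120749) (.leaf 37933178493997)) (.node (.leaf 20340966170189) (.leaf 55525338848013))) (.node (.node (.leaf 11544873190861) (.leaf 46729245707405)) (.node (.leaf 29137074264301) (.leaf 64321446322093)))) (.node (.node (.node (.leaf 7146826636365) (.leaf 42331198785805)) (.node (.leaf 24739014771245) (.leaf 59923387389293))) (.node (.node (.leaf 15942921804205) (.leaf 51127294285549)) (.node (.leaf 33535119515597) (.leaf 68719492286093)))))) (.node (.node (.node (.node (.node (.leaf 1651032263197) (.leaf 36835404881245))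 (.node (.leaf 19243201535293) (.leaf 54427573883005))) (.node (.node (.leaf 10447108541117) (.leaf 45631481286653)) (.node (.leaf 28039314513309) (.leaf 63223686992605)))) (.node (.node (.node (.leaf 6049062001469) (.leaf 41233434871421)) (.node (.leaf 23641272164189) (.leaf 58825644966941))) (.node (.node (.leaf 14845179141341) (.leaf 50029551328157)) (.node (.leaf 32437367329981) (.leaf 67621739545085))))) (.node (.node (.node (.node (.leaf 3850038741565) (.leaf 39034411359613)) (.node (.leaf 21442240519453) (.leaf 56626612867165))) (.node (.node (.leaf 12646147525277) (.leaf 47830520270813)) (.node (.leaf 30238320991677) (.leaf 65422693470973)))) (.node (.node (.node (.leaf 8248100985629) (.leaf 43432473855581)) (.node (.leaf 25840278642557) (.leaf 61024651445309))) (.node (.node (.leaf 17044185619709) (.leaf 52228557806525)) (.node (.leaf 34636374856861) (.leaf 69820747071965)))))))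

/-- Part of a collection table. -/
def tblM24_2_10 : Trie := (.node (.node (.node (.node (.node (.node (.leaf 549755814734) (.leaf 35734128760846)) (.node (.leaf 18141969914478) (.leaf 53326341545774))) (.node (.node (.leaf 9345876935150) (.leaf 44530248927406)) (.node (.leaf 26938057563342) (.leaf 62122429619086)))) (.node (.node (.node (.leaf 4947830380654) (.leaf 40132202532142)) (.node (.leaf 22540015371790) (.leaf 57724386939214))) (.node (.node (.leaf 13743922404750) (.leaf 48928294359758)) (.node (.leaf 31336104385518) (.leaf 66520475583150))))) (.node (.node (.node (.node (.leaf 2748807120750) (.leaf 37933178493998)) (.node (.leaf 20340966170190) (.leaf 55525338848014))) (.node (.node (.leaf 11544873190862) (.leaf 46729245707406)) (.node (.leaf 29137074264302) (.leaf 64321446322094)))) (.node (.node (.node (.leaf 7146826636366) (.leaf 42331198785806)) (.node (.leaf 24739014771246) (.leaf 59923387389294))) (.node (.node (.leaf 15942921804206) (.leaf 51127294285550)) (.node (.leaf 33535119515598) (.leaf 68719492286094)))))) (.node (.node (.node (.node (.node (.leaf 1651032263198) (.leaf 36835404881246))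 (.node (.leaf 19243201535294) (.leaf 54427573883006))) (.node (.node (.leaf 10447108541118) (.leaf 45631481286654)) (.node (.leaf 28039314513310) (.leaf 63223686992606)))) (.node (.node (.node (.leaf 6049062001470) (.leaf 41233434871422)) (.node (.leaf 23641272164190) (.leaf 58825644966942))) (.node (.node (.leaf 14845179141342) (.leaf 50029551328158)) (.node (.leaf 32437367329982) (.leaf 67621739545086))))) (.node (.node (.node (.node (.leaf 3850038741566) (.leaf 39034411359614)) (.node (.leaf 21442240519454) (.leaf 56626612867166))) (.node (.node (.leaf 12646147525278) (.leaf 47830520270814)) (.node (.leaf 30238320991678) (.leaf 65422693470974)))) (.node (.node (.node (.leaf 8248100985630) (.leaf 43432473855582)) (.node (.leaf 25840278642558) (.leaf 61024651445310))) (.node (.node (.leaf 17044185619710) (.leaf 52228557806526)) (.node (.leaf 34636374856862) (.leaf 69820747071966)))))))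

/-- Part of a collection table. -/
def tblM24_2_11 : Trie := (.node (.node (.node (.node (.node (.node (.leaf 549755814735) (.leaf 35734128760847)) (.node (.leaf 18141969914479) (.leaf 53326341545775))) (.node (.node (.leaf 9345876935151) (.leaf 44530248927407)) (.node (.leaf 26938057563343) (.leaf 62122429619087)))) (.node (.node (.node (.leaf 4947830380655) (.leaf 40132202532143)) (.node (.leaf 22540015371791) (.leaf 57724386939215))) (.node (.node (.leaf 13743922404751) (.leaf 48928294359759)) (.node (.leaf 31336104385519) (.leaf 66520475583151))))) (.node (.node (.node (.node (.leaf 2748807120751) (.leaf 37933178493999)) (.node (.leaf 20340966170191) (.leaf 55525338848015))) (.node (.node (.leaf 11544873190863) (.leaf 46729245707407)) (.node (.leaf 29137074264303) (.leaf 64321446322095)))) (.node (.node (.node (.leaf 7146826636367) (.leaf 42331198785807)) (.node (.leaf 24739014771247) (.leaf 59923387389295))) (.node (.node (.leaf 15942921804207) (.leaf 51127294285551)) (.node (.leaf 33535119515599) (.leaf 68719492286095)))))) (.node (.node (.node (.node (.node (.leaf 1651032263199) (.leaf 36835404881247))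 (.node (.leaf 19243201535295) (.leaf 54427573883007))) (.node (.node (.leaf 10447108541119) (.leaf 45631481286655)) (.node (.leaf 28039314513311) (.leaf 63223686992607)))) (.node (.node (.node (.leaf 6049062001471) (.leaf 41233434871423)) (.node (.leaf 23641272164191) (.leaf 58825644966943))) (.node (.node (.leaf 14845179141343) (.leaf 50029551328159)) (.node (.leaf 32437367329983) (.leaf 67621739545087))))) (.node (.node (.node (.node (.leaf 3850038741567) (.leaf 39034411359615)) (.node (.leaf 21442240519455) (.leaf 56626612867167))) (.node (.node (.leaf 12646147525279) (.leaf 47830520270815)) (.node (.leaf 30238320991679) (.leaf 65422693470975)))) (.node (.node (.node (.leaf 8248100985631) (.leaf 43432473855583)) (.node (.leaf 25840278642559) (.leaf 61024651445311))) (.node (.node (.leaf 17044185619711) (.leaf 52228557806527)) (.node (.leaf 34636374856863) (.leaf 69820747071967)))))))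

/-- Part of a collection table. -/
def tblM24_2_12 : Trie := (.node (.node (.node (.node (.node (.node (.leaf 833223986728) (.leaf 36017596602728)) (.node (.leaf 18425427859720) (.leaf 53609799685192))) (.node (.node (.leaf 9629334867592) (.leaf 44813707611080)) (.node (.leaf 27221508331944) (.leaf 62405880289000)))) (.node (.node (.node (.leaf 5231288327944) (.leaf 40415660671560)) (.node (.leaf 22823465982824) (.leaf 58007838261288))) (.node (.node (.leaf 14027372959976) (.leaf 49211745148840)) (.node (.leaf 31619564294280) (.leaf 66803936511432))))) (.node (.node (.node (.node (.leaf 3032265068040) (.leaf 38216637684040)) (.node (.leaf 20624434338088) (.leaf 55808806163560))) (.node (.node (.leaf 11828341345960) (.leaf 47012714089448)) (.node (.leaf 29420547316104) (.leaf 64604919273160)))) (.node (.node (.node (.leaf 7430294806312) (.leaf 42614667149928)) (.node (.leaf 25022504966984) (.leaf 60206877245448))) (.node (.node (.leaf 16226411944136) (.leaf 51410784133000)) (.node (.leaf 33818604327080) (.leaf 69002976544232)))))) (.node (.node (.node (.node (.node (.leaf 1933876465528) (.leaf 37118248752184))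 (.node (.leaf 19526091085400) (.leaf 54710462583576))) (.node (.node (.leaf 10729998110168) (.leaf 45914370491544)) (.node (.leaf 28322178207992) (.leaf 63506550134712)))) (.node (.node (.node (.leaf 6331951551576) (.leaf 41516323569944)) (.node (.leaf 23924135496248) (.leaf 59108507065720))) (.node (.node (.leaf 15128042525112) (.leaf 50312415010552)) (.node (.leaf 32720223459288) (.leaf 67904595054232))))) (.node (.node (.node (.node (.leaf 4132928293720) (.leaf 39317300056088)) (.node (.leaf 21725086814840) (.leaf 56909459363640))) (.node (.node (.leaf 12928993839608) (.leaf 48113365696696)) (.node (.leaf 30521193338072) (.leaf 65705565262744)))) (.node (.node (.node (.leaf 8530947281016) (.leaf 43715319301432)) (.node (.leaf 26123134373400) (.leaf 61307506989400))) (.node (.node (.leaf 17327041402264) (.leaf 52511413361368)) (.node (.leaf 34919240160248) (.leaf 70103612279480)))))))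

/-- Part of a collection table. -/
def tblM24_2_13 : Trie := (.node (.node (.node (.node (.node (.node (.leaf 833223986729) (.leaf 36017596602729)) (.node (.leaf 18425427859721) (.leaf 53609799685193))) (.node (.node (.leaf 9629334867593) (.leaf 44813707611081)) (.node (.leaf 27221508331945) (.leaf 62405880289001)))) (.node (.node (.node (.leaf 5231288327945) (.leaf 40415660671561)) (.node (.leaf 22823465982825) (.leaf 58007838261289))) (.node (.node (.leaf 14027372959977) (.leaf 49211745148841)) (.node (.leaf 31619564294281) (.leaf 66803936511433))))) (.node (.node (.node (.node (.leaf 3032265068041) (.leaf 38216637684041)) (.node (.leaf 20624434338089) (.leaf 55808806163561))) (.node (.node (.leaf 11828341345961) (.leaf 47012714089449)) (.node (.leaf 29420547316105) (.leaf 64604919273161)))) (.node (.node (.node (.leaf 7430294806313) (.leaf 42614667149929)) (.node (.leaf 25022504966985) (.leaf 60206877245449))) (.node (.node (.leaf 16226411944137) (.leaf 51410784133001)) (.node (.leaf 33818604327081) (.leaf 69002976544233)))))) (.node (.node (.node (.node (.node (.leaf 1933876465529) (.leaf 37118248752185))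 (.node (.leaf 19526091085401) (.leaf 54710462583577))) (.node (.node (.leaf 10729998110169) (.leaf 45914370491545)) (.node (.leaf 28322178207993) (.leaf 63506550134713)))) (.node (.node (.node (.leaf 6331951551577) (.leaf 41516323569945)) (.node (.leaf 23924135496249) (.leaf 59108507065721))) (.node (.node (.leaf 15128042525113) (.leaf 50312415010553)) (.node (.leaf 32720223459289) (.leaf 67904595054233))))) (.node (.node (.node (.node (.leaf 4132928293721) (.leaf 39317300056089)) (.node (.leaf 21725086814841) (.leaf 56909459363641))) (.node (.node (.leaf 12928993839609) (.leaf 48113365696697)) (.node (.leaf 30521193338073) (.leaf 65705565262745)))) (.node (.node (.node (.leaf 8530947281017) (.leaf 43715319301433)) (.node (.leaf 26123134373401) (.leaf 61307506989401))) (.node (.node (.leaf 17327041402265) (.leaf 52511413361369)) (.node (.leaf 34919240160249) (.leaf 70103612279481)))))))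

/-- Part of a collection table. -/
def tblM24_2_14 : Trie := (.node (.node (.node (.node (.node (.node (.leaf 833223986730) (.leaf 36017596602730)) (.node (.leaf 18425427859722) (.leaf 53609799685194))) (.node (.node (.leaf 9629334867594) (.leaf 44813707611082)) (.node (.leaf 27221508331946) (.leaf 62405880289002)))) (.node (.node (.node (.leaf 5231288327946) (.leaf 40415660671562)) (.node (.leaf 22823465982826) (.leaf 58007838261290))) (.node (.node (.leaf 14027372959978) (.leaf 49211745148842)) (.node (.leaf 31619564294282) (.leaf 66803936511434))))) (.node (.node (.node (.node (.leaf 3032265068042) (.leaf 38216637684042)) (.node (.leaf 20624434338090) (.leaf 55808806163562))) (.node (.node (.leaf 11828341345962) (.leaf 47012714089450)) (.node (.leaf 29420547316106) (.leaf 64604919273162)))) (.node (.node (.node (.leaf 7430294806314) (.leaf 42614667149930)) (.node (.leaf 25022504966986) (.leaf 60206877245450))) (.node (.node (.leaf 16226411944138) (.leaf 51410784133002)) (.node (.leaf 33818604327082) (.leaf 69002976544234)))))) (.node (.node (.node (.node (.node (.leaf 1933876465530) (.leaf 37118248752186))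 (.node (.leaf 19526091085402) (.leaf 54710462583578))) (.node (.node (.leaf 10729998110170) (.leaf 45914370491546)) (.node (.leaf 28322178207994) (.leaf 63506550134714)))) (.node (.node (.node (.leaf 6331951551578) (.leaf 41516323569946)) (.node (.leaf 23924135496250) (.leaf 59108507065722))) (.node (.node (.leaf 15128042525114) (.leaf 50312415010554)) (.node (.leaf 32720223459290) (.leaf 67904595054234))))) (.node (.node (.node (.node (.leaf 4132928293722) (.leaf 39317300056090)) (.node (.leaf 21725086814842) (.leaf 56909459363642))) (.node (.node (.leaf 12928993839610) (.leaf 48113365696698)) (.node (.leaf 30521193338074) (.leaf 65705565262746)))) (.node (.node (.node (.leaf 8530947281018) (.leaf 43715319301434)) (.node (.leaf 26123134373402) (.leaf 61307506989402))) (.node (.node (.leaf 17327041402266) (.leaf 52511413361370)) (.node (.leaf 34919240160250) (.leaf 70103612279482)))))))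

/-- Part of a collection table. -/
def tblM24_2_15 : Trie := (.node (.node (.node (.node (.node (.node (.leaf 833223986731) (.leaf 36017596602731)) (.node (.leaf 18425427859723) (.leaf 53609799685195))) (.node (.node (.leaf 9629334867595) (.leaf 44813707611083)) (.node (.leaf 27221508331947) (.leaf 62405880289003)))) (.node (.node (.node (.leaf 5231288327947) (.leaf 40415660671563)) (.node (.leaf 22823465982827) (.leaf 58007838261291))) (.node (.node (.leaf 14027372959979) (.leaf 49211745148843)) (.node (.leaf 31619564294283) (.leaf 66803936511435))))) (.node (.node (.node (.node (.leaf 3032265068043) (.leaf 38216637684043)) (.node (.leaf 20624434338091) (.leaf 55808806163563))) (.node (.node (.leaf 11828341345963) (.leaf 47012714089451)) (.node (.leaf 29420547316107) (.leaf 64604919273163)))) (.node (.node (.node (.leaf 7430294806315) (.leaf 42614667149931)) (.node (.leaf 25022504966987) (.leaf 60206877245451))) (.node (.node (.leaf 16226411944139) (.leaf 51410784133003)) (.node (.leaf 33818604327083) (.leaf 69002976544235)))))) (.node (.node (.node (.node (.node (.leaf 1933876465531) (.leaf 37118248752187))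 (.node (.leaf 19526091085403) (.leaf 54710462583579))) (.node (.node (.leaf 10729998110171) (.leaf 45914370491547)) (.node (.leaf 28322178207995) (.leaf 63506550134715)))) (.node (.node (.node (.leaf 6331951551579) (.leaf 41516323569947)) (.node (.leaf 23924135496251) (.leaf 59108507065723))) (.node (.node (.leaf 15128042525115) (.leaf 50312415010555)) (.node (.leaf 32720223459291) (.leaf 67904595054235))))) (.node (.node (.node (.node (.leaf 4132928293723) (.leaf 39317300056091)) (.node (.leaf 21725086814843) (.leaf 56909459363643))) (.node (.node (.leaf 12928993839611) (.leaf 48113365696699)) (.node (.leaf 30521193338075) (.leaf 65705565262747)))) (.node (.node (.node (.leaf 8530947281019) (.leaf 43715319301435)) (.node (.leaf 26123134373403) (.leaf 61307506989403))) (.node (.node (.leaf 17327041402267) (.leaf 52511413361371)) (.node (.leaf 34919240160251) (.leaf 70103612279483)))))))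

/-- Part of a collection table. -/
def tblM24_3_0 : Trie := (.node (.node (.node (.node (.node (.node (.leaf 8) (.leaf 137438953992)) (.node (.leaf 68719477512) (.leaf 206158431496))) (.node (.node (.leaf 34359738824) (.leaf 171798692808)) (.node (.leaf 103079218376) (.leaf 240518172360)))) (.node (.node (.node (.leaf 17179869768) (.leaf 154618823752)) (.node (.leaf 85899351368) (.leaf 223338305352))) (.node (.node (.leaf 51540198792) (.leaf 188979152776)) (.node (.leaf 120259676296) (.leaf 257698630280))))) (.node (.node (.node (.node (.leaf 8589934952) (.leaf 146028888936)) (.node (.leaf 77309414504) (.leaf 214748368488))) (.node (.node (.leaf 42950057640) (.leaf 180389009576)) (.node (.leaf 111669529000) (.leaf 249108482984)))) (.node (.node (.node (.leaf 25770136872) (.leaf 163209090856)) (.node (.leaf 94489614376) (.leaf 231928568360))) (.node (.node (.leaf 60129626344) (.leaf 197568580328)) (.node (.leaf 128849103848) (.leaf 266288057832)))))) (.node (.node (.node (.node (.node (.leaf 4294967832) (.leaf 141733921816)) (.node (.leaf 73014449432) (.leaf 210453403416))) (.node (.node (.leaf 38655267800)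 (.leaf 176094221784)) (.node (.leaf 107374743256) (.leaf 244813695192)))) (.node (.node (.node (.leaf 21475361880) (.leaf 158914315864)) (.node (.leaf 90194839384) (.leaf 227633791320))) (.node (.node (.leaf 55835203480) (.leaf 193274155416)) (.node (.leaf 124554676888) (.leaf 261993630872))))) (.node (.node (.node (.node (.leaf 12902208376) (.leaf 150341162360)) (.node (.leaf 81621683832) (.leaf 219060635768))) (.node (.node (.leaf 47261767864) (.leaf 184700721848)) (.node (.leaf 115981245368) (.leaf 253420199352)))) (.node (.node (.node (.leaf 30081877816) (.leaf 167520829752)) (.node (.leaf 98801359416) (.leaf 236240313400))) (.node (.node (.leaf 64441928440) (.leaf 201880882424)) (.node (.leaf 133161410040) (.leaf 270600364024)))))))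

/-- Part of a collection table. -/
def tblM24_3_1 : Trie := (.node (.node (.node (.node (.node (.node (.leaf 9) (.leaf 137438953993)) (.node (.leaf 68719477513) (.leaf 206158431497))) (.node (.node (.leaf 34359738825) (.leaf 171798692809)) (.node (.leaf 103079218377) (.leaf 240518172361)))) (.node (.node (.node (.leaf 17179869769) (.leaf 154618823753)) (.node (.leaf 85899351369) (.leaf 223338305353))) (.node (.node (.leaf 51540198793) (.leaf 188979152777)) (.node (.leaf 120259676297) (.leaf 257698630281))))) (.node (.node (.node (.node (.leaf 8589934953) (.leaf 146028888937)) (.node (.leaf 77309414505) (.leaf 214748368489))) (.node (.node (.leaf 42950057641) (.leaf 180389009577)) (.node (.leaf 111669529001) (.leaf 249108482985)))) (.node (.node (.node (.leaf 25770136873) (.leaf 163209090857)) (.node (.leaf 94489614377) (.leaf 231928568361))) (.node (.node (.leaf 60129626345) (.leaf 197568580329)) (.node (.leaf 128849103849) (.leaf 266288057833)))))) (.node (.node (.node (.node (.node (.leaf 4294967833) (.leaf 141733921817)) (.node (.leaf 73014449433) (.leaf 210453403417))) (.node (.node (.leaf 38655267801)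 (.leaf 176094221785)) (.node (.leaf 107374743257) (.leaf 244813695193)))) (.node (.node (.node (.leaf 21475361881) (.leaf 158914315865)) (.node (.leaf 90194839385) (.leaf 227633791321))) (.node (.node (.leaf 55835203481) (.leaf 193274155417)) (.node (.leaf 124554676889) (.leaf 261993630873))))) (.node (.node (.node (.node (.leaf 12902208377) (.leaf 150341162361)) (.node (.leaf 81621683833) (.leaf 219060635769))) (.node (.node (.leaf 47261767865) (.leaf 184700721849)) (.node (.leaf 115981245369) (.leaf 253420199353)))) (.node (.node (.node (.leaf 30081877817) (.leaf 167520829753)) (.node (.leaf 98801359417) (.leaf 236240313401))) (.node (.node (.leaf 64441928441) (.leaf 201880882425)) (.node (.leaf 133161410041) (.leaf 270600364025)))))))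

/-- Part of a collection table. -/
def tblM24_3_2 : Trie := (.node (.node (.node (.node (.node (.node (.leaf 10) (.leaf 137438953994)) (.node (.leaf 68719477514) (.leaf 206158431498))) (.node (.node (.leaf 34359738826) (.leaf 171798692810)) (.node (.leaf 103079218378) (.leaf 240518172362)))) (.node (.node (.node (.leaf 17179869770) (.leaf 154618823754)) (.node (.leaf 85899351370) (.leaf 223338305354))) (.node (.node (.leaf 51540198794) (.leaf 188979152778)) (.node (.leaf 120259676298) (.leaf 257698630282))))) (.node (.node (.node (.node (.leaf 8589934954) (.leaf 146028888938)) (.node (.leaf 77309414506) (.leaf 214748368490))) (.node (.node (.leaf 42950057642) (.leaf 180389009578)) (.node (.leaf 111669529002) (.leaf 249108482986)))) (.node (.node (.node (.leaf 25770136874) (.leaf 163209090858)) (.node (.leaf 94489614378) (.leaf 231928568362))) (.node (.node (.leaf 60129626346) (.leaf 197568580330)) (.node (.leaf 128849103850) (.leaf 266288057834)))))) (.node (.node (.node (.node (.node (.leaf 4294967834) (.leaf 141733921818)) (.node (.leaf 73014449434) (.leaf 210453403418))) (.node (.node (.leaf 38655267802)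 (.leaf 176094221786)) (.node (.leaf 107374743258) (.leaf 244813695194)))) (.node (.node (.node (.leaf 21475361882) (.leaf 158914315866)) (.node (.leaf 90194839386) (.leaf 227633791322))) (.node (.node (.leaf 55835203482) (.leaf 193274155418)) (.node (.leaf 124554676890) (.leaf 261993630874))))) (.node (.node (.node (.node (.leaf 12902208378) (.leaf 150341162362)) (.node (.leaf 81621683834) (.leaf 219060635770))) (.node (.node (.leaf 47261767866) (.leaf 184700721850)) (.node (.leaf 115981245370) (.leaf 253420199354)))) (.node (.node (.node (.leaf 30081877818) (.leaf 167520829754)) (.node (.leaf 98801359418) (.leaf 236240313402))) (.node (.node (.leaf 64441928442) (.leaf 201880882426)) (.node (.leaf 133161410042) (.leaf 270600364026)))))))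

/-- Part of a collection table. -/
def tblM24_3_3 : Trie := (.node (.node (.node (.node (.node (.node (.leaf 11) (.leaf 137438953995)) (.node (.leaf 68719477515) (.leaf 206158431499))) (.node (.node (.leaf 34359738827) (.leaf 171798692811)) (.node (.leaf 103079218379) (.leaf 240518172363)))) (.node (.node (.node (.leaf 17179869771) (.leaf 154618823755)) (.node (.leaf 85899351371) (.leaf 223338305355))) (.node (.node (.leaf 51540198795) (.leaf 188979152779)) (.node (.leaf 120259676299) (.leaf 257698630283))))) (.node (.node (.node (.node (.leaf 8589934955) (.leaf 146028888939)) (.node (.leaf 77309414507) (.leaf 214748368491))) (.node (.node (.leaf 42950057643) (.leaf 180389009579)) (.node (.leaf 111669529003) (.leaf 249108482987)))) (.node (.node (.node (.leaf 25770136875) (.leaf 163209090859)) (.node (.leaf 94489614379) (.leaf 231928568363))) (.node (.node (.leaf 60129626347) (.leaf 197568580331)) (.node (.leaf 128849103851) (.leaf 266288057835)))))) (.node (.node (.node (.node (.node (.leaf 4294967835) (.leaf 141733921819)) (.node (.leaf 73014449435) (.leaf 210453403419))) (.node (.node (.leaf 38655267803)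 (.leaf 176094221787)) (.node (.leaf 107374743259) (.leaf 244813695195)))) (.node (.node (.node (.leaf 21475361883) (.leaf 158914315867)) (.node (.leaf 90194839387) (.leaf 227633791323))) (.node (.node (.leaf 55835203483) (.leaf 193274155419)) (.node (.leaf 124554676891) (.leaf 261993630875))))) (.node (.node (.node (.node (.leaf 12902208379) (.leaf 150341162363)) (.node (.leaf 81621683835) (.leaf 219060635771))) (.node (.node (.leaf 47261767867) (.leaf 184700721851)) (.node (.leaf 115981245371) (.leaf 253420199355)))) (.node (.node (.node (.leaf 30081877819) (.leaf 167520829755)) (.node (.leaf 98801359419) (.leaf 236240313403))) (.node (.node (.leaf 64441928443) (.leaf 201880882427)) (.node (.leaf 133161410043) (.leaf 270600364027)))))))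

/-- Part of a collection table. -/
def tblM24_3_4 : Trie := (.node (.node (.node (.node (.node (.node (.leaf 12) (.leaf 137438953996)) (.node (.leaf 68719477516) (.leaf 206158431500))) (.node (.node (.leaf 34359738828) (.leaf 171798692812)) (.node (.leaf 103079218380) (.leaf 240518172364)))) (.node (.node (.node (.leaf 17179869772) (.leaf 154618823756)) (.node (.leaf 85899351372) (.leaf 223338305356))) (.node (.node (.leaf 51540198796) (.leaf 188979152780)) (.node (.leaf 120259676300) (.leaf 257698630284))))) (.node (.node (.node (.node (.leaf 8589934956) (.leaf 146028888940)) (.node (.leaf 77309414508) (.leaf 214748368492))) (.node (.node (.leaf 42950057644) (.leaf 180389009580)) (.node (.leaf 111669529004) (.leaf 249108482988)))) (.node (.node (.node (.leaf 25770136876) (.leaf 163209090860)) (.node (.leaf 94489614380) (.leaf 231928568364))) (.node (.node (.leaf 60129626348) (.leaf 197568580332)) (.node (.leaf 128849103852) (.leaf 266288057836)))))) (.node (.node (.node (.node (.node (.leaf 4294967836) (.leaf 141733921820)) (.node (.leaf 73014449436) (.leaf 210453403420))) (.node (.node (.leaf 38655267804)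 (.leaf 176094221788)) (.node (.leaf 107374743260) (.leaf 244813695196)))) (.node (.node (.node (.leaf 21475361884) (.leaf 158914315868)) (.node (.leaf 90194839388) (.leaf 227633791324))) (.node (.node (.leaf 55835203484) (.leaf 193274155420)) (.node (.leaf 124554676892) (.leaf 261993630876))))) (.node (.node (.node (.node (.leaf 12902208380) (.leaf 150341162364)) (.node (.leaf 81621683836) (.leaf 219060635772))) (.node (.node (.leaf 47261767868) (.leaf 184700721852)) (.node (.leaf 115981245372) (.leaf 253420199356)))) (.node (.node (.node (.leaf 30081877820) (.leaf 167520829756)) (.node (.leaf 98801359420) (.leaf 236240313404))) (.node (.node (.leaf 64441928444) (.leaf 201880882428)) (.node (.leaf 133161410044) (.leaf 270600364028)))))))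

/-- Part of a collection table. -/
def tblM24_3_5 : Trie := (.node (.node (.node (.node (.node (.node (.leaf 13) (.leaf 137438953997)) (.node (.leaf 68719477517) (.leaf 206158431501))) (.node (.node (.leaf 34359738829) (.leaf 171798692813)) (.node (.leaf 103079218381) (.leaf 240518172365)))) (.node (.node (.node (.leaf 17179869773) (.leaf 154618823757)) (.node (.leaf 85899351373) (.leaf 223338305357))) (.node (.node (.leaf 51540198797) (.leaf 188979152781)) (.node (.leaf 120259676301) (.leaf 257698630285))))) (.node (.node (.node (.node (.leaf 8589934957) (.leaf 146028888941)) (.node (.leaf 77309414509) (.leaf 214748368493))) (.node (.node (.leaf 42950057645) (.leaf 180389009581)) (.node (.leaf 111669529005) (.leaf 249108482989)))) (.node (.node (.node (.leaf 25770136877) (.leaf 163209090861)) (.node (.leaf 94489614381) (.leaf 231928568365))) (.node (.node (.leaf 60129626349) (.leaf 197568580333)) (.node (.leaf 128849103853) (.leaf 266288057837)))))) (.node (.node (.node (.node (.node (.leaf 4294967837) (.leaf 141733921821)) (.node (.leaf 73014449437) (.leaf 210453403421))) (.node (.node (.leaf 38655267805)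 (.leaf 176094221789)) (.node (.leaf 107374743261) (.leaf 244813695197)))) (.node (.node (.node (.leaf 21475361885) (.leaf 158914315869)) (.node (.leaf 90194839389) (.leaf 227633791325))) (.node (.node (.leaf 55835203485) (.leaf 193274155421)) (.node (.leaf 124554676893) (.leaf 261993630877))))) (.node (.node (.node (.node (.leaf 12902208381) (.leaf 150341162365)) (.node (.leaf 81621683837) (.leaf 219060635773))) (.node (.node (.leaf 47261767869) (.leaf 184700721853)) (.node (.leaf 115981245373) (.leaf 253420199357)))) (.node (.node (.node (.leaf 30081877821) (.leaf 167520829757)) (.node (.leaf 98801359421) (.leaf 236240313405))) (.node (.node (.leaf 64441928445) (.leaf 201880882429)) (.node (.leaf 133161410045) (.leaf 270600364029)))))))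

/-- Part of a collection table. -/
def tblM24_3_6 : Trie := (.node (.node (.node (.node (.node (.node (.leaf 14) (.leaf 137438953998)) (.node (.leaf 68719477518) (.leaf 206158431502))) (.node (.node (.leaf 34359738830) (.leaf 171798692814)) (.node (.leaf 103079218382) (.leaf 240518172366)))) (.node (.node (.node (.leaf 17179869774) (.leaf 154618823758)) (.node (.leaf 85899351374) (.leaf 223338305358))) (.node (.node (.leaf 51540198798) (.leaf 188979152782)) (.node (.leaf 120259676302) (.leaf 257698630286))))) (.node (.node (.node (.node (.leaf 8589934958) (.leaf 146028888942)) (.node (.leaf 77309414510) (.leaf 214748368494))) (.node (.node (.leaf 42950057646) (.leaf 180389009582)) (.node (.leaf 111669529006) (.leaf 249108482990)))) (.node (.node (.node (.leaf 25770136878) (.leaf 163209090862)) (.node (.leaf 94489614382) (.leaf 231928568366))) (.node (.node (.leaf 60129626350) (.leaf 197568580334)) (.node (.leaf 128849103854) (.leaf 266288057838)))))) (.node (.node (.node (.node (.node (.leaf 4294967838) (.leaf 141733921822)) (.node (.leaf 73014449438) (.leaf 210453403422))) (.node (.node (.leaf 38655267806)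 (.leaf 176094221790)) (.node (.leaf 107374743262) (.leaf 244813695198)))) (.node (.node (.node (.leaf 21475361886) (.leaf 158914315870)) (.node (.leaf 90194839390) (.leaf 227633791326))) (.node (.node (.leaf 55835203486) (.leaf 193274155422)) (.node (.leaf 124554676894) (.leaf 261993630878))))) (.node (.node (.node (.node (.leaf 12902208382) (.leaf 150341162366)) (.node (.leaf 81621683838) (.leaf 219060635774))) (.node (.node (.leaf 47261767870) (.leaf 184700721854)) (.node (.leaf 115981245374) (.leaf 253420199358)))) (.node (.node (.node (.leaf 30081877822) (.leaf 167520829758)) (.node (.leaf 98801359422) (.leaf 236240313406))) (.node (.node (.leaf 64441928446) (.leaf 201880882430)) (.node (.leaf 133161410046) (.leaf 270600364030)))))))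

/-- Part of a collection table. -/
def tblM24_3_7 : Trie := (.node (.node (.node (.node (.node (.node (.leaf 15) (.leaf 137438953999)) (.node (.leaf 68719477519) (.leaf 206158431503))) (.node (.node (.leaf 34359738831) (.leaf 171798692815)) (.node (.leaf 103079218383) (.leaf 240518172367)))) (.node (.node (.node (.leaf 17179869775) (.leaf 154618823759)) (.node (.leaf 85899351375) (.leaf 223338305359))) (.node (.node (.leaf 51540198799) (.leaf 188979152783)) (.node (.leaf 120259676303) (.leaf 257698630287))))) (.node (.node (.node (.node (.leaf 8589934959) (.leaf 146028888943)) (.node (.leaf 77309414511) (.leaf 214748368495))) (.node (.node (.leaf 42950057647) (.leaf 180389009583)) (.node (.leaf 111669529007) (.leaf 249108482991)))) (.node (.node (.node (.leaf 25770136879) (.leaf 163209090863)) (.node (.leaf 94489614383) (.leaf 231928568367))) (.node (.node (.leaf 60129626351) (.leaf 197568580335)) (.node (.leaf 128849103855) (.leaf 266288057839)))))) (.node (.node (.node (.node (.node (.leaf 4294967839) (.leaf 141733921823)) (.node (.leaf 73014449439) (.leaf 210453403423))) (.node (.node (.leaf 38655267807)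 (.leaf 176094221791)) (.node (.leaf 107374743263) (.leaf 244813695199)))) (.node (.node (.node (.leaf 21475361887) (.leaf 158914315871)) (.node (.leaf 90194839391) (.leaf 227633791327))) (.node (.node (.leaf 55835203487) (.leaf 193274155423)) (.node (.leaf 124554676895) (.leaf 261993630879))))) (.node (.node (.node (.node (.leaf 12902208383) (.leaf 150341162367)) (.node (.leaf 81621683839) (.leaf 219060635775))) (.node (.node (.leaf 47261767871) (.leaf 184700721855)) (.node (.leaf 115981245375) (.leaf 253420199359)))) (.node (.node (.node (.leaf 30081877823) (.leaf 167520829759)) (.node (.leaf 98801359423) (.leaf 236240313407))) (.node (.node (.leaf 64441928447) (.leaf 201880882431)) (.node (.leaf 133161410047) (.leaf 270600364031)))))))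

/-- Part of a collection table. -/
def tblM24_3_8 : Trie := (.node (.node (.node (.node (.node (.node (.leaf 2147483648) (.leaf 139586437632)) (.node (.leaf 70866961152) (.leaf 208305915136))) (.node (.node (.leaf 36507222464) (.leaf 173946176448)) (.node (.leaf 105226702016) (.leaf 242665656000)))) (.node (.node (.node (.leaf 19327353408) (.leaf 156766307392)) (.node (.leaf 88046835008) (.leaf 225485788992))) (.node (.node (.leaf 53687682432) (.leaf 191126636416)) (.node (.leaf 122407159936) (.leaf 259846113920))))) (.node (.node (.node (.node (.leaf 10737418592) (.leaf 148176372576)) (.node (.leaf 79456898144) (.leaf 216895852128))) (.node (.node (.leaf 45097541280) (.leaf 182536493216)) (.node (.leaf 113817012640) (.leaf 251255966624)))) (.node (.node (.node (.leaf 27917620512) (.leaf 165356574496)) (.node (.leaf 96637098016) (.leaf 234076052000))) (.node (.node (.leaf 62277109984) (.leaf 199716063968)) (.node (.leaf 130996587488) (.leaf 268435541472)))))) (.node (.node (.node (.node (.node (.leaf 6442451472) (.leaf 143881405456)) (.node (.leaf 75161933072) (.leaf 212600887056))) (.node (.node (.leaf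 40802751440) (.leaf 178241705424)) (.node (.leaf 109522226896) (.leaf 246961178832)))) (.node (.node (.node (.leaf 23622845520) (.leaf 161061799504)) (.node (.leaf 92342323024) (.leaf 229781274960))) (.node (.node (.leaf 57982687120) (.leaf 195421639056)) (.node (.leaf 126702160528) (.leaf 264141114512))))) (.node (.node (.node (.node (.leaf 15049692016) (.leaf 152488646000)) (.node (.leaf 83769167472) (.leaf 221208119408))) (.node (.node (.leaf 49409251504) (.leaf 186848205488)) (.node (.leaf 118128729008) (.leaf 255567682992)))) (.node (.node (.node (.leaf 32229361456) (.leaf 169668313392)) (.node (.leaf 100948843056) (.leaf 238387797040))) (.node (.node (.leaf 66589412080) (.leaf 204028366064)) (.node (.leaf 135308893680) (.leaf 272747847664)))))))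

/-- Part of a collection table. -/
def tblM24_3_9 : Trie := (.node (.node (.node (.node (.node (.node (.leaf 2147483649) (.leaf 139586437633)) (.node (.leaf 70866961153) (.leaf 208305915137))) (.node (.node (.leaf 36507222465) (.leaf 173946176449)) (.node (.leaf 105226702017) (.leaf 242665656001)))) (.node (.node (.node (.leaf 19327353409) (.leaf 156766307393)) (.node (.leaf 88046835009) (.leaf 225485788993))) (.node (.node (.leaf 53687682433) (.leaf 191126636417)) (.node (.leaf 122407159937) (.leaf 259846113921))))) (.node (.node (.node (.node (.leaf 10737418593) (.leaf 148176372577)) (.node (.leaf 79456898145) (.leaf 216895852129))) (.node (.node (.leaf 45097541281) (.leaf 182536493217)) (.node (.leaf 113817012641) (.leaf 251255966625)))) (.node (.node (.node (.leaf 27917620513) (.leaf 165356574497)) (.node (.leaf 96637098017) (.leaf 234076052001))) (.node (.node (.leaf 62277109985) (.leaf 199716063969)) (.node (.leaf 130996587489) (.leaf 268435541473)))))) (.node (.node (.node (.node (.node (.leaf 6442451473) (.leaf 143881405457)) (.node (.leaf 75161933073) (.leaf 212600887057))) (.node (.node (.leaf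 40802751441) (.leaf 178241705425)) (.node (.leaf 109522226897) (.leaf 246961178833)))) (.node (.node (.node (.leaf 23622845521) (.leaf 161061799505)) (.node (.leaf 92342323025) (.leaf 229781274961))) (.node (.node (.leaf 57982687121) (.leaf 195421639057)) (.node (.leaf 126702160529) (.leaf 264141114513))))) (.node (.node (.node (.node (.leaf 15049692017) (.leaf 152488646001)) (.node (.leaf 83769167473) (.leaf 221208119409))) (.node (.node (.leaf 49409251505) (.leaf 186848205489)) (.node (.leaf 118128729009) (.leaf 255567682993)))) (.node (.node (.node (.leaf 32229361457) (.leaf 169668313393)) (.node (.leaf 100948843057) (.leaf 238387797041))) (.node (.node (.leaf 66589412081) (.leaf 204028366065)) (.node (.leaf 135308893681) (.leaf 272747847665)))))))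

/-- Part of a collection table. -/
def tblM24_3_10 : Trie := (.node (.node (.node (.node (.node (.node (.leaf 2147483650) (.leaf 139586437634)) (.node (.leaf 70866961154) (.leaf 208305915138))) (.node (.node (.leaf 36507222466) (.leaf 173946176450)) (.node (.leaf 105226702018) (.leaf 242665656002)))) (.node (.node (.node (.leaf 19327353410) (.leaf 156766307394)) (.node (.leaf 88046835010) (.leaf 225485788994))) (.node (.node (.leaf 53687682434) (.leaf 191126636418)) (.node (.leaf 122407159938) (.leaf 259846113922))))) (.node (.node (.node (.node (.leaf 10737418594) (.leaf 148176372578)) (.node (.leaf 79456898146) (.leaf 216895852130))) (.node (.node (.leaf 45097541282) (.leaf 182536493218)) (.node (.leaf 113817012642) (.leaf 251255966626)))) (.node (.node (.node (.leaf 27917620514) (.leaf 165356574498)) (.node (.leaf 96637098018) (.leaf 234076052002))) (.node (.node (.leaf 62277109986) (.leaf 199716063970)) (.node (.leaf 130996587490) (.leaf 268435541474)))))) (.node (.node (.node (.node (.node (.leaf 6442451474) (.leaf 143881405458)) (.node (.leaf 75161933074) (.leaf 212600887058))) (.node (.node (.leaf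 40802751442) (.leaf 178241705426)) (.node (.leaf 109522226898) (.leaf 246961178834)))) (.node (.node (.node (.leaf 23622845522) (.leaf 161061799506)) (.node (.leaf 92342323026) (.leaf 229781274962))) (.node (.node (.leaf 57982687122) (.leaf 195421639058)) (.node (.leaf 126702160530) (.leaf 264141114514))))) (.node (.node (.node (.node (.leaf 15049692018) (.leaf 152488646002)) (.node (.leaf 83769167474) (.leaf 221208119410))) (.node (.node (.leaf 49409251506) (.leaf 186848205490)) (.node (.leaf 118128729010) (.leaf 255567682994)))) (.node (.node (.node (.leaf 32229361458) (.leaf 169668313394)) (.node (.leaf 100948843058) (.leaf 238387797042))) (.node (.node (.leaf 66589412082) (.leaf 204028366066)) (.node (.leaf 135308893682) (.leaf 272747847666)))))))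

/-- Part of a collection table. -/
def tblM24_3_11 : Trie := (.node (.node (.node (.node (.node (.node (.leaf 2147483651) (.leaf 139586437635)) (.node (.leaf 70866961155) (.leaf 208305915139))) (.node (.node (.leaf 36507222467) (.leaf 173946176451)) (.node (.leaf 105226702019) (.leaf 242665656003)))) (.node (.node (.node (.leaf 19327353411) (.leaf 156766307395)) (.node (.leaf 88046835011) (.leaf 225485788995))) (.node (.node (.leaf 53687682435) (.leaf 191126636419)) (.node (.leaf 122407159939) (.leaf 259846113923))))) (.node (.node (.node (.node (.leaf 10737418595) (.leaf 148176372579)) (.node (.leaf 79456898147) (.leaf 216895852131))) (.node (.node (.leaf 45097541283) (.leaf 182536493219)) (.node (.leaf 113817012643) (.leaf 251255966627)))) (.node (.node (.node (.leaf 27917620515) (.leaf 165356574499)) (.node (.leaf 96637098019) (.leaf 234076052003))) (.node (.node (.leaf 62277109987) (.leaf 199716063971)) (.node (.leaf 130996587491) (.leaf 268435541475)))))) (.node (.node (.node (.node (.node (.leaf 6442451475) (.leaf 143881405459)) (.node (.leaf 75161933075) (.leaf 212600887059))) (.node (.node (.leaf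 40802751443) (.leaf 178241705427)) (.node (.leaf 109522226899) (.leaf 246961178835)))) (.node (.node (.node (.leaf 23622845523) (.leaf 161061799507)) (.node (.leaf 92342323027) (.leaf 229781274963))) (.node (.node (.leaf 57982687123) (.leaf 195421639059)) (.node (.leaf 126702160531) (.leaf 264141114515))))) (.node (.node (.node (.node (.leaf 15049692019) (.leaf 152488646003)) (.node (.leaf 83769167475) (.leaf 221208119411))) (.node (.node (.leaf 49409251507) (.leaf 186848205491)) (.node (.leaf 118128729011) (.leaf 255567682995)))) (.node (.node (.node (.leaf 32229361459) (.leaf 169668313395)) (.node (.leaf 100948843059) (.leaf 238387797043))) (.node (.node (.leaf 66589412083) (.leaf 204028366067)) (.node (.leaf 135308893683) (.leaf 272747847667)))))))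

/-- Part of a collection table. -/
def tblM24_3_12 : Trie := (.node (.node (.node (.node (.node (.node (.leaf 2147483652) (.leaf 139586437636)) (.node (.leaf 70866961156) (.leaf 208305915140))) (.node (.node (.leaf 36507222468) (.leaf 173946176452)) (.node (.leaf 105226702020) (.leaf 242665656004)))) (.node (.node (.node (.leaf 19327353412) (.leaf 156766307396)) (.node (.leaf 88046835012) (.leaf 225485788996))) (.node (.node (.leaf 53687682436) (.leaf 191126636420)) (.node (.leaf 122407159940) (.leaf 259846113924))))) (.node (.node (.node (.node (.leaf 10737418596) (.leaf 148176372580)) (.node (.leaf 79456898148) (.leaf 216895852132))) (.node (.node (.leaf 45097541284) (.leaf 182536493220)) (.node (.leaf 113817012644) (.leaf 251255966628)))) (.node (.node (.node (.leaf 27917620516) (.leaf 165356574500)) (.node (.leaf 96637098020) (.leaf 234076052004))) (.node (.node (.leaf 62277109988) (.leaf 199716063972)) (.node (.leaf 130996587492) (.leaf 268435541476)))))) (.node (.node (.node (.node (.node (.leaf 6442451476) (.leaf 143881405460)) (.node (.leaf 75161933076) (.leaf 212600887060))) (.node (.node (.leaf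 40802751444) (.leaf 178241705428)) (.node (.leaf 109522226900) (.leaf 246961178836)))) (.node (.node (.node (.leaf 23622845524) (.leaf 161061799508)) (.node (.leaf 92342323028) (.leaf 229781274964))) (.node (.node (.leaf 57982687124) (.leaf 195421639060)) (.node (.leaf 126702160532) (.leaf 264141114516))))) (.node (.node (.node (.node (.leaf 15049692020) (.leaf 152488646004)) (.node (.leaf 83769167476) (.leaf 221208119412))) (.node (.node (.leaf 49409251508) (.leaf 186848205492)) (.node (.leaf 118128729012) (.leaf 255567682996)))) (.node (.node (.node (.leaf 32229361460) (.leaf 169668313396)) (.node (.leaf 100948843060) (.leaf 238387797044))) (.node (.node (.leaf 66589412084) (.leaf 204028366068)) (.node (.leaf 135308893684) (.leaf 272747847668)))))))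

/-- Part of a collection table. -/
def tblM24_3_13 : Trie := (.node (.node (.node (.node (.node (.node (.leaf 2147483653) (.leaf 139586437637)) (.node (.leaf 70866961157) (.leaf 208305915141))) (.node (.node (.leaf 36507222469) (.leaf 173946176453)) (.node (.leaf 105226702021) (.leaf 242665656005)))) (.node (.node (.node (.leaf 19327353413) (.leaf 156766307397)) (.node (.leaf 88046835013) (.leaf 225485788997))) (.node (.node (.leaf 53687682437) (.leaf 191126636421)) (.node (.leaf 122407159941) (.leaf 259846113925))))) (.node (.node (.node (.node (.leaf 10737418597) (.leaf 148176372581)) (.node (.leaf 79456898149) (.leaf 216895852133))) (.node (.node (.leaf 45097541285) (.leaf 182536493221)) (.node (.leaf 113817012645) (.leaf 251255966629)))) (.node (.node (.node (.leaf 27917620517) (.leaf 165356574501)) (.node (.leaf 96637098021) (.leaf 234076052005))) (.node (.node (.leaf 62277109989) (.leaf 199716063973)) (.node (.leaf 130996587493) (.leaf 268435541477)))))) (.node (.node (.node (.node (.node (.leaf 6442451477) (.leaf 143881405461)) (.node (.leaf 75161933077) (.leaf 212600887061))) (.node (.node (.leaf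 40802751445) (.leaf 178241705429)) (.node (.leaf 109522226901) (.leaf 246961178837)))) (.node (.node (.node (.leaf 23622845525) (.leaf 161061799509)) (.node (.leaf 92342323029) (.leaf 229781274965))) (.node (.node (.leaf 57982687125) (.leaf 195421639061)) (.node (.leaf 126702160533) (.leaf 264141114517))))) (.node (.node (.node (.node (.leaf 15049692021) (.leaf 152488646005)) (.node (.leaf 83769167477) (.leaf 221208119413))) (.node (.node (.leaf 49409251509) (.leaf 186848205493)) (.node (.leaf 118128729013) (.leaf 255567682997)))) (.node (.node (.node (.leaf 32229361461) (.leaf 169668313397)) (.node (.leaf 100948843061) (.leaf 238387797045))) (.node (.node (.leaf 66589412085) (.leaf 204028366069)) (.node (.leaf 135308893685) (.leaf 272747847669)))))))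

/-- Part of a collection table. -/
def tblM24_3_14 : Trie := (.node (.node (.node (.node (.node (.node (.leaf 2147483654) (.leaf 139586437638)) (.node (.leaf 70866961158) (.leaf 208305915142))) (.node (.node (.leaf 36507222470) (.leaf 173946176454)) (.node (.leaf 105226702022) (.leaf 242665656006)))) (.node (.node (.node (.leaf 19327353414) (.leaf 156766307398)) (.node (.leaf 88046835014) (.leaf 225485788998))) (.node (.node (.leaf 53687682438) (.leaf 191126636422)) (.node (.leaf 122407159942) (.leaf 259846113926))))) (.node (.node (.node (.node (.leaf 10737418598) (.leaf 148176372582)) (.node (.leaf 79456898150) (.leaf 216895852134))) (.node (.node (.leaf 45097541286) (.leaf 182536493222)) (.node (.leaf 113817012646) (.leaf 251255966630)))) (.node (.node (.node (.leaf 27917620518) (.leaf 165356574502)) (.node (.leaf 96637098022) (.leaf 234076052006))) (.node (.node (.leaf 62277109990) (.leaf 199716063974)) (.node (.leaf 130996587494) (.leaf 268435541478)))))) (.node (.node (.node (.node (.node (.leaf 6442451478) (.leaf 143881405462)) (.node (.leaf 75161933078) (.leaf 212600887062))) (.node (.node (.leaf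 40802751446) (.leaf 178241705430)) (.node (.leaf 109522226902) (.leaf 246961178838)))) (.node (.node (.node (.leaf 23622845526) (.leaf 161061799510)) (.node (.leaf 92342323030) (.leaf 229781274966))) (.node (.node (.leaf 57982687126) (.leaf 195421639062)) (.node (.leaf 126702160534) (.leaf 264141114518))))) (.node (.node (.node (.node (.leaf 15049692022) (.leaf 152488646006)) (.node (.leaf 83769167478) (.leaf 221208119414))) (.node (.node (.leaf 49409251510) (.leaf 186848205494)) (.node (.leaf 118128729014) (.leaf 255567682998)))) (.node (.node (.node (.leaf 32229361462) (.leaf 169668313398)) (.node (.leaf 100948843062) (.leaf 238387797046))) (.node (.node (.leaf 66589412086) (.leaf 204028366070)) (.node (.leaf 135308893686) (.leaf 272747847670)))))))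

/-- Part of a collection table. -/
def tblM24_3_15 : Trie := (.node (.node (.node (.node (.node (.node (.leaf 2147483655) (.leaf 139586437639)) (.node (.leaf 70866961159) (.leaf 208305915143))) (.node (.node (.leaf 36507222471) (.leaf 173946176455)) (.node (.leaf 105226702023) (.leaf 242665656007)))) (.node (.node (.node (.leaf 19327353415) (.leaf 156766307399)) (.node (.leaf 88046835015) (.leaf 225485788999))) (.node (.node (.leaf 53687682439) (.leaf 191126636423)) (.node (.leaf 122407159943) (.leaf 259846113927))))) (.node (.node (.node (.node (.leaf 10737418599) (.leaf 148176372583)) (.node (.leaf 79456898151) (.leaf 216895852135))) (.node (.node (.leaf 45097541287) (.leaf 182536493223)) (.node (.leaf 113817012647) (.leaf 251255966631)))) (.node (.node (.node (.leaf 27917620519) (.leaf 165356574503)) (.node (.leaf 96637098023) (.leaf 234076052007))) (.node (.node (.leaf 62277109991) (.leaf 199716063975)) (.node (.leaf 130996587495) (.leaf 268435541479)))))) (.node (.node (.node (.node (.node (.leaf 6442451479) (.leaf 143881405463)) (.node (.leaf 75161933079) (.leaf 212600887063))) (.node (.node (.leaf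 40802751447) (.leaf 178241705431)) (.node (.leaf 109522226903) (.leaf 246961178839)))) (.node (.node (.node (.leaf 23622845527) (.leaf 161061799511)) (.node (.leaf 92342323031) (.leaf 229781274967))) (.node (.node (.leaf 57982687127) (.leaf 195421639063)) (.node (.leaf 126702160535) (.leaf 264141114519))))) (.node (.node (.node (.node (.leaf 15049692023) (.leaf 152488646007)) (.node (.leaf 83769167479) (.leaf 221208119415))) (.node (.node (.leaf 49409251511) (.leaf 186848205495)) (.node (.leaf 118128729015) (.leaf 255567682999)))) (.node (.node (.node (.leaf 32229361463) (.leaf 169668313399)) (.node (.leaf 100948843063) (.leaf 238387797047))) (.node (.node (.leaf 66589412087) (.leaf 204028366071)) (.node (.leaf 135308893687) (.leaf 272747847671)))))))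

/-- Part of a collection table. -/
def tblM24_4_0 : Trie := (.node (.node (.node (.node (.node (.node (.leaf 16) (.leaf 1073742672)) (.node (.leaf 536871024) (.leaf 1610683696))) (.node (.node (.leaf 268436464) (.leaf 1343199920)) (.node (.leaf 838424464) (.leaf 1912032464)))) (.node (.node (.node (.leaf 134218352) (.leaf 1208551216)) (.node (.leaf 691275088) (.leaf 1764821520))) (.node (.node (.leaf 422861520) (.leaf 1497352592)) (.node (.leaf 945457648) (.leaf 2019360944))))) (.node (.node (.node (.node (.leaf 67108912) (.leaf 1140851568)) (.node (.leaf 605028432) (.leaf 1678841104))) (.node (.node (.leaf 336593872) (.leaf 1411357328)) (.node (.leaf 905533360) (.leaf 1979141360)))) (.node (.node (.node (.leaf 202375760) (.leaf 1276708624)) (.node (.leaf 758383984) (.leaf 1831930416))) (.node (.node (.leaf 489970416) (.leaf 1564461488)) (.node (.leaf 1011517904) (.leaf 2085421200)))))) (.node (.node (.node (.node (.node (.leaf 33554464) (.leaf 1107297120)) (.node (.leaf 571473984) (.leaf 1645286656))) (.node (.node (.leaf 303039424) (.leaf 1377802880)) (.node (.leaf 871978912) (.leaf 1945586912)))) (.node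 (.node (.node (.leaf 168821312) (.leaf 1243154176)) (.node (.leaf 724829536) (.leaf 1798375968))) (.node (.node (.leaf 456415968) (.leaf 1530907040)) (.node (.leaf 977963456) (.leaf 2051866752))))) (.node (.node (.node (.node (.leaf 101711872) (.leaf 1175454528)) (.node (.leaf 638582880) (.leaf 1712395552))) (.node (.node (.leaf 370148320) (.leaf 1444911776)) (.node (.leaf 938039168) (.leaf 2011647168)))) (.node (.node (.node (.leaf 235930208) (.leaf 1310263072)) (.node (.leaf 790889792) (.leaf 1864436224))) (.node (.node (.leaf 522476224) (.leaf 1596967296)) (.node (.leaf 1045072352) (.leaf 2118975648)))))))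

/-- Part of a collection table. -/
def tblM24_4_1 : Trie := (.node (.node (.node (.node (.node (.node (.leaf 17) (.leaf 1073742673)) (.node (.leaf 536871025) (.leaf 1610683697))) (.node (.node (.leaf 268436465) (.leaf 1343199921)) (.node (.leaf 838424465) (.leaf 1912032465)))) (.node (.node (.node (.leaf 134218353) (.leaf 1208551217)) (.node (.leaf 691275089) (.leaf 1764821521))) (.node (.node (.leaf 422861521) (.leaf 1497352593)) (.node (.leaf 945457649) (.leaf 2019360945))))) (.node (.node (.node (.node (.leaf 67108913) (.leaf 1140851569)) (.node (.leaf 605028433) (.leaf 1678841105))) (.node (.node (.leaf 336593873) (.leaf 1411357329)) (.node (.leaf 905533361) (.leaf 1979141361)))) (.node (.node (.node (.leaf 202375761) (.leaf 1276708625)) (.node (.leaf 758383985) (.leaf 1831930417))) (.node (.node (.leaf 489970417) (.leaf 1564461489)) (.node (.leaf 1011517905) (.leaf 2085421201)))))) (.node (.node (.node (.node (.node (.leaf 33554465) (.leaf 1107297121)) (.node (.leaf 571473985) (.leaf 1645286657))) (.node (.node (.leaf 303039425) (.leaf 1377802881)) (.node (.leaf 871978913) (.leaf 1945586913)))) (.node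 (.node (.node (.leaf 168821313) (.leaf 1243154177)) (.node (.leaf 724829537) (.leaf 1798375969))) (.node (.node (.leaf 456415969) (.leaf 1530907041)) (.node (.leaf 977963457) (.leaf 2051866753))))) (.node (.node (.node (.node (.leaf 101711873) (.leaf 1175454529)) (.node (.leaf 638582881) (.leaf 1712395553))) (.node (.node (.leaf 370148321) (.leaf 1444911777)) (.node (.leaf 938039169) (.leaf 2011647169)))) (.node (.node (.node (.leaf 235930209) (.leaf 1310263073)) (.node (.leaf 790889793) (.leaf 1864436225))) (.node (.node (.leaf 522476225) (.leaf 1596967297)) (.node (.leaf 1045072353) (.leaf 2118975649)))))))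

/-- Part of a collection table. -/
def tblM24_4_2 : Trie := (.node (.node (.node (.node (.node (.node (.leaf 18) (.leaf 1073742674)) (.node (.leaf 536871026) (.leaf 1610683698))) (.node (.node (.leaf 268436466) (.leaf 1343199922)) (.node (.leaf 838424466) (.leaf 1912032466)))) (.node (.node (.node (.leaf 134218354) (.leaf 1208551218)) (.node (.leaf 691275090) (.leaf 1764821522))) (.node (.node (.leaf 422861522) (.leaf 1497352594)) (.node (.leaf 945457650) (.leaf 2019360946))))) (.node (.node (.node (.node (.leaf 67108914) (.leaf 1140851570)) (.node (.leaf 605028434) (.leaf 1678841106))) (.node (.node (.leaf 336593874) (.leaf 1411357330)) (.node (.leaf 905533362) (.leaf 1979141362)))) (.node (.node (.node (.leaf 202375762) (.leaf 1276708626)) (.node (.leaf 758383986) (.leaf 1831930418))) (.node (.node (.leaf 489970418) (.leaf 1564461490)) (.node (.leaf 1011517906) (.leaf 2085421202)))))) (.node (.node (.node (.node (.node (.leaf 33554466) (.leaf 1107297122)) (.node (.leaf 571473986) (.leaf 1645286658))) (.node (.node (.leaf 303039426) (.leaf 1377802882)) (.node (.leaf 871978914) (.leaf 1945586914)))) (.node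 (.node (.node (.leaf 168821314) (.leaf 1243154178)) (.node (.leaf 724829538) (.leaf 1798375970))) (.node (.node (.leaf 456415970) (.leaf 1530907042)) (.node (.leaf 977963458) (.leaf 2051866754))))) (.node (.node (.node (.node (.leaf 101711874) (.leaf 1175454530)) (.node (.leaf 638582882) (.leaf 1712395554))) (.node (.node (.leaf 370148322) (.leaf 1444911778)) (.node (.leaf 938039170) (.leaf 2011647170)))) (.node (.node (.node (.leaf 235930210) (.leaf 1310263074)) (.node (.leaf 790889794) (.leaf 1864436226))) (.node (.node (.leaf 522476226) (.leaf 1596967298)) (.node (.leaf 1045072354) (.leaf 2118975650)))))))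

/-- Part of a collection table. -/
def tblM24_4_3 : Trie := (.node (.node (.node (.node (.node (.node (.leaf 19) (.leaf 1073742675)) (.node (.leaf 536871027) (.leaf 1610683699))) (.node (.node (.leaf 268436467) (.leaf 1343199923)) (.node (.leaf 838424467) (.leaf 1912032467)))) (.node (.node (.node (.leaf 134218355) (.leaf 1208551219)) (.node (.leaf 691275091) (.leaf 1764821523))) (.node (.node (.leaf 422861523) (.leaf 1497352595)) (.node (.leaf 945457651) (.leaf 2019360947))))) (.node (.node (.node (.node (.leaf 67108915) (.leaf 1140851571)) (.node (.leaf 605028435) (.leaf 1678841107))) (.node (.node (.leaf 336593875) (.leaf 1411357331)) (.node (.leaf 905533363) (.leaf 1979141363)))) (.node (.node (.node (.leaf 202375763) (.leaf 1276708627)) (.node (.leaf 758383987) (.leaf 1831930419))) (.node (.node (.leaf 489970419) (.leaf 1564461491)) (.node (.leaf 1011517907) (.leaf 2085421203)))))) (.node (.node (.node (.node (.node (.leaf 33554467) (.leaf 1107297123)) (.node (.leaf 571473987) (.leaf 1645286659))) (.node (.node (.leaf 303039427) (.leaf 1377802883)) (.node (.leaf 871978915) (.leaf 1945586915)))) (.node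 (.node (.node (.leaf 168821315) (.leaf 1243154179)) (.node (.leaf 724829539) (.leaf 1798375971))) (.node (.node (.leaf 456415971) (.leaf 1530907043)) (.node (.leaf 977963459) (.leaf 2051866755))))) (.node (.node (.node (.node (.leaf 101711875) (.leaf 1175454531)) (.node (.leaf 638582883) (.leaf 1712395555))) (.node (.node (.leaf 370148323) (.leaf 1444911779)) (.node (.leaf 938039171) (.leaf 2011647171)))) (.node (.node (.node (.leaf 235930211) (.leaf 1310263075)) (.node (.leaf 790889795) (.leaf 1864436227))) (.node (.node (.leaf 522476227) (.leaf 1596967299)) (.node (.leaf 1045072355) (.leaf 2118975651)))))))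

/-- Part of a collection table. -/
def tblM24_4_4 : Trie := (.node (.node (.node (.node (.node (.node (.leaf 20) (.leaf 1073742676)) (.node (.leaf 536871028) (.leaf 1610683700))) (.node (.node (.leaf 268436468) (.leaf 1343199924)) (.node (.leaf 838424468) (.leaf 1912032468)))) (.node (.node (.node (.leaf 134218356) (.leaf 1208551220)) (.node (.leaf 691275092) (.leaf 1764821524))) (.node (.node (.leaf 422861524) (.leaf 1497352596)) (.node (.leaf 945457652) (.leaf 2019360948))))) (.node (.node (.node (.node (.leaf 67108916) (.leaf 1140851572)) (.node (.leaf 605028436) (.leaf 1678841108))) (.node (.node (.leaf 336593876) (.leaf 1411357332)) (.node (.leaf 905533364) (.leaf 1979141364)))) (.node (.node (.node (.leaf 202375764) (.leaf 1276708628)) (.node (.leaf 758383988) (.leaf 1831930420))) (.node (.node (.leaf 489970420) (.leaf 1564461492)) (.node (.leaf 1011517908) (.leaf 2085421204)))))) (.node (.node (.node (.node (.node (.leaf 33554468) (.leaf 1107297124)) (.node (.leaf 571473988) (.leaf 1645286660))) (.node (.node (.leaf 303039428) (.leaf 1377802884)) (.node (.leaf 871978916) (.leaf 1945586916)))) (.node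 (.node (.node (.leaf 168821316) (.leaf 1243154180)) (.node (.leaf 724829540) (.leaf 1798375972))) (.node (.node (.leaf 456415972) (.leaf 1530907044)) (.node (.leaf 977963460) (.leaf 2051866756))))) (.node (.node (.node (.node (.leaf 101711876) (.leaf 1175454532)) (.node (.leaf 638582884) (.leaf 1712395556))) (.node (.node (.leaf 370148324) (.leaf 1444911780)) (.node (.leaf 938039172) (.leaf 2011647172)))) (.node (.node (.node (.leaf 235930212) (.leaf 1310263076)) (.node (.leaf 790889796) (.leaf 1864436228))) (.node (.node (.leaf 522476228) (.leaf 1596967300)) (.node (.leaf 1045072356) (.leaf 2118975652)))))))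

/-- Part of a collection table. -/
def tblM24_4_5 : Trie := (.node (.node (.node (.node (.node (.node (.leaf 21) (.leaf 1073742677)) (.node (.leaf 536871029) (.leaf 1610683701))) (.node (.node (.leaf 268436469) (.leaf 1343199925)) (.node (.leaf 838424469) (.leaf 1912032469)))) (.node (.node (.node (.leaf 134218357) (.leaf 1208551221)) (.node (.leaf 691275093) (.leaf 1764821525))) (.node (.node (.leaf 422861525) (.leaf 1497352597)) (.node (.leaf 945457653) (.leaf 2019360949))))) (.node (.node (.node (.node (.leaf 67108917) (.leaf 1140851573)) (.node (.leaf 605028437) (.leaf 1678841109))) (.node (.node (.leaf 336593877) (.leaf 1411357333)) (.node (.leaf 905533365) (.leaf 1979141365)))) (.node (.node (.node (.leaf 202375765) (.leaf 1276708629)) (.node (.leaf 758383989) (.leaf 1831930421))) (.node (.node (.leaf 489970421) (.leaf 1564461493)) (.node (.leaf 1011517909) (.leaf 2085421205)))))) (.node (.node (.node (.node (.node (.leaf 33554469) (.leaf 1107297125)) (.node (.leaf 571473989) (.leaf 1645286661))) (.node (.node (.leaf 303039429) (.leaf 1377802885)) (.node (.leaf 871978917) (.leaf 1945586917)))) (.node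 (.node (.node (.leaf 168821317) (.leaf 1243154181)) (.node (.leaf 724829541) (.leaf 1798375973))) (.node (.node (.leaf 456415973) (.leaf 1530907045)) (.node (.leaf 977963461) (.leaf 2051866757))))) (.node (.node (.node (.node (.leaf 101711877) (.leaf 1175454533)) (.node (.leaf 638582885) (.leaf 1712395557))) (.node (.node (.leaf 370148325) (.leaf 1444911781)) (.node (.leaf 938039173) (.leaf 2011647173)))) (.node (.node (.node (.leaf 235930213) (.leaf 1310263077)) (.node (.leaf 790889797) (.leaf 1864436229))) (.node (.node (.leaf 522476229) (.leaf 1596967301)) (.node (.leaf 1045072357) (.leaf 2118975653)))))))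

/-- Part of a collection table. -/
def tblM24_4_6 : Trie := (.node (.node (.node (.node (.node (.node (.leaf 22) (.leaf 1073742678)) (.node (.leaf 536871030) (.leaf 1610683702))) (.node (.node (.leaf 268436470) (.leaf 1343199926)) (.node (.leaf 838424470) (.leaf 1912032470)))) (.node (.node (.node (.leaf 134218358) (.leaf 1208551222)) (.node (.leaf 691275094) (.leaf 1764821526))) (.node (.node (.leaf 422861526) (.leaf 1497352598)) (.node (.leaf 945457654) (.leaf 2019360950))))) (.node (.node (.node (.node (.leaf 67108918) (.leaf 1140851574)) (.node (.leaf 605028438) (.leaf 1678841110))) (.node (.node (.leaf 336593878) (.leaf 1411357334)) (.node (.leaf 905533366) (.leaf 1979141366)))) (.node (.node (.node (.leaf 202375766) (.leaf 1276708630)) (.node (.leaf 758383990) (.leaf 1831930422))) (.node (.node (.leaf 489970422) (.leaf 1564461494)) (.node (.leaf 1011517910) (.leaf 2085421206)))))) (.node (.node (.node (.node (.node (.leaf 33554470) (.leaf 1107297126)) (.node (.leaf 571473990) (.leaf 1645286662))) (.node (.node (.leaf 303039430) (.leaf 1377802886)) (.node (.leaf 871978918) (.leaf 1945586918)))) (.node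 (.node (.node (.leaf 168821318) (.leaf 1243154182)) (.node (.leaf 724829542) (.leaf 1798375974))) (.node (.node (.leaf 456415974) (.leaf 1530907046)) (.node (.leaf 977963462) (.leaf 2051866758))))) (.node (.node (.node (.node (.leaf 101711878) (.leaf 1175454534)) (.node (.leaf 638582886) (.leaf 1712395558))) (.node (.node (.leaf 370148326) (.leaf 1444911782)) (.node (.leaf 938039174) (.leaf 2011647174)))) (.node (.node (.node (.leaf 235930214) (.leaf 1310263078)) (.node (.leaf 790889798) (.leaf 1864436230))) (.node (.node (.leaf 522476230) (.leaf 1596967302)) (.node (.leaf 1045072358) (.leaf 2118975654)))))))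

/-- Part of a collection table. -/
def tblM24_4_7 : Trie := (.node (.node (.node (.node (.node (.node (.leaf 23) (.leaf 1073742679)) (.node (.leaf 536871031) (.leaf 1610683703))) (.node (.node (.leaf 268436471) (.leaf 1343199927)) (.node (.leaf 838424471) (.leaf 1912032471)))) (.node (.node (.node (.leaf 134218359) (.leaf 1208551223)) (.node (.leaf 691275095) (.leaf 1764821527))) (.node (.node (.leaf 422861527) (.leaf 1497352599)) (.node (.leaf 945457655) (.leaf 2019360951))))) (.node (.node (.node (.node (.leaf 67108919) (.leaf 1140851575)) (.node (.leaf 605028439) (.leaf 1678841111))) (.node (.node (.leaf 336593879) (.leaf 1411357335)) (.node (.leaf 905533367) (.leaf 1979141367)))) (.node (.node (.node (.leaf 202375767) (.leaf 1276708631)) (.node (.leaf 758383991) (.leaf 1831930423))) (.node (.node (.leaf 489970423) (.leaf 1564461495)) (.node (.leaf 1011517911) (.leaf 2085421207)))))) (.node (.node (.node (.node (.node (.leaf 33554471) (.leaf 1107297127)) (.node (.leaf 571473991) (.leaf 1645286663))) (.node (.node (.leaf 303039431) (.leaf 1377802887)) (.node (.leaf 871978919) (.leaf 1945586919)))) (.node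 (.node (.node (.leaf 168821319) (.leaf 1243154183)) (.node (.leaf 724829543) (.leaf 1798375975))) (.node (.node (.leaf 456415975) (.leaf 1530907047)) (.node (.leaf 977963463) (.leaf 2051866759))))) (.node (.node (.node (.node (.leaf 101711879) (.leaf 1175454535)) (.node (.leaf 638582887) (.leaf 1712395559))) (.node (.node (.leaf 370148327) (.leaf 1444911783)) (.node (.leaf 938039175) (.leaf 2011647175)))) (.node (.node (.node (.leaf 235930215) (.leaf 1310263079)) (.node (.leaf 790889799) (.leaf 1864436231))) (.node (.node (.leaf 522476231) (.leaf 1596967303)) (.node (.leaf 1045072359) (.leaf 2118975655)))))))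

/-- Part of a collection table. -/
def tblM24_4_8 : Trie := (.node (.node (.node (.node (.node (.node (.leaf 24) (.leaf 1073742680)) (.node (.leaf 536871032) (.leaf 1610683704))) (.node (.node (.leaf 268436472) (.leaf 1343199928)) (.node (.leaf 838424472) (.leaf 1912032472)))) (.node (.node (.node (.leaf 134218360) (.leaf 1208551224)) (.node (.leaf 691275096) (.leaf 1764821528))) (.node (.node (.leaf 422861528) (.leaf 1497352600)) (.node (.leaf 945457656) (.leaf 2019360952))))) (.node (.node (.node (.node (.leaf 67108920) (.leaf 1140851576)) (.node (.leaf 605028440) (.leaf 1678841112))) (.node (.node (.leaf 336593880) (.leaf 1411357336)) (.node (.leaf 905533368) (.leaf 1979141368)))) (.node (.node (.node (.leaf 202375768) (.leaf 1276708632)) (.node (.leaf 758383992) (.leaf 1831930424))) (.node (.node (.leaf 489970424) (.leaf 1564461496)) (.node (.leaf 1011517912) (.leaf 2085421208)))))) (.node (.node (.node (.node (.node (.leaf 33554472) (.leaf 1107297128)) (.node (.leaf 571473992) (.leaf 1645286664))) (.node (.node (.leaf 303039432) (.leaf 1377802888)) (.node (.leaf 871978920) (.leaf 1945586920)))) (.node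 (.node (.node (.leaf 168821320) (.leaf 1243154184)) (.node (.leaf 724829544) (.leaf 1798375976))) (.node (.node (.leaf 456415976) (.leaf 1530907048)) (.node (.leaf 977963464) (.leaf 2051866760))))) (.node (.node (.node (.node (.leaf 101711880) (.leaf 1175454536)) (.node (.leaf 638582888) (.leaf 1712395560))) (.node (.node (.leaf 370148328) (.leaf 1444911784)) (.node (.leaf 938039176) (.leaf 2011647176)))) (.node (.node (.node (.leaf 235930216) (.leaf 1310263080)) (.node (.leaf 790889800) (.leaf 1864436232))) (.node (.node (.leaf 522476232) (.leaf 1596967304)) (.node (.leaf 1045072360) (.leaf 2118975656)))))))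

/-- Part of a collection table. -/
def tblM24_4_9 : Trie := (.node (.node (.node (.node (.node (.node (.leaf 25) (.leaf 1073742681)) (.node (.leaf 536871033) (.leaf 1610683705))) (.node (.node (.leaf 268436473) (.leaf 1343199929)) (.node (.leaf 838424473) (.leaf 1912032473)))) (.node (.node (.node (.leaf 134218361) (.leaf 1208551225)) (.node (.leaf 691275097) (.leaf 1764821529))) (.node (.node (.leaf 422861529) (.leaf 1497352601)) (.node (.leaf 945457657) (.leaf 2019360953))))) (.node (.node (.node (.node (.leaf 67108921) (.leaf 1140851577)) (.node (.leaf 605028441) (.leaf 1678841113))) (.node (.node (.leaf 336593881) (.leaf 1411357337)) (.node (.leaf 905533369) (.leaf 1979141369)))) (.node (.node (.node (.leaf 202375769) (.leaf 1276708633)) (.node (.leaf 758383993) (.leaf 1831930425))) (.node (.node (.leaf 489970425) (.leaf 1564461497)) (.node (.leaf 1011517913) (.leaf 2085421209)))))) (.node (.node (.node (.node (.node (.leaf 33554473) (.leaf 1107297129)) (.node (.leaf 571473993) (.leaf 1645286665))) (.node (.node (.leaf 303039433) (.leaf 1377802889)) (.node (.leaf 871978921) (.leaf 1945586921)))) (.node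 (.node (.node (.leaf 168821321) (.leaf 1243154185)) (.node (.leaf 724829545) (.leaf 1798375977))) (.node (.node (.leaf 456415977) (.leaf 1530907049)) (.node (.leaf 977963465) (.leaf 2051866761))))) (.node (.node (.node (.node (.leaf 101711881) (.leaf 1175454537)) (.node (.leaf 638582889) (.leaf 1712395561))) (.node (.node (.leaf 370148329) (.leaf 1444911785)) (.node (.leaf 938039177) (.leaf 2011647177)))) (.node (.node (.node (.leaf 235930217) (.leaf 1310263081)) (.node (.leaf 790889801) (.leaf 1864436233))) (.node (.node (.leaf 522476233) (.leaf 1596967305)) (.node (.leaf 1045072361) (.leaf 2118975657)))))))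

/-- Part of a collection table. -/
def tblM24_4_10 : Trie := (.node (.node (.node (.node (.node (.node (.leaf 26) (.leaf 1073742682)) (.node (.leaf 536871034) (.leaf 1610683706))) (.node (.node (.leaf 268436474) (.leaf 1343199930)) (.node (.leaf 838424474) (.leaf 1912032474)))) (.node (.node (.node (.leaf 134218362) (.leaf 1208551226)) (.node (.leaf 691275098) (.leaf 1764821530))) (.node (.node (.leaf 422861530) (.leaf 1497352602)) (.node (.leaf 945457658) (.leaf 2019360954))))) (.node (.node (.node (.node (.leaf 67108922) (.leaf 1140851578)) (.node (.leaf 605028442) (.leaf 1678841114))) (.node (.node (.leaf 336593882) (.leaf 1411357338)) (.node (.leaf 905533370) (.leaf 1979141370)))) (.node (.node (.node (.leaf 202375770) (.leaf 1276708634)) (.node (.leaf 758383994) (.leaf 1831930426))) (.node (.node (.leaf 489970426) (.leaf 1564461498)) (.node (.leaf 1011517914) (.leaf 2085421210)))))) (.node (.node (.node (.node (.node (.leaf 33554474) (.leaf 1107297130)) (.node (.leaf 571473994) (.leaf 1645286666))) (.node (.node (.leaf 303039434) (.leaf 1377802890)) (.node (.leaf 871978922) (.leaf 1945586922)))) (.node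 (.node (.node (.leaf 168821322) (.leaf 1243154186)) (.node (.leaf 724829546) (.leaf 1798375978))) (.node (.node (.leaf 456415978) (.leaf 1530907050)) (.node (.leaf 977963466) (.leaf 2051866762))))) (.node (.node (.node (.node (.leaf 101711882) (.leaf 1175454538)) (.node (.leaf 638582890) (.leaf 1712395562))) (.node (.node (.leaf 370148330) (.leaf 1444911786)) (.node (.leaf 938039178) (.leaf 2011647178)))) (.node (.node (.node (.leaf 235930218) (.leaf 1310263082)) (.node (.leaf 790889802) (.leaf 1864436234))) (.node (.node (.leaf 522476234) (.leaf 1596967306)) (.node (.leaf 1045072362) (.leaf 2118975658)))))))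

/-- Part of a collection table. -/
def tblM24_4_11 : Trie := (.node (.node (.node (.node (.node (.node (.leaf 27) (.leaf 1073742683)) (.node (.leaf 536871035) (.leaf 1610683707))) (.node (.node (.leaf 268436475) (.leaf 1343199931)) (.node (.leaf 838424475) (.leaf 1912032475)))) (.node (.node (.node (.leaf 134218363) (.leaf 1208551227)) (.node (.leaf 691275099) (.leaf 1764821531))) (.node (.node (.leaf 422861531) (.leaf 1497352603)) (.node (.leaf 945457659) (.leaf 2019360955))))) (.node (.node (.node (.node (.leaf 67108923) (.leaf 1140851579)) (.node (.leaf 605028443) (.leaf 1678841115))) (.node (.node (.leaf 336593883) (.leaf 1411357339)) (.node (.leaf 905533371) (.leaf 1979141371)))) (.node (.node (.node (.leaf 202375771) (.leaf 1276708635)) (.node (.leaf 758383995) (.leaf 1831930427))) (.node (.node (.leaf 489970427) (.leaf 1564461499)) (.node (.leaf 1011517915) (.leaf 2085421211)))))) (.node (.node (.node (.node (.node (.leaf 33554475) (.leaf 1107297131)) (.node (.leaf 571473995) (.leaf 1645286667))) (.node (.node (.leaf 303039435) (.leaf 1377802891)) (.node (.leaf 871978923) (.leaf 1945586923)))) (.node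 (.node (.node (.leaf 168821323) (.leaf 1243154187)) (.node (.leaf 724829547) (.leaf 1798375979))) (.node (.node (.leaf 456415979) (.leaf 1530907051)) (.node (.leaf 977963467) (.leaf 2051866763))))) (.node (.node (.node (.node (.leaf 101711883) (.leaf 1175454539)) (.node (.leaf 638582891) (.leaf 1712395563))) (.node (.node (.leaf 370148331) (.leaf 1444911787)) (.node (.leaf 938039179) (.leaf 2011647179)))) (.node (.node (.node (.leaf 235930219) (.leaf 1310263083)) (.node (.leaf 790889803) (.leaf 1864436235))) (.node (.node (.leaf 522476235) (.leaf 1596967307)) (.node (.leaf 1045072363) (.leaf 2118975659)))))))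

/-- Part of a collection table. -/
def tblM24_4_12 : Trie := (.node (.node (.node (.node (.node (.node (.leaf 28) (.leaf 1073742684)) (.node (.leaf 536871036) (.leaf 1610683708))) (.node (.node (.leaf 268436476) (.leaf 1343199932)) (.node (.leaf 838424476) (.leaf 1912032476)))) (.node (.node (.node (.leaf 134218364) (.leaf 1208551228)) (.node (.leaf 691275100) (.leaf 1764821532))) (.node (.node (.leaf 422861532) (.leaf 1497352604)) (.node (.leaf 945457660) (.leaf 2019360956))))) (.node (.node (.node (.node (.leaf 67108924) (.leaf 1140851580)) (.node (.leaf 605028444) (.leaf 1678841116))) (.node (.node (.leaf 336593884) (.leaf 1411357340)) (.node (.leaf 905533372) (.leaf 1979141372)))) (.node (.node (.node (.leaf 202375772) (.leaf 1276708636)) (.node (.leaf 758383996) (.leaf 1831930428))) (.node (.node (.leaf 489970428) (.leaf 1564461500)) (.node (.leaf 1011517916) (.leaf 2085421212)))))) (.node (.node (.node (.node (.node (.leaf 33554476) (.leaf 1107297132)) (.node (.leaf 571473996) (.leaf 1645286668))) (.node (.node (.leaf 303039436) (.leaf 1377802892)) (.node (.leaf 871978924) (.leaf 1945586924)))) (.node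 (.node (.node (.leaf 168821324) (.leaf 1243154188)) (.node (.leaf 724829548) (.leaf 1798375980))) (.node (.node (.leaf 456415980) (.leaf 1530907052)) (.node (.leaf 977963468) (.leaf 2051866764))))) (.node (.node (.node (.node (.leaf 101711884) (.leaf 1175454540)) (.node (.leaf 638582892) (.leaf 1712395564))) (.node (.node (.leaf 370148332) (.leaf 1444911788)) (.node (.leaf 938039180) (.leaf 2011647180)))) (.node (.node (.node (.leaf 235930220) (.leaf 1310263084)) (.node (.leaf 790889804) (.leaf 1864436236))) (.node (.node (.leaf 522476236) (.leaf 1596967308)) (.node (.leaf 1045072364) (.leaf 2118975660)))))))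

/-- Part of a collection table. -/
def tblM24_4_13 : Trie := (.node (.node (.node (.node (.node (.node (.leaf 29) (.leaf 1073742685)) (.node (.leaf 536871037) (.leaf 1610683709))) (.node (.node (.leaf 268436477) (.leaf 1343199933)) (.node (.leaf 838424477) (.leaf 1912032477)))) (.node (.node (.node (.leaf 134218365) (.leaf 1208551229)) (.node (.leaf 691275101) (.leaf 1764821533))) (.node (.node (.leaf 422861533) (.leaf 1497352605)) (.node (.leaf 945457661) (.leaf 2019360957))))) (.node (.node (.node (.node (.leaf 67108925) (.leaf 1140851581)) (.node (.leaf 605028445) (.leaf 1678841117))) (.node (.node (.leaf 336593885) (.leaf 1411357341)) (.node (.leaf 905533373) (.leaf 1979141373)))) (.node (.node (.node (.leaf 202375773) (.leaf 1276708637)) (.node (.leaf 758383997) (.leaf 1831930429))) (.node (.node (.leaf 489970429) (.leaf 1564461501)) (.node (.leaf 1011517917) (.leaf 2085421213)))))) (.node (.node (.node (.node (.node (.leaf 33554477) (.leaf 1107297133)) (.node (.leaf 571473997) (.leaf 1645286669))) (.node (.node (.leaf 303039437) (.leaf 1377802893)) (.node (.leaf 871978925) (.leaf 1945586925)))) (.node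 (.node (.node (.leaf 168821325) (.leaf 1243154189)) (.node (.leaf 724829549) (.leaf 1798375981))) (.node (.node (.leaf 456415981) (.leaf 1530907053)) (.node (.leaf 977963469) (.leaf 2051866765))))) (.node (.node (.node (.node (.leaf 101711885) (.leaf 1175454541)) (.node (.leaf 638582893) (.leaf 1712395565))) (.node (.node (.leaf 370148333) (.leaf 1444911789)) (.node (.leaf 938039181) (.leaf 2011647181)))) (.node (.node (.node (.leaf 235930221) (.leaf 1310263085)) (.node (.leaf 790889805) (.leaf 1864436237))) (.node (.node (.leaf 522476237) (.leaf 1596967309)) (.node (.leaf 1045072365) (.leaf 2118975661)))))))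

/-- Part of a collection table. -/
def tblM24_4_14 : Trie := (.node (.node (.node (.node (.node (.node (.leaf 30) (.leaf 1073742686)) (.node (.leaf 536871038) (.leaf 1610683710))) (.node (.node (.leaf 268436478) (.leaf 1343199934)) (.node (.leaf 838424478) (.leaf 1912032478)))) (.node (.node (.node (.leaf 134218366) (.leaf 1208551230)) (.node (.leaf 691275102) (.leaf 1764821534))) (.node (.node (.leaf 422861534) (.leaf 1497352606)) (.node (.leaf 945457662) (.leaf 2019360958))))) (.node (.node (.node (.node (.leaf 67108926) (.leaf 1140851582)) (.node (.leaf 605028446) (.leaf 1678841118))) (.node (.node (.leaf 336593886) (.leaf 1411357342)) (.node (.leaf 905533374) (.leaf 1979141374)))) (.node (.node (.node (.leaf 202375774) (.leaf 1276708638)) (.node (.leaf 758383998) (.leaf 1831930430))) (.node (.node (.leaf 489970430) (.leaf 1564461502)) (.node (.leaf 1011517918) (.leaf 2085421214)))))) (.node (.node (.node (.node (.node (.leaf 33554478) (.leaf 1107297134)) (.node (.leaf 571473998) (.leaf 1645286670))) (.node (.node (.leaf 303039438) (.leaf 1377802894)) (.node (.leaf 871978926) (.leaf 1945586926)))) (.node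 (.node (.node (.leaf 168821326) (.leaf 1243154190)) (.node (.leaf 724829550) (.leaf 1798375982))) (.node (.node (.leaf 456415982) (.leaf 1530907054)) (.node (.leaf 977963470) (.leaf 2051866766))))) (.node (.node (.node (.node (.leaf 101711886) (.leaf 1175454542)) (.node (.leaf 638582894) (.leaf 1712395566))) (.node (.node (.leaf 370148334) (.leaf 1444911790)) (.node (.leaf 938039182) (.leaf 2011647182)))) (.node (.node (.node (.leaf 235930222) (.leaf 1310263086)) (.node (.leaf 790889806) (.leaf 1864436238))) (.node (.node (.leaf 522476238) (.leaf 1596967310)) (.node (.leaf 1045072366) (.leaf 2118975662)))))))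

/-- Part of a collection table. -/
def tblM24_4_15 : Trie := (.node (.node (.node (.node (.node (.node (.leaf 31) (.leaf 1073742687)) (.node (.leaf 536871039) (.leaf 1610683711))) (.node (.node (.leaf 268436479) (.leaf 1343199935)) (.node (.leaf 838424479) (.leaf 1912032479)))) (.node (.node (.node (.leaf 134218367) (.leaf 1208551231)) (.node (.leaf 691275103) (.leaf 1764821535))) (.node (.node (.leaf 422861535) (.leaf 1497352607)) (.node (.leaf 945457663) (.leaf 2019360959))))) (.node (.node (.node (.node (.leaf 67108927) (.leaf 1140851583)) (.node (.leaf 605028447) (.leaf 1678841119))) (.node (.node (.leaf 336593887) (.leaf 1411357343)) (.node (.leaf 905533375) (.leaf 1979141375)))) (.node (.node (.node (.leaf 202375775) (.leaf 1276708639)) (.node (.leaf 758383999) (.leaf 1831930431))) (.node (.node (.leaf 489970431) (.leaf 1564461503)) (.node (.leaf 1011517919) (.leaf 2085421215)))))) (.node (.node (.node (.node (.node (.leaf 33554479) (.leaf 1107297135)) (.node (.leaf 571473999) (.leaf 1645286671))) (.node (.node (.leaf 303039439) (.leaf 1377802895)) (.node (.leaf 871978927) (.leaf 1945586927)))) (.node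 (.node (.node (.leaf 168821327) (.leaf 1243154191)) (.node (.leaf 724829551) (.leaf 1798375983))) (.node (.node (.leaf 456415983) (.leaf 1530907055)) (.node (.leaf 977963471) (.leaf 2051866767))))) (.node (.node (.node (.node (.leaf 101711887) (.leaf 1175454543)) (.node (.leaf 638582895) (.leaf 1712395567))) (.node (.node (.leaf 370148335) (.leaf 1444911791)) (.node (.leaf 938039183) (.leaf 2011647183)))) (.node (.node (.node (.leaf 235930223) (.leaf 1310263087)) (.node (.leaf 790889807) (.leaf 1864436239))) (.node (.node (.leaf 522476239) (.leaf 1596967311)) (.node (.leaf 1045072367) (.leaf 2118975663)))))))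

/-- Part of a collection table. -/
def tblM24_5_0 : Trie := (.node (.node (.node (.node (.node (.node (.leaf 32) (.leaf 16777760)) (.node (.leaf 8389216) (.leaf 25166944))) (.node (.node (.leaf 4194464) (.leaf 20972192)) (.node (.leaf 12715232) (.leaf 29492960)))) (.node (.node (.node (.leaf 2097952) (.leaf 18875680)) (.node (.leaf 11273568) (.leaf 28051296))) (.node (.node (.leaf 6342048) (.leaf 23119776)) (.node (.leaf 15127008) (.leaf 31904736))))) (.node (.node (.node (.node (.leaf 1048576) (.leaf 17826304)) (.node (.leaf 9437760) (.leaf 26215488))) (.node (.node (.leaf 5243008) (.leaf 22020736)) (.node (.leaf 13763776) (.leaf 30541504)))) (.node (.node (.node (.leaf 3146496) (.leaf 19924224)) (.node (.leaf 12322112) (.leaf 29099840))) (.node (.node (.leaf 7390592) (.leaf 24168320)) (.node (.leaf 16175552) (.leaf 32953280)))))) (.node (.node (.node (.node (.node (.leaf 48) (.leaf 16777776)) (.node (.leaf 8389232) (.leaf 25166960))) (.node (.node (.leaf 4194480) (.leaf 20972208)) (.node (.leaf 12715248) (.leaf 29492976)))) (.node (.node (.node (.leaf 2097968) (.leaf 18875696)) (.node (.leaf 11273584)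 (.leaf 28051312))) (.node (.node (.leaf 6342064) (.leaf 23119792)) (.node (.leaf 15127024) (.leaf 31904752))))) (.node (.node (.node (.node (.leaf 1048592) (.leaf 17826320)) (.node (.leaf 9437776) (.leaf 26215504))) (.node (.node (.leaf 5243024) (.leaf 22020752)) (.node (.leaf 13763792) (.leaf 30541520)))) (.node (.node (.node (.leaf 3146512) (.leaf 19924240)) (.node (.leaf 12322128) (.leaf 29099856))) (.node (.node (.leaf 7390608) (.leaf 24168336)) (.node (.leaf 16175568) (.leaf 32953296)))))))

/-- Part of a collection table. -/
def tblM24_5_1 : Trie := (.node (.node (.node (.node (.node (.node (.leaf 33) (.leaf 16777761)) (.node (.leaf 8389217) (.leaf 25166945))) (.node (.node (.leaf 4194465) (.leaf 20972193)) (.node (.leaf 12715233) (.leaf 29492961)))) (.node (.node (.node (.leaf 2097953) (.leaf 18875681)) (.node (.leaf 11273569) (.leaf 28051297))) (.node (.node (.leaf 6342049) (.leaf 23119777)) (.node (.leaf 15127009) (.leaf 31904737))))) (.node (.node (.node (.node (.leaf 1048577) (.leaf 17826305)) (.node (.leaf 9437761) (.leaf 26215489))) (.node (.node (.leaf 5243009) (.leaf 22020737)) (.node (.leaf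 13763777) (.leaf 30541505)))) (.node (.node (.node (.leaf 3146497) (.leaf 19924225)) (.node (.leaf 12322113) (.leaf 29099841))) (.node (.node (.leaf 7390593) (.leaf 24168321)) (.node (.leaf 16175553) (.leaf 32953281)))))) (.node (.node (.node (.node (.node (.leaf 49) (.leaf 16777777)) (.node (.leaf 8389233) (.leaf 25166961))) (.node (.node (.leaf 4194481) (.leaf 20972209)) (.node (.leaf 12715249) (.leaf 29492977)))) (.node (.node (.node (.leaf 2097969) (.leaf 18875697)) (.node (.leaf 11273585) (.leaf 28051313))) (.node (.node (.leaf 6342065) (.leaf 23119793)) (.node (.leaf 15127025) (.leaf 31904753))))) (.node (.node (.node (.node (.leaf 1048593) (.leaf 17826321)) (.node (.leaf 9437777) (.leaf 26215505))) (.node (.node (.leaf 5243025) (.leaf 22020753)) (.node (.leaf 13763793) (.leaf 30541521)))) (.node (.node (.node (.leaf 3146513) (.leaf 19924241)) (.node (.leaf 12322129) (.leaf 29099857))) (.node (.node (.leaf 7390609) (.leaf 24168337)) (.node (.leaf 16175569) (.leaf 32953297)))))))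

/-- Part of a collection table. -/
def tblM24_5_2 : Trie := (.node (.node (.node (.node (.node (.node (.leaf 34) (.leaf 16777762)) (.node (.leaf 8389218) (.leaf 25166946))) (.node (.node (.leaf 4194466) (.leaf 20972194)) (.node (.leaf 12715234) (.leaf 29492962)))) (.node (.node (.node (.leaf 2097954) (.leaf 18875682)) (.node (.leaf 11273570) (.leaf 28051298))) (.node (.node (.leaf 6342050) (.leaf 23119778)) (.node (.leaf 15127010) (.leaf 31904738))))) (.node (.node (.node (.node (.leaf 1048578) (.leaf 17826306)) (.node (.leaf 9437762) (.leaf 26215490))) (.node (.node (.leaf 5243010) (.leaf 22020738)) (.node (.leaf 13763778) (.leaf 30541506)))) (.node (.node (.node (.leaf 3146498) (.leaf 19924226)) (.node (.leaf 12322114) (.leaf 29099842))) (.node (.node (.leaf 7390594) (.leaf 24168322)) (.node (.leaf 16175554) (.leaf 32953282)))))) (.node (.node (.node (.node (.node (.leaf 50) (.leaf 16777778)) (.node (.leaf 8389234) (.leaf 25166962))) (.node (.node (.leaf 4194482) (.leaf 20972210)) (.node (.leaf 12715250) (.leaf 29492978)))) (.node (.node (.node (.leaf 2097970) (.leaf 18875698)) (.node (.leaf 11273586)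 (.leaf 28051314))) (.node (.node (.leaf 6342066) (.leaf 23119794)) (.node (.leaf 15127026) (.leaf 31904754))))) (.node (.node (.node (.node (.leaf 1048594) (.leaf 17826322)) (.node (.leaf 9437778) (.leaf 26215506))) (.node (.node (.leaf 5243026) (.leaf 22020754)) (.node (.leaf 13763794) (.leaf 30541522)))) (.node (.node (.node (.leaf 3146514) (.leaf 19924242)) (.node (.leaf 12322130) (.leaf 29099858))) (.node (.node (.leaf 7390610) (.leaf 24168338)) (.node (.leaf 16175570) (.leaf 32953298)))))))

/-- Part of a collection table. -/
def tblM24_5_3 : Trie := (.node (.node (.node (.node (.node (.node (.leaf 35) (.leaf 16777763)) (.node (.leaf 8389219) (.leaf 25166947))) (.node (.node (.leaf 4194467) (.leaf 20972195)) (.node (.leaf 12715235) (.leaf 29492963)))) (.node (.node (.node (.leaf 2097955) (.leaf 18875683)) (.node (.leaf 11273571) (.leaf 28051299))) (.node (.node (.leaf 6342051) (.leaf 23119779)) (.node (.leaf 15127011) (.leaf 31904739))))) (.node (.node (.node (.node (.leaf 1048579) (.leaf 17826307)) (.node (.leaf 9437763) (.leaf 26215491))) (.node (.node (.leaf 5243011) (.leaf 22020739)) (.node (.leaf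 13763779) (.leaf 30541507)))) (.node (.node (.node (.leaf 3146499) (.leaf 19924227)) (.node (.leaf 12322115) (.leaf 29099843))) (.node (.node (.leaf 7390595) (.leaf 24168323)) (.node (.leaf 16175555) (.leaf 32953283)))))) (.node (.node (.node (.node (.node (.leaf 51) (.leaf 16777779)) (.node (.leaf 8389235) (.leaf 25166963))) (.node (.node (.leaf 4194483) (.leaf 20972211)) (.node (.leaf 12715251) (.leaf 29492979)))) (.node (.node (.node (.leaf 2097971) (.leaf 18875699)) (.node (.leaf 11273587) (.leaf 28051315))) (.node (.node (.leaf 6342067) (.leaf 23119795)) (.node (.leaf 15127027) (.leaf 31904755))))) (.node (.node (.node (.node (.leaf 1048595) (.leaf 17826323)) (.node (.leaf 9437779) (.leaf 26215507))) (.node (.node (.leaf 5243027) (.leaf 22020755)) (.node (.leaf 13763795) (.leaf 30541523)))) (.node (.node (.node (.leaf 3146515) (.leaf 19924243)) (.node (.leaf 12322131) (.leaf 29099859))) (.node (.node (.leaf 7390611) (.leaf 24168339)) (.node (.leaf 16175571) (.leaf 32953299)))))))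

/-- Part of a collection table. -/
def tblM24_5_4 : Trie := (.node (.node (.node (.node (.node (.node (.leaf 36) (.leaf 16777764)) (.node (.leaf 8389220) (.leaf 25166948))) (.node (.node (.leaf 4194468) (.leaf 20972196)) (.node (.leaf 12715236) (.leaf 29492964)))) (.node (.node (.node (.leaf 2097956) (.leaf 18875684)) (.node (.leaf 11273572) (.leaf 28051300))) (.node (.node (.leaf 6342052) (.leaf 23119780)) (.node (.leaf 15127012) (.leaf 31904740))))) (.node (.node (.node (.node (.leaf 1048580) (.leaf 17826308)) (.node (.leaf 9437764) (.leaf 26215492))) (.node (.node (.leaf 5243012) (.leaf 22020740)) (.node (.leaf 13763780) (.leaf 30541508)))) (.node (.node (.node (.leaf 3146500) (.leaf 19924228)) (.node (.leaf 12322116) (.leaf 29099844))) (.node (.node (.leaf 7390596) (.leaf 24168324)) (.node (.leaf 16175556) (.leaf 32953284)))))) (.node (.node (.node (.node (.node (.leaf 52) (.leaf 16777780)) (.node (.leaf 8389236) (.leaf 25166964))) (.node (.node (.leaf 4194484) (.leaf 20972212)) (.node (.leaf 12715252) (.leaf 29492980)))) (.node (.node (.node (.leaf 2097972) (.leaf 18875700)) (.node (.leaf 11273588)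 (.leaf 28051316))) (.node (.node (.leaf 6342068) (.leaf 23119796)) (.node (.leaf 15127028) (.leaf 31904756))))) (.node (.node (.node (.node (.leaf 1048596) (.leaf 17826324)) (.node (.leaf 9437780) (.leaf 26215508))) (.node (.node (.leaf 5243028) (.leaf 22020756)) (.node (.leaf 13763796) (.leaf 30541524)))) (.node (.node (.node (.leaf 3146516) (.leaf 19924244)) (.node (.leaf 12322132) (.leaf 29099860))) (.node (.node (.leaf 7390612) (.leaf 24168340)) (.node (.leaf 16175572) (.leaf 32953300)))))))

/-- Part of a collection table. -/
def tblM24_5_5 : Trie := (.node (.node (.node (.node (.node (.node (.leaf 37) (.leaf 16777765)) (.node (.leaf 8389221) (.leaf 25166949))) (.node (.node (.leaf 4194469) (.leaf 20972197)) (.node (.leaf 12715237) (.leaf 29492965)))) (.node (.node (.node (.leaf 2097957) (.leaf 18875685)) (.node (.leaf 11273573) (.leaf 28051301))) (.node (.node (.leaf 6342053) (.leaf 23119781)) (.node (.leaf 15127013) (.leaf 31904741))))) (.node (.node (.node (.node (.leaf 1048581) (.leaf 17826309)) (.node (.leaf 9437765) (.leaf 26215493))) (.node (.node (.leaf 5243013) (.leaf 22020741)) (.node (.leaf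 13763781) (.leaf 30541509)))) (.node (.node (.node (.leaf 3146501) (.leaf 19924229)) (.node (.leaf 12322117) (.leaf 29099845))) (.node (.node (.leaf 7390597) (.leaf 24168325)) (.node (.leaf 16175557) (.leaf 32953285)))))) (.node (.node (.node (.node (.node (.leaf 53) (.leaf 16777781)) (.node (.leaf 8389237) (.leaf 25166965))) (.node (.node (.leaf 4194485) (.leaf 20972213)) (.node (.leaf 12715253) (.leaf 29492981)))) (.node (.node (.node (.leaf 2097973) (.leaf 18875701)) (.node (.leaf 11273589) (.leaf 28051317))) (.node (.node (.leaf 6342069) (.leaf 23119797)) (.node (.leaf 15127029) (.leaf 31904757))))) (.node (.node (.node (.node (.leaf 1048597) (.leaf 17826325)) (.node (.leaf 9437781) (.leaf 26215509))) (.node (.node (.leaf 5243029) (.leaf 22020757)) (.node (.leaf 13763797) (.leaf 30541525)))) (.node (.node (.node (.leaf 3146517) (.leaf 19924245)) (.node (.leaf 12322133) (.leaf 29099861))) (.node (.node (.leaf 7390613) (.leaf 24168341)) (.node (.leaf 16175573) (.leaf 32953301)))))))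

/-- Part of a collection table. -/
def tblM24_5_6 : Trie := (.node (.node (.node (.node (.node (.node (.leaf 38) (.leaf 16777766)) (.node (.leaf 8389222) (.leaf 25166950))) (.node (.node (.leaf 4194470) (.leaf 20972198)) (.node (.leaf 12715238) (.leaf 29492966)))) (.node (.node (.node (.leaf 2097958) (.leaf 18875686)) (.node (.leaf 11273574) (.leaf 28051302))) (.node (.node (.leaf 6342054) (.leaf 23119782)) (.node (.leaf 15127014) (.leaf 31904742))))) (.node (.node (.node (.node (.leaf 1048582) (.leaf 17826310)) (.node (.leaf 9437766) (.leaf 26215494))) (.node (.node (.leaf 5243014) (.leaf 22020742)) (.node (.leaf 13763782) (.leaf 30541510)))) (.node (.node (.node (.leaf 3146502) (.leaf 19924230)) (.node (.leaf 12322118) (.leaf 29099846))) (.node (.node (.leaf 7390598) (.leaf 24168326)) (.node (.leaf 16175558) (.leaf 32953286)))))) (.node (.node (.node (.node (.node (.leaf 54) (.leaf 16777782)) (.node (.leaf 8389238) (.leaf 25166966))) (.node (.node (.leaf 4194486) (.leaf 20972214)) (.node (.leaf 12715254) (.leaf 29492982)))) (.node (.node (.node (.leaf 2097974) (.leaf 18875702)) (.node (.leaf 11273590)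 (.leaf 28051318))) (.node (.node (.leaf 6342070) (.leaf 23119798)) (.node (.leaf 15127030) (.leaf 31904758))))) (.node (.node (.node (.node (.leaf 1048598) (.leaf 17826326)) (.node (.leaf 9437782) (.leaf 26215510))) (.node (.node (.leaf 5243030) (.leaf 22020758)) (.node (.leaf 13763798) (.leaf 30541526)))) (.node (.node (.node (.leaf 3146518) (.leaf 19924246)) (.node (.leaf 12322134) (.leaf 29099862))) (.node (.node (.leaf 7390614) (.leaf 24168342)) (.node (.leaf 16175574) (.leaf 32953302)))))))

/-- Part of a collection table. -/
def tblM24_5_7 : Trie := (.node (.node (.node (.node (.node (.node (.leaf 39) (.leaf 16777767)) (.node (.leaf 8389223) (.leaf 25166951))) (.node (.node (.leaf 4194471) (.leaf 20972199)) (.node (.leaf 12715239) (.leaf 29492967)))) (.node (.node (.node (.leaf 2097959) (.leaf 18875687)) (.node (.leaf 11273575) (.leaf 28051303))) (.node (.node (.leaf 6342055) (.leaf 23119783)) (.node (.leaf 15127015) (.leaf 31904743))))) (.node (.node (.node (.node (.leaf 1048583) (.leaf 17826311)) (.node (.leaf 9437767) (.leaf 26215495))) (.node (.node (.leaf 5243015) (.leaf 22020743)) (.node (.leaf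 13763783) (.leaf 30541511)))) (.node (.node (.node (.leaf 3146503) (.leaf 19924231)) (.node (.leaf 12322119) (.leaf 29099847))) (.node (.node (.leaf 7390599) (.leaf 24168327)) (.node (.leaf 16175559) (.leaf 32953287)))))) (.node (.node (.node (.node (.node (.leaf 55) (.leaf 16777783)) (.node (.leaf 8389239) (.leaf 25166967))) (.node (.node (.leaf 4194487) (.leaf 20972215)) (.node (.leaf 12715255) (.leaf 29492983)))) (.node (.node (.node (.leaf 2097975) (.leaf 18875703)) (.node (.leaf 11273591) (.leaf 28051319))) (.node (.node (.leaf 6342071) (.leaf 23119799)) (.node (.leaf 15127031) (.leaf 31904759))))) (.node (.node (.node (.node (.leaf 1048599) (.leaf 17826327)) (.node (.leaf 9437783) (.leaf 26215511))) (.node (.node (.leaf 5243031) (.leaf 22020759)) (.node (.leaf 13763799) (.leaf 30541527)))) (.node (.node (.node (.leaf 3146519) (.leaf 19924247)) (.node (.leaf 12322135) (.leaf 29099863))) (.node (.node (.leaf 7390615) (.leaf 24168343)) (.node (.leaf 16175575) (.leaf 32953303)))))))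

/-- Part of a collection table. -/
def tblM24_5_8 : Trie := (.node (.node (.node (.node (.node (.node (.leaf 40) (.leaf 16777768)) (.node (.leaf 8389224) (.leaf 25166952))) (.node (.node (.leaf 4194472) (.leaf 20972200)) (.node (.leaf 12715240) (.leaf 29492968)))) (.node (.node (.node (.leaf 2097960) (.leaf 18875688)) (.node (.leaf 11273576) (.leaf 28051304))) (.node (.node (.leaf 6342056) (.leaf 23119784)) (.node (.leaf 15127016) (.leaf 31904744))))) (.node (.node (.node (.node (.leaf 1048584) (.leaf 17826312)) (.node (.leaf 9437768) (.leaf 26215496))) (.node (.node (.leaf 5243016) (.leaf 22020744)) (.node (.leaf 13763784) (.leaf 30541512)))) (.node (.node (.node (.leaf 3146504) (.leaf 19924232)) (.node (.leaf 12322120) (.leaf 29099848))) (.node (.node (.leaf 7390600) (.leaf 24168328)) (.node (.leaf 16175560) (.leaf 32953288)))))) (.node (.node (.node (.node (.node (.leaf 56) (.leaf 16777784)) (.node (.leaf 8389240) (.leaf 25166968))) (.node (.node (.leaf 4194488) (.leaf 20972216)) (.node (.leaf 12715256) (.leaf 29492984)))) (.node (.node (.node (.leaf 2097976) (.leaf 18875704)) (.node (.leaf 11273592)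 (.leaf 28051320))) (.node (.node (.leaf 6342072) (.leaf 23119800)) (.node (.leaf 15127032) (.leaf 31904760))))) (.node (.node (.node (.node (.leaf 1048600) (.leaf 17826328)) (.node (.leaf 9437784) (.leaf 26215512))) (.node (.node (.leaf 5243032) (.leaf 22020760)) (.node (.leaf 13763800) (.leaf 30541528)))) (.node (.node (.node (.leaf 3146520) (.leaf 19924248)) (.node (.leaf 12322136) (.leaf 29099864))) (.node (.node (.leaf 7390616) (.leaf 24168344)) (.node (.leaf 16175576) (.leaf 32953304)))))))

/-- Part of a collection table. -/
def tblM24_5_9 : Trie := (.node (.node (.node (.node (.node (.node (.leaf 41) (.leaf 16777769)) (.node (.leaf 8389225) (.leaf 25166953))) (.node (.node (.leaf 4194473) (.leaf 20972201)) (.node (.leaf 12715241) (.leaf 29492969)))) (.node (.node (.node (.leaf 2097961) (.leaf 18875689)) (.node (.leaf 11273577) (.leaf 28051305))) (.node (.node (.leaf 6342057) (.leaf 23119785)) (.node (.leaf 15127017) (.leaf 31904745))))) (.node (.node (.node (.node (.leaf 1048585) (.leaf 17826313)) (.node (.leaf 9437769) (.leaf 26215497))) (.node (.node (.leaf 5243017) (.leaf 22020745)) (.node (.leaf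 13763785) (.leaf 30541513)))) (.node (.node (.node (.leaf 3146505) (.leaf 19924233)) (.node (.leaf 12322121) (.leaf 29099849))) (.node (.node (.leaf 7390601) (.leaf 24168329)) (.node (.leaf 16175561) (.leaf 32953289)))))) (.node (.node (.node (.node (.node (.leaf 57) (.leaf 16777785)) (.node (.leaf 8389241) (.leaf 25166969))) (.node (.node (.leaf 4194489) (.leaf 20972217)) (.node (.leaf 12715257) (.leaf 29492985)))) (.node (.node (.node (.leaf 2097977) (.leaf 18875705)) (.node (.leaf 11273593) (.leaf 28051321))) (.node (.node (.leaf 6342073) (.leaf 23119801)) (.node (.leaf 15127033) (.leaf 31904761))))) (.node (.node (.node (.node (.leaf 1048601) (.leaf 17826329)) (.node (.leaf 9437785) (.leaf 26215513))) (.node (.node (.leaf 5243033) (.leaf 22020761)) (.node (.leaf 13763801) (.leaf 30541529)))) (.node (.node (.node (.leaf 3146521) (.leaf 19924249)) (.node (.leaf 12322137) (.leaf 29099865))) (.node (.node (.leaf 7390617) (.leaf 24168345)) (.node (.leaf 16175577) (.leaf 32953305)))))))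

/-- Part of a collection table. -/
def tblM24_5_10 : Trie := (.node (.node (.node (.node (.node (.node (.leaf 42) (.leaf 16777770)) (.node (.leaf 8389226) (.leaf 25166954))) (.node (.node (.leaf 4194474) (.leaf 20972202)) (.node (.leaf 12715242) (.leaf 29492970)))) (.node (.node (.node (.leaf 2097962) (.leaf 18875690)) (.node (.leaf 11273578) (.leaf 28051306))) (.node (.node (.leaf 6342058) (.leaf 23119786)) (.node (.leaf 15127018) (.leaf 31904746))))) (.node (.node (.node (.node (.leaf 1048586) (.leaf 17826314)) (.node (.leaf 9437770) (.leaf 26215498))) (.node (.node (.leaf 5243018) (.leaf 22020746)) (.node (.leaf 13763786) (.leaf 30541514)))) (.node (.node (.node (.leaf 3146506) (.leaf 19924234)) (.node (.leaf 12322122) (.leaf 29099850))) (.node (.node (.leaf 7390602) (.leaf 24168330)) (.node (.leaf 16175562) (.leaf 32953290)))))) (.node (.node (.node (.node (.node (.leaf 58) (.leaf 16777786)) (.node (.leaf 8389242) (.leaf 25166970))) (.node (.node (.leaf 4194490) (.leaf 20972218)) (.node (.leaf 12715258) (.leaf 29492986)))) (.node (.node (.node (.leaf 2097978) (.leaf 18875706)) (.node (.leaf 11273594)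 (.leaf 28051322))) (.node (.node (.leaf 6342074) (.leaf 23119802)) (.node (.leaf 15127034) (.leaf 31904762))))) (.node (.node (.node (.node (.leaf 1048602) (.leaf 17826330)) (.node (.leaf 9437786) (.leaf 26215514))) (.node (.node (.leaf 5243034) (.leaf 22020762)) (.node (.leaf 13763802) (.leaf 30541530)))) (.node (.node (.node (.leaf 3146522) (.leaf 19924250)) (.node (.leaf 12322138) (.leaf 29099866))) (.node (.node (.leaf 7390618) (.leaf 24168346)) (.node (.leaf 16175578) (.leaf 32953306)))))))

/-- Part of a collection table. -/
def tblM24_5_11 : Trie := (.node (.node (.node (.node (.node (.node (.leaf 43) (.leaf 16777771)) (.node (.leaf 8389227) (.leaf 25166955))) (.node (.node (.leaf 4194475) (.leaf 20972203)) (.node (.leaf 12715243) (.leaf 29492971)))) (.node (.node (.node (.leaf 2097963) (.leaf 18875691)) (.node (.leaf 11273579) (.leaf 28051307))) (.node (.node (.leaf 6342059) (.leaf 23119787)) (.node (.leaf 15127019) (.leaf 31904747))))) (.node (.node (.node (.node (.leaf 1048587) (.leaf 17826315)) (.node (.leaf 9437771) (.leaf 26215499))) (.node (.node (.leaf 5243019) (.leaf 22020747)) (.node (.leaf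 13763787) (.leaf 30541515)))) (.node (.node (.node (.leaf 3146507) (.leaf 19924235)) (.node (.leaf 12322123) (.leaf 29099851))) (.node (.node (.leaf 7390603) (.leaf 24168331)) (.node (.leaf 16175563) (.leaf 32953291)))))) (.node (.node (.node (.node (.node (.leaf 59) (.leaf 16777787)) (.node (.leaf 8389243) (.leaf 25166971))) (.node (.node (.leaf 4194491) (.leaf 20972219)) (.node (.leaf 12715259) (.leaf 29492987)))) (.node (.node (.node (.leaf 2097979) (.leaf 18875707)) (.node (.leaf 11273595) (.leaf 28051323))) (.node (.node (.leaf 6342075) (.leaf 23119803)) (.node (.leaf 15127035) (.leaf 31904763))))) (.node (.node (.node (.node (.leaf 1048603) (.leaf 17826331)) (.node (.leaf 9437787) (.leaf 26215515))) (.node (.node (.leaf 5243035) (.leaf 22020763)) (.node (.leaf 13763803) (.leaf 30541531)))) (.node (.node (.node (.leaf 3146523) (.leaf 19924251)) (.node (.leaf 12322139) (.leaf 29099867))) (.node (.node (.leaf 7390619) (.leaf 24168347)) (.node (.leaf 16175579) (.leaf 32953307)))))))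

/-- Part of a collection table. -/
def tblM24_5_12 : Trie := (.node (.node (.node (.node (.node (.node (.leaf 44) (.leaf 16777772)) (.node (.leaf 8389228) (.leaf 25166956))) (.node (.node (.leaf 4194476) (.leaf 20972204)) (.node (.leaf 12715244) (.leaf 29492972)))) (.node (.node (.node (.leaf 2097964) (.leaf 18875692)) (.node (.leaf 11273580) (.leaf 28051308))) (.node (.node (.leaf 6342060) (.leaf 23119788)) (.node (.leaf 15127020) (.leaf 31904748))))) (.node (.node (.node (.node (.leaf 1048588) (.leaf 17826316)) (.node (.leaf 9437772) (.leaf 26215500))) (.node (.node (.leaf 5243020) (.leaf 22020748)) (.node (.leaf 13763788) (.leaf 30541516)))) (.node (.node (.node (.leaf 3146508) (.leaf 19924236)) (.node (.leaf 12322124) (.leaf 29099852))) (.node (.node (.leaf 7390604) (.leaf 24168332)) (.node (.leaf 16175564) (.leaf 32953292)))))) (.node (.node (.node (.node (.node (.leaf 60) (.leaf 16777788)) (.node (.leaf 8389244) (.leaf 25166972))) (.node (.node (.leaf 4194492) (.leaf 20972220)) (.node (.leaf 12715260) (.leaf 29492988)))) (.node (.node (.node (.leaf 2097980) (.leaf 18875708)) (.node (.leaf 11273596)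 (.leaf 28051324))) (.node (.node (.leaf 6342076) (.leaf 23119804)) (.node (.leaf 15127036) (.leaf 31904764))))) (.node (.node (.node (.node (.leaf 1048604) (.leaf 17826332)) (.node (.leaf 9437788) (.leaf 26215516))) (.node (.node (.leaf 5243036) (.leaf 22020764)) (.node (.leaf 13763804) (.leaf 30541532)))) (.node (.node (.node (.leaf 3146524) (.leaf 19924252)) (.node (.leaf 12322140) (.leaf 29099868))) (.node (.node (.leaf 7390620) (.leaf 24168348)) (.node (.leaf 16175580) (.leaf 32953308)))))))

/-- Part of a collection table. -/
def tblM24_5_13 : Trie := (.node (.node (.node (.node (.node (.node (.leaf 45) (.leaf 16777773)) (.node (.leaf 8389229) (.leaf 25166957))) (.node (.node (.leaf 4194477) (.leaf 20972205)) (.node (.leaf 12715245) (.leaf 29492973)))) (.node (.node (.node (.leaf 2097965) (.leaf 18875693)) (.node (.leaf 11273581) (.leaf 28051309))) (.node (.node (.leaf 6342061) (.leaf 23119789)) (.node (.leaf 15127021) (.leaf 31904749))))) (.node (.node (.node (.node (.leaf 1048589) (.leaf 17826317)) (.node (.leaf 9437773) (.leaf 26215501))) (.node (.node (.leaf 5243021) (.leaf 22020749)) (.node (.leaf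 13763789) (.leaf 30541517)))) (.node (.node (.node (.leaf 3146509) (.leaf 19924237)) (.node (.leaf 12322125) (.leaf 29099853))) (.node (.node (.leaf 7390605) (.leaf 24168333)) (.node (.leaf 16175565) (.leaf 32953293)))))) (.node (.node (.node (.node (.node (.leaf 61) (.leaf 16777789)) (.node (.leaf 8389245) (.leaf 25166973))) (.node (.node (.leaf 4194493) (.leaf 20972221)) (.node (.leaf 12715261) (.leaf 29492989)))) (.node (.node (.node (.leaf 2097981) (.leaf 18875709)) (.node (.leaf 11273597) (.leaf 28051325))) (.node (.node (.leaf 6342077) (.leaf 23119805)) (.node (.leaf 15127037) (.leaf 31904765))))) (.node (.node (.node (.node (.leaf 1048605) (.leaf 17826333)) (.node (.leaf 9437789) (.leaf 26215517))) (.node (.node (.leaf 5243037) (.leaf 22020765)) (.node (.leaf 13763805) (.leaf 30541533)))) (.node (.node (.node (.leaf 3146525) (.leaf 19924253)) (.node (.leaf 12322141) (.leaf 29099869))) (.node (.node (.leaf 7390621) (.leaf 24168349)) (.node (.leaf 16175581) (.leaf 32953309)))))))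

/-- Part of a collection table. -/
def tblM24_5_14 : Trie := (.node (.node (.node (.node (.node (.node (.leaf 46) (.leaf 16777774)) (.node (.leaf 8389230) (.leaf 25166958))) (.node (.node (.leaf 4194478) (.leaf 20972206)) (.node (.leaf 12715246) (.leaf 29492974)))) (.node (.node (.node (.leaf 2097966) (.leaf 18875694)) (.node (.leaf 11273582) (.leaf 28051310))) (.node (.node (.leaf 6342062) (.leaf 23119790)) (.node (.leaf 15127022) (.leaf 31904750))))) (.node (.node (.node (.node (.leaf 1048590) (.leaf 17826318)) (.node (.leaf 9437774) (.leaf 26215502))) (.node (.node (.leaf 5243022) (.leaf 22020750)) (.node (.leaf 13763790) (.leaf 30541518)))) (.node (.node (.node (.leaf 3146510) (.leaf 19924238)) (.node (.leaf 12322126) (.leaf 29099854))) (.node (.node (.leaf 7390606) (.leaf 24168334)) (.node (.leaf 16175566) (.leaf 32953294)))))) (.node (.node (.node (.node (.node (.leaf 62) (.leaf 16777790)) (.node (.leaf 8389246) (.leaf 25166974))) (.node (.node (.leaf 4194494) (.leaf 20972222)) (.node (.leaf 12715262) (.leaf 29492990)))) (.node (.node (.node (.leaf 2097982) (.leaf 18875710)) (.node (.leaf 11273598)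 (.leaf 28051326))) (.node (.node (.leaf 6342078) (.leaf 23119806)) (.node (.leaf 15127038) (.leaf 31904766))))) (.node (.node (.node (.node (.leaf 1048606) (.leaf 17826334)) (.node (.leaf 9437790) (.leaf 26215518))) (.node (.node (.leaf 5243038) (.leaf 22020766)) (.node (.leaf 13763806) (.leaf 30541534)))) (.node (.node (.node (.leaf 3146526) (.leaf 19924254)) (.node (.leaf 12322142) (.leaf 29099870))) (.node (.node (.leaf 7390622) (.leaf 24168350)) (.node (.leaf 16175582) (.leaf 32953310)))))))

/-- Part of a collection table. -/
def tblM24_5_15 : Trie := (.node (.node (.node (.node (.node (.node (.leaf 47) (.leaf 16777775)) (.node (.leaf 8389231) (.leaf 25166959))) (.node (.node (.leaf 4194479) (.leaf 20972207)) (.node (.leaf 12715247) (.leaf 29492975)))) (.node (.node (.node (.leaf 2097967) (.leaf 18875695)) (.node (.leaf 11273583) (.leaf 28051311))) (.node (.node (.leaf 6342063) (.leaf 23119791)) (.node (.leaf 15127023) (.leaf 31904751))))) (.node (.node (.node (.node (.leaf 1048591) (.leaf 17826319)) (.node (.leaf 9437775) (.leaf 26215503))) (.node (.node (.leaf 5243023) (.leaf 22020751)) (.node (.leaf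 13763791) (.leaf 30541519)))) (.node (.node (.node (.leaf 3146511) (.leaf 19924239)) (.node (.leaf 12322127) (.leaf 29099855))) (.node (.node (.leaf 7390607) (.leaf 24168335)) (.node (.leaf 16175567) (.leaf 32953295)))))) (.node (.node (.node (.node (.node (.leaf 63) (.leaf 16777791)) (.node (.leaf 8389247) (.leaf 25166975))) (.node (.node (.leaf 4194495) (.leaf 20972223)) (.node (.leaf 12715263) (.leaf 29492991)))) (.node (.node (.node (.leaf 2097983) (.leaf 18875711)) (.node (.leaf 11273599) (.leaf 28051327))) (.node (.node (.leaf 6342079) (.leaf 23119807)) (.node (.leaf 15127039) (.leaf 31904767))))) (.node (.node (.node (.node (.leaf 1048607) (.leaf 17826335)) (.node (.leaf 9437791) (.leaf 26215519))) (.node (.node (.leaf 5243039) (.leaf 22020767)) (.node (.leaf 13763807) (.leaf 30541535)))) (.node (.node (.node (.leaf 3146527) (.leaf 19924255)) (.node (.leaf 12322143) (.leaf 29099871))) (.node (.node (.leaf 7390623) (.leaf 24168351)) (.node (.leaf 16175583) (.leaf 32953311)))))))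

/-- Part of a collection table. -/
def tblM24_6_0 : Trie := (.node (.node (.node (.node (.node (.node (.leaf 64) (.leaf 524864)) (.node (.leaf 262464) (.leaf 787264))) (.node (.node (.leaf 131776) (.leaf 656576)) (.node (.leaf 398272) (.leaf 923072)))) (.node (.node (.node (.leaf 66048) (.leaf 590848)) (.node (.leaf 332544) (.leaf 857344))) (.node (.node (.leaf 230528) (.leaf 755328)) (.node (.leaf 492928) (.leaf 1017728))))) (.node (.node (.node (.node (.leaf 96) (.leaf 524896)) (.node (.leaf 262496) (.leaf 787296))) (.node (.node (.leaf 131808) (.leaf 656608)) (.node (.leaf 398304) (.leaf 923104)))) (.node (.node (.node (.leaf 66080) (.leaf 590880)) (.node (.leaf 332576) (.leaf 857376))) (.node (.node (.leaf 230560) (.leaf 755360)) (.node (.leaf 492960) (.leaf 1017760)))))) (.node (.node (.node (.node (.node (.leaf 80) (.leaf 524880)) (.node (.leaf 262480) (.leaf 787280))) (.node (.node (.leaf 131792) (.leaf 656592)) (.node (.leaf 398288) (.leaf 923088)))) (.node (.node (.node (.leaf 66064) (.leaf 590864)) (.node (.leaf 332560) (.leaf 857360))) (.node (.node (.leaf 230544) (.leaf 755344)) (.node (.leaf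 492944) (.leaf 1017744))))) (.node (.node (.node (.node (.leaf 112) (.leaf 524912)) (.node (.leaf 262512) (.leaf 787312))) (.node (.node (.leaf 131824) (.leaf 656624)) (.node (.leaf 398320) (.leaf 923120)))) (.node (.node (.node (.leaf 66096) (.leaf 590896)) (.node (.leaf 332592) (.leaf 857392))) (.node (.node (.leaf 230576) (.leaf 755376)) (.node (.leaf 492976) (.leaf 1017776)))))))

/-- Part of a collection table. -/
def tblM24_6_1 : Trie := (.node (.node (.node (.node (.node (.node (.leaf 65) (.leaf 524865)) (.node (.leaf 262465) (.leaf 787265))) (.node (.node (.leaf 131777) (.leaf 656577)) (.node (.leaf 398273) (.leaf 923073)))) (.node (.node (.node (.leaf 66049) (.leaf 590849)) (.node (.leaf 332545) (.leaf 857345))) (.node (.node (.leaf 230529) (.leaf 755329)) (.node (.leaf 492929) (.leaf 1017729))))) (.node (.node (.node (.node (.leaf 97) (.leaf 524897)) (.node (.leaf 262497) (.leaf 787297))) (.node (.node (.leaf 131809) (.leaf 656609)) (.node (.leaf 398305) (.leaf 923105)))) (.node (.node (.node (.leaf 66081) (.leaf 590881)) (.node (.leaf 332577) (.leaf 857377))) (.node (.node (.leaf 230561) (.leaf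 755361)) (.node (.leaf 492961) (.leaf 1017761)))))) (.node (.node (.node (.node (.node (.leaf 81) (.leaf 524881)) (.node (.leaf 262481) (.leaf 787281))) (.node (.node (.leaf 131793) (.leaf 656593)) (.node (.leaf 398289) (.leaf 923089)))) (.node (.node (.node (.leaf 66065) (.leaf 590865)) (.node (.leaf 332561) (.leaf 857361))) (.node (.node (.leaf 230545) (.leaf 755345)) (.node (.leaf 492945) (.leaf 1017745))))) (.node (.node (.node (.node (.leaf 113) (.leaf 524913)) (.node (.leaf 262513) (.leaf 787313))) (.node (.node (.leaf 131825) (.leaf 656625)) (.node (.leaf 398321) (.leaf 923121)))) (.node (.node (.node (.leaf 66097) (.leaf 590897)) (.node (.leaf 332593) (.leaf 857393))) (.node (.node (.leaf 230577) (.leaf 755377)) (.node (.leaf 492977) (.leaf 1017777)))))))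

/-- Part of a collection table. -/
def tblM24_6_2 : Trie := (.node (.node (.node (.node (.node (.node (.leaf 66) (.leaf 524866)) (.node (.leaf 262466) (.leaf 787266))) (.node (.node (.leaf 131778) (.leaf 656578)) (.node (.leaf 398274) (.leaf 923074)))) (.node (.node (.node (.leaf 66050) (.leaf 590850)) (.node (.leaf 332546) (.leaf 857346))) (.node (.node (.leaf 230530) (.leaf 755330)) (.node (.leaf 492930) (.leaf 1017730))))) (.node (.node (.node (.node (.leaf 98) (.leaf 524898)) (.node (.leaf 262498) (.leaf 787298))) (.node (.node (.leaf 131810) (.leaf 656610)) (.node (.leaf 398306) (.leaf 923106)))) (.node (.node (.node (.leaf 66082) (.leaf 590882)) (.node (.leaf 332578) (.leaf 857378))) (.node (.node (.leaf 230562) (.leaf 755362)) (.node (.leaf 492962) (.leaf 1017762)))))) (.node (.node (.node (.node (.node (.leaf 82) (.leaf 524882)) (.node (.leaf 262482) (.leaf 787282))) (.node (.node (.leaf 131794) (.leaf 656594)) (.node (.leaf 398290) (.leaf 923090)))) (.node (.node (.node (.leaf 66066) (.leaf 590866)) (.node (.leaf 332562) (.leaf 857362))) (.node (.node (.leaf 230546) (.leaf 755346)) (.node (.leaf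 492946) (.leaf 1017746))))) (.node (.node (.node (.node (.leaf 114) (.leaf 524914)) (.node (.leaf 262514) (.leaf 787314))) (.node (.node (.leaf 131826) (.leaf 656626)) (.node (.leaf 398322) (.leaf 923122)))) (.node (.node (.node (.leaf 66098) (.leaf 590898)) (.node (.leaf 332594) (.leaf 857394))) (.node (.node (.leaf 230578) (.leaf 755378)) (.node (.leaf 492978) (.leaf 1017778)))))))

/-- Part of a collection table. -/
def tblM24_6_3 : Trie := (.node (.node (.node (.node (.node (.node (.leaf 67) (.leaf 524867)) (.node (.leaf 262467) (.leaf 787267))) (.node (.node (.leaf 131779) (.leaf 656579)) (.node (.leaf 398275) (.leaf 923075)))) (.node (.node (.node (.leaf 66051) (.leaf 590851)) (.node (.leaf 332547) (.leaf 857347))) (.node (.node (.leaf 230531) (.leaf 755331)) (.node (.leaf 492931) (.leaf 1017731))))) (.node (.node (.node (.node (.leaf 99) (.leaf 524899)) (.node (.leaf 262499) (.leaf 787299))) (.node (.node (.leaf 131811) (.leaf 656611)) (.node (.leaf 398307) (.leaf 923107)))) (.node (.node (.node (.leaf 66083) (.leaf 590883)) (.node (.leaf 332579) (.leaf 857379))) (.node (.node (.leaf 230563) (.leaf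 755363)) (.node (.leaf 492963) (.leaf 1017763)))))) (.node (.node (.node (.node (.node (.leaf 83) (.leaf 524883)) (.node (.leaf 262483) (.leaf 787283))) (.node (.node (.leaf 131795) (.leaf 656595)) (.node (.leaf 398291) (.leaf 923091)))) (.node (.node (.node (.leaf 66067) (.leaf 590867)) (.node (.leaf 332563) (.leaf 857363))) (.node (.node (.leaf 230547) (.leaf 755347)) (.node (.leaf 492947) (.leaf 1017747))))) (.node (.node (.node (.node (.leaf 115) (.leaf 524915)) (.node (.leaf 262515) (.leaf 787315))) (.node (.node (.leaf 131827) (.leaf 656627)) (.node (.leaf 398323) (.leaf 923123)))) (.node (.node (.node (.leaf 66099) (.leaf 590899)) (.node (.leaf 332595) (.leaf 857395))) (.node (.node (.leaf 230579) (.leaf 755379)) (.node (.leaf 492979) (.leaf 1017779)))))))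

/-- Part of a collection table. -/
def tblM24_6_4 : Trie := (.node (.node (.node (.node (.node (.node (.leaf 68) (.leaf 524868)) (.node (.leaf 262468) (.leaf 787268))) (.node (.node (.leaf 131780) (.leaf 656580)) (.node (.leaf 398276) (.leaf 923076)))) (.node (.node (.node (.leaf 66052) (.leaf 590852)) (.node (.leaf 332548) (.leaf 857348))) (.node (.node (.leaf 230532) (.leaf 755332)) (.node (.leaf 492932) (.leaf 1017732))))) (.node (.node (.node (.node (.leaf 100) (.leaf 524900)) (.node (.leaf 262500) (.leaf 787300))) (.node (.node (.leaf 131812) (.leaf 656612)) (.node (.leaf 398308) (.leaf 923108)))) (.node (.node (.node (.leaf 66084) (.leaf 590884)) (.node (.leaf 332580) (.leaf 857380))) (.node (.node (.leaf 230564) (.leaf 755364)) (.node (.leaf 492964) (.leaf 1017764)))))) (.node (.node (.node (.node (.node (.leaf 84) (.leaf 524884)) (.node (.leaf 262484) (.leaf 787284))) (.node (.node (.leaf 131796) (.leaf 656596)) (.node (.leaf 398292) (.leaf 923092)))) (.node (.node (.node (.leaf 66068) (.leaf 590868)) (.node (.leaf 332564) (.leaf 857364))) (.node (.node (.leaf 230548) (.leaf 755348)) (.node (.leaf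 492948) (.leaf 1017748))))) (.node (.node (.node (.node (.leaf 116) (.leaf 524916)) (.node (.leaf 262516) (.leaf 787316))) (.node (.node (.leaf 131828) (.leaf 656628)) (.node (.leaf 398324) (.leaf 923124)))) (.node (.node (.node (.leaf 66100) (.leaf 590900)) (.node (.leaf 332596) (.leaf 857396))) (.node (.node (.leaf 230580) (.leaf 755380)) (.node (.leaf 492980) (.leaf 1017780)))))))

/-- Part of a collection table. -/
def tblM24_6_5 : Trie := (.node (.node (.node (.node (.node (.node (.leaf 69) (.leaf 524869)) (.node (.leaf 262469) (.leaf 787269))) (.node (.node (.leaf 131781) (.leaf 656581)) (.node (.leaf 398277) (.leaf 923077)))) (.node (.node (.node (.leaf 66053) (.leaf 590853)) (.node (.leaf 332549) (.leaf 857349))) (.node (.node (.leaf 230533) (.leaf 755333)) (.node (.leaf 492933) (.leaf 1017733))))) (.node (.node (.node (.node (.leaf 101) (.leaf 524901)) (.node (.leaf 262501) (.leaf 787301))) (.node (.node (.leaf 131813) (.leaf 656613)) (.node (.leaf 398309) (.leaf 923109)))) (.node (.node (.node (.leaf 66085) (.leaf 590885)) (.node (.leaf 332581) (.leaf 857381))) (.node (.node (.leaf 230565) (.leaf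 755365)) (.node (.leaf 492965) (.leaf 1017765)))))) (.node (.node (.node (.node (.node (.leaf 85) (.leaf 524885)) (.node (.leaf 262485) (.leaf 787285))) (.node (.node (.leaf 131797) (.leaf 656597)) (.node (.leaf 398293) (.leaf 923093)))) (.node (.node (.node (.leaf 66069) (.leaf 590869)) (.node (.leaf 332565) (.leaf 857365))) (.node (.node (.leaf 230549) (.leaf 755349)) (.node (.leaf 492949) (.leaf 1017749))))) (.node (.node (.node (.node (.leaf 117) (.leaf 524917)) (.node (.leaf 262517) (.leaf 787317))) (.node (.node (.leaf 131829) (.leaf 656629)) (.node (.leaf 398325) (.leaf 923125)))) (.node (.node (.node (.leaf 66101) (.leaf 590901)) (.node (.leaf 332597) (.leaf 857397))) (.node (.node (.leaf 230581) (.leaf 755381)) (.node (.leaf 492981) (.leaf 1017781)))))))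

/-- Part of a collection table. -/
def tblM24_6_6 : Trie := (.node (.node (.node (.node (.node (.node (.leaf 70) (.leaf 524870)) (.node (.leaf 262470) (.leaf 787270))) (.node (.node (.leaf 131782) (.leaf 656582)) (.node (.leaf 398278) (.leaf 923078)))) (.node (.node (.node (.leaf 66054) (.leaf 590854)) (.node (.leaf 332550) (.leaf 857350))) (.node (.node (.leaf 230534) (.leaf 755334)) (.node (.leaf 492934) (.leaf 1017734))))) (.node (.node (.node (.node (.leaf 102) (.leaf 524902)) (.node (.leaf 262502) (.leaf 787302))) (.node (.node (.leaf 131814) (.leaf 656614)) (.node (.leaf 398310) (.leaf 923110)))) (.node (.node (.node (.leaf 66086) (.leaf 590886)) (.node (.leaf 332582) (.leaf 857382))) (.node (.node (.leaf 230566) (.leaf 755366)) (.node (.leaf 492966) (.leaf 1017766)))))) (.node (.node (.node (.node (.node (.leaf 86) (.leaf 524886)) (.node (.leaf 262486) (.leaf 787286))) (.node (.node (.leaf 131798) (.leaf 656598)) (.node (.leaf 398294) (.leaf 923094)))) (.node (.node (.node (.leaf 66070) (.leaf 590870)) (.node (.leaf 332566) (.leaf 857366))) (.node (.node (.leaf 230550) (.leaf 755350)) (.node (.leaf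 492950) (.leaf 1017750))))) (.node (.node (.node (.node (.leaf 118) (.leaf 524918)) (.node (.leaf 262518) (.leaf 787318))) (.node (.node (.leaf 131830) (.leaf 656630)) (.node (.leaf 398326) (.leaf 923126)))) (.node (.node (.node (.leaf 66102) (.leaf 590902)) (.node (.leaf 332598) (.leaf 857398))) (.node (.node (.leaf 230582) (.leaf 755382)) (.node (.leaf 492982) (.leaf 1017782)))))))

/-- Part of a collection table. -/
def tblM24_6_7 : Trie := (.node (.node (.node (.node (.node (.node (.leaf 71) (.leaf 524871)) (.node (.leaf 262471) (.leaf 787271))) (.node (.node (.leaf 131783) (.leaf 656583)) (.node (.leaf 398279) (.leaf 923079)))) (.node (.node (.node (.leaf 66055) (.leaf 590855)) (.node (.leaf 332551) (.leaf 857351))) (.node (.node (.leaf 230535) (.leaf 755335)) (.node (.leaf 492935) (.leaf 1017735))))) (.node (.node (.node (.node (.leaf 103) (.leaf 524903)) (.node (.leaf 262503) (.leaf 787303))) (.node (.node (.leaf 131815) (.leaf 656615)) (.node (.leaf 398311) (.leaf 923111)))) (.node (.node (.node (.leaf 66087) (.leaf 590887)) (.node (.leaf 332583) (.leaf 857383))) (.node (.node (.leaf 230567) (.leaf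 755367)) (.node (.leaf 492967) (.leaf 1017767)))))) (.node (.node (.node (.node (.node (.leaf 87) (.leaf 524887)) (.node (.leaf 262487) (.leaf 787287))) (.node (.node (.leaf 131799) (.leaf 656599)) (.node (.leaf 398295) (.leaf 923095)))) (.node (.node (.node (.leaf 66071) (.leaf 590871)) (.node (.leaf 332567) (.leaf 857367))) (.node (.node (.leaf 230551) (.leaf 755351)) (.node (.leaf 492951) (.leaf 1017751))))) (.node (.node (.node (.node (.leaf 119) (.leaf 524919)) (.node (.leaf 262519) (.leaf 787319))) (.node (.node (.leaf 131831) (.leaf 656631)) (.node (.leaf 398327) (.leaf 923127)))) (.node (.node (.node (.leaf 66103) (.leaf 590903)) (.node (.leaf 332599) (.leaf 857399))) (.node (.node (.leaf 230583) (.leaf 755383)) (.node (.leaf 492983) (.leaf 1017783)))))))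

/-- Part of a collection table. -/
def tblM24_6_8 : Trie := (.node (.node (.node (.node (.node (.node (.leaf 72) (.leaf 524872)) (.node (.leaf 262472) (.leaf 787272))) (.node (.node (.leaf 131784) (.leaf 656584)) (.node (.leaf 398280) (.leaf 923080)))) (.node (.node (.node (.leaf 66056) (.leaf 590856)) (.node (.leaf 332552) (.leaf 857352))) (.node (.node (.leaf 230536) (.leaf 755336)) (.node (.leaf 492936) (.leaf 1017736))))) (.node (.node (.node (.node (.leaf 104) (.leaf 524904)) (.node (.leaf 262504) (.leaf 787304))) (.node (.node (.leaf 131816) (.leaf 656616)) (.node (.leaf 398312) (.leaf 923112)))) (.node (.node (.node (.leaf 66088) (.leaf 590888)) (.node (.leaf 332584) (.leaf 857384))) (.node (.node (.leaf 230568) (.leaf 755368)) (.node (.leaf 492968) (.leaf 1017768)))))) (.node (.node (.node (.node (.node (.leaf 88) (.leaf 524888)) (.node (.leaf 262488) (.leaf 787288))) (.node (.node (.leaf 131800) (.leaf 656600)) (.node (.leaf 398296) (.leaf 923096)))) (.node (.node (.node (.leaf 66072) (.leaf 590872)) (.node (.leaf 332568) (.leaf 857368))) (.node (.node (.leaf 230552) (.leaf 755352)) (.node (.leaf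 492952) (.leaf 1017752))))) (.node (.node (.node (.node (.leaf 120) (.leaf 524920)) (.node (.leaf 262520) (.leaf 787320))) (.node (.node (.leaf 131832) (.leaf 656632)) (.node (.leaf 398328) (.leaf 923128)))) (.node (.node (.node (.leaf 66104) (.leaf 590904)) (.node (.leaf 332600) (.leaf 857400))) (.node (.node (.leaf 230584) (.leaf 755384)) (.node (.leaf 492984) (.leaf 1017784)))))))

/-- Part of a collection table. -/
def tblM24_6_9 : Trie := (.node (.node (.node (.node (.node (.node (.leaf 73) (.leaf 524873)) (.node (.leaf 262473) (.leaf 787273))) (.node (.node (.leaf 131785) (.leaf 656585)) (.node (.leaf 398281) (.leaf 923081)))) (.node (.node (.node (.leaf 66057) (.leaf 590857)) (.node (.leaf 332553) (.leaf 857353))) (.node (.node (.leaf 230537) (.leaf 755337)) (.node (.leaf 492937) (.leaf 1017737))))) (.node (.node (.node (.node (.leaf 105) (.leaf 524905)) (.node (.leaf 262505) (.leaf 787305))) (.node (.node (.leaf 131817) (.leaf 656617)) (.node (.leaf 398313) (.leaf 923113)))) (.node (.node (.node (.leaf 66089) (.leaf 590889)) (.node (.leaf 332585) (.leaf 857385))) (.node (.node (.leaf 230569) (.leaf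 755369)) (.node (.leaf 492969) (.leaf 1017769)))))) (.node (.node (.node (.node (.node (.leaf 89) (.leaf 524889)) (.node (.leaf 262489) (.leaf 787289))) (.node (.node (.leaf 131801) (.leaf 656601)) (.node (.leaf 398297) (.leaf 923097)))) (.node (.node (.node (.leaf 66073) (.leaf 590873)) (.node (.leaf 332569) (.leaf 857369))) (.node (.node (.leaf 230553) (.leaf 755353)) (.node (.leaf 492953) (.leaf 1017753))))) (.node (.node (.node (.node (.leaf 121) (.leaf 524921)) (.node (.leaf 262521) (.leaf 787321))) (.node (.node (.leaf 131833) (.leaf 656633)) (.node (.leaf 398329) (.leaf 923129)))) (.node (.node (.node (.leaf 66105) (.leaf 590905)) (.node (.leaf 332601) (.leaf 857401))) (.node (.node (.leaf 230585) (.leaf 755385)) (.node (.leaf 492985) (.leaf 1017785)))))))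

/-- Part of a collection table. -/
def tblM24_6_10 : Trie := (.node (.node (.node (.node (.node (.node (.leaf 74) (.leaf 524874)) (.node (.leaf 262474) (.leaf 787274))) (.node (.node (.leaf 131786) (.leaf 656586)) (.node (.leaf 398282) (.leaf 923082)))) (.node (.node (.node (.leaf 66058) (.leaf 590858)) (.node (.leaf 332554) (.leaf 857354))) (.node (.node (.leaf 230538) (.leaf 755338)) (.node (.leaf 492938) (.leaf 1017738))))) (.node (.node (.node (.node (.leaf 106) (.leaf 524906)) (.node (.leaf 262506) (.leaf 787306))) (.node (.node (.leaf 131818) (.leaf 656618)) (.node (.leaf 398314) (.leaf 923114)))) (.node (.node (.node (.leaf 66090) (.leaf 590890)) (.node (.leaf 332586) (.leaf 857386))) (.node (.node (.leaf 230570) (.leaf 755370)) (.node (.leaf 492970) (.leaf 1017770)))))) (.node (.node (.node (.node (.node (.leaf 90) (.leaf 524890)) (.node (.leaf 262490) (.leaf 787290))) (.node (.node (.leaf 131802) (.leaf 656602)) (.node (.leaf 398298) (.leaf 923098)))) (.node (.node (.node (.leaf 66074) (.leaf 590874)) (.node (.leaf 332570) (.leaf 857370))) (.node (.node (.leaf 230554) (.leaf 755354)) (.node (.leaf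 492954) (.leaf 1017754))))) (.node (.node (.node (.node (.leaf 122) (.leaf 524922)) (.node (.leaf 262522) (.leaf 787322))) (.node (.node (.leaf 131834) (.leaf 656634)) (.node (.leaf 398330) (.leaf 923130)))) (.node (.node (.node (.leaf 66106) (.leaf 590906)) (.node (.leaf 332602) (.leaf 857402))) (.node (.node (.leaf 230586) (.leaf 755386)) (.node (.leaf 492986) (.leaf 1017786)))))))

/-- Part of a collection table. -/
def tblM24_6_11 : Trie := (.node (.node (.node (.node (.node (.node (.leaf 75) (.leaf 524875)) (.node (.leaf 262475) (.leaf 787275))) (.node (.node (.leaf 131787) (.leaf 656587)) (.node (.leaf 398283) (.leaf 923083)))) (.node (.node (.node (.leaf 66059) (.leaf 590859)) (.node (.leaf 332555) (.leaf 857355))) (.node (.node (.leaf 230539) (.leaf 755339)) (.node (.leaf 492939) (.leaf 1017739))))) (.node (.node (.node (.node (.leaf 107) (.leaf 524907)) (.node (.leaf 262507) (.leaf 787307))) (.node (.node (.leaf 131819) (.leaf 656619)) (.node (.leaf 398315) (.leaf 923115)))) (.node (.node (.node (.leaf 66091) (.leaf 590891)) (.node (.leaf 332587) (.leaf 857387))) (.node (.node (.leaf 230571) (.leaf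 755371)) (.node (.leaf 492971) (.leaf 1017771)))))) (.node (.node (.node (.node (.node (.leaf 91) (.leaf 524891)) (.node (.leaf 262491) (.leaf 787291))) (.node (.node (.leaf 131803) (.leaf 656603)) (.node (.leaf 398299) (.leaf 923099)))) (.node (.node (.node (.leaf 66075) (.leaf 590875)) (.node (.leaf 332571) (.leaf 857371))) (.node (.node (.leaf 230555) (.leaf 755355)) (.node (.leaf 492955) (.leaf 1017755))))) (.node (.node (.node (.node (.leaf 123) (.leaf 524923)) (.node (.leaf 262523) (.leaf 787323))) (.node (.node (.leaf 131835) (.leaf 656635)) (.node (.leaf 398331) (.leaf 923131)))) (.node (.node (.node (.leaf 66107) (.leaf 590907)) (.node (.leaf 332603) (.leaf 857403))) (.node (.node (.leaf 230587) (.leaf 755387)) (.node (.leaf 492987) (.leaf 1017787)))))))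

/-- Part of a collection table. -/
def tblM24_6_12 : Trie := (.node (.node (.node (.node (.node (.node (.leaf 76) (.leaf 524876)) (.node (.leaf 262476) (.leaf 787276))) (.node (.node (.leaf 131788) (.leaf 656588)) (.node (.leaf 398284) (.leaf 923084)))) (.node (.node (.node (.leaf 66060) (.leaf 590860)) (.node (.leaf 332556) (.leaf 857356))) (.node (.node (.leaf 230540) (.leaf 755340)) (.node (.leaf 492940) (.leaf 1017740))))) (.node (.node (.node (.node (.leaf 108) (.leaf 524908)) (.node (.leaf 262508) (.leaf 787308))) (.node (.node (.leaf 131820) (.leaf 656620)) (.node (.leaf 398316) (.leaf 923116)))) (.node (.node (.node (.leaf 66092) (.leaf 590892)) (.node (.leaf 332588) (.leaf 857388))) (.node (.node (.leaf 230572) (.leaf 755372)) (.node (.leaf 492972) (.leaf 1017772)))))) (.node (.node (.node (.node (.node (.leaf 92) (.leaf 524892)) (.node (.leaf 262492) (.leaf 787292))) (.node (.node (.leaf 131804) (.leaf 656604)) (.node (.leaf 398300) (.leaf 923100)))) (.node (.node (.node (.leaf 66076) (.leaf 590876)) (.node (.leaf 332572) (.leaf 857372))) (.node (.node (.leaf 230556) (.leaf 755356)) (.node (.leaf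 492956) (.leaf 1017756))))) (.node (.node (.node (.node (.leaf 124) (.leaf 524924)) (.node (.leaf 262524) (.leaf 787324))) (.node (.node (.leaf 131836) (.leaf 656636)) (.node (.leaf 398332) (.leaf 923132)))) (.node (.node (.node (.leaf 66108) (.leaf 590908)) (.node (.leaf 332604) (.leaf 857404))) (.node (.node (.leaf 230588) (.leaf 755388)) (.node (.leaf 492988) (.leaf 1017788)))))))

/-- Part of a collection table. -/
def tblM24_6_13 : Trie := (.node (.node (.node (.node (.node (.node (.leaf 77) (.leaf 524877)) (.node (.leaf 262477) (.leaf 787277))) (.node (.node (.leaf 131789) (.leaf 656589)) (.node (.leaf 398285) (.leaf 923085)))) (.node (.node (.node (.leaf 66061) (.leaf 590861)) (.node (.leaf 332557) (.leaf 857357))) (.node (.node (.leaf 230541) (.leaf 755341)) (.node (.leaf 492941) (.leaf 1017741))))) (.node (.node (.node (.node (.leaf 109) (.leaf 524909)) (.node (.leaf 262509) (.leaf 787309))) (.node (.node (.leaf 131821) (.leaf 656621)) (.node (.leaf 398317) (.leaf 923117)))) (.node (.node (.node (.leaf 66093) (.leaf 590893)) (.node (.leaf 332589) (.leaf 857389))) (.node (.node (.leaf 230573) (.leaf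 755373)) (.node (.leaf 492973) (.leaf 1017773)))))) (.node (.node (.node (.node (.node (.leaf 93) (.leaf 524893)) (.node (.leaf 262493) (.leaf 787293))) (.node (.node (.leaf 131805) (.leaf 656605)) (.node (.leaf 398301) (.leaf 923101)))) (.node (.node (.node (.leaf 66077) (.leaf 590877)) (.node (.leaf 332573) (.leaf 857373))) (.node (.node (.leaf 230557) (.leaf 755357)) (.node (.leaf 492957) (.leaf 1017757))))) (.node (.node (.node (.node (.leaf 125) (.leaf 524925)) (.node (.leaf 262525) (.leaf 787325))) (.node (.node (.leaf 131837) (.leaf 656637)) (.node (.leaf 398333) (.leaf 923133)))) (.node (.node (.node (.leaf 66109) (.leaf 590909)) (.node (.leaf 332605) (.leaf 857405))) (.node (.node (.leaf 230589) (.leaf 755389)) (.node (.leaf 492989) (.leaf 1017789)))))))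

/-- Part of a collection table. -/
def tblM24_6_14 : Trie := (.node (.node (.node (.node (.node (.node (.leaf 78) (.leaf 524878)) (.node (.leaf 262478) (.leaf 787278))) (.node (.node (.leaf 131790) (.leaf 656590)) (.node (.leaf 398286) (.leaf 923086)))) (.node (.node (.node (.leaf 66062) (.leaf 590862)) (.node (.leaf 332558) (.leaf 857358))) (.node (.node (.leaf 230542) (.leaf 755342)) (.node (.leaf 492942) (.leaf 1017742))))) (.node (.node (.node (.node (.leaf 110) (.leaf 524910)) (.node (.leaf 262510) (.leaf 787310))) (.node (.node (.leaf 131822) (.leaf 656622)) (.node (.leaf 398318) (.leaf 923118)))) (.node (.node (.node (.leaf 66094) (.leaf 590894)) (.node (.leaf 332590) (.leaf 857390))) (.node (.node (.leaf 230574) (.leaf 755374)) (.node (.leaf 492974) (.leaf 1017774)))))) (.node (.node (.node (.node (.node (.leaf 94) (.leaf 524894)) (.node (.leaf 262494) (.leaf 787294))) (.node (.node (.leaf 131806) (.leaf 656606)) (.node (.leaf 398302) (.leaf 923102)))) (.node (.node (.node (.leaf 66078) (.leaf 590878)) (.node (.leaf 332574) (.leaf 857374))) (.node (.node (.leaf 230558) (.leaf 755358)) (.node (.leaf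 492958) (.leaf 1017758))))) (.node (.node (.node (.node (.leaf 126) (.leaf 524926)) (.node (.leaf 262526) (.leaf 787326))) (.node (.node (.leaf 131838) (.leaf 656638)) (.node (.leaf 398334) (.leaf 923134)))) (.node (.node (.node (.leaf 66110) (.leaf 590910)) (.node (.leaf 332606) (.leaf 857406))) (.node (.node (.leaf 230590) (.leaf 755390)) (.node (.leaf 492990) (.leaf 1017790)))))))

/-- Part of a collection table. -/
def tblM24_6_15 : Trie := (.node (.node (.node (.node (.node (.node (.leaf 79) (.leaf 524879)) (.node (.leaf 262479) (.leaf 787279))) (.node (.node (.leaf 131791) (.leaf 656591)) (.node (.leaf 398287) (.leaf 923087)))) (.node (.node (.node (.leaf 66063) (.leaf 590863)) (.node (.leaf 332559) (.leaf 857359))) (.node (.node (.leaf 230543) (.leaf 755343)) (.node (.leaf 492943) (.leaf 1017743))))) (.node (.node (.node (.node (.leaf 111) (.leaf 524911)) (.node (.leaf 262511) (.leaf 787311))) (.node (.node (.leaf 131823) (.leaf 656623)) (.node (.leaf 398319) (.leaf 923119)))) (.node (.node (.node (.leaf 66095) (.leaf 590895)) (.node (.leaf 332591) (.leaf 857391))) (.node (.node (.leaf 230575) (.leaf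 755375)) (.node (.leaf 492975) (.leaf 1017775)))))) (.node (.node (.node (.node (.node (.leaf 95) (.leaf 524895)) (.node (.leaf 262495) (.leaf 787295))) (.node (.node (.leaf 131807) (.leaf 656607)) (.node (.leaf 398303) (.leaf 923103)))) (.node (.node (.node (.leaf 66079) (.leaf 590879)) (.node (.leaf 332575) (.leaf 857375))) (.node (.node (.leaf 230559) (.leaf 755359)) (.node (.leaf 492959) (.leaf 1017759))))) (.node (.node (.node (.node (.leaf 127) (.leaf 524927)) (.node (.leaf 262527) (.leaf 787327))) (.node (.node (.leaf 131839) (.leaf 656639)) (.node (.leaf 398335) (.leaf 923135)))) (.node (.node (.node (.leaf 66111) (.leaf 590911)) (.node (.leaf 332607) (.leaf 857407))) (.node (.node (.leaf 230591) (.leaf 755391)) (.node (.leaf 492991) (.leaf 1017791)))))))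

/-- Part of a collection table. -/
def tblM24_7_0 : Trie := (.node (.node (.node (.node (.node (.node (.leaf 128) (.leaf 33408)) (.node (.leaf 17280) (.leaf 50560))) (.node (.node (.leaf 8192) (.leaf 41472)) (.node (.leaf 25344) (.leaf 58624)))) (.node (.node (.node (.leaf 192) (.leaf 33472)) (.node (.leaf 17344) (.leaf 50624))) (.node (.node (.leaf 8256) (.leaf 41536)) (.node (.leaf 25408) (.leaf 58688))))) (.node (.node (.node (.node (.leaf 160) (.leaf 33440)) (.node (.leaf 17312) (.leaf 50592))) (.node (.node (.leaf 8224) (.leaf 41504)) (.node (.leaf 25376) (.leaf 58656)))) (.node (.node (.node (.leaf 224) (.leaf 33504)) (.node (.leaf 17376) (.leaf 50656))) (.node (.node (.leaf 8288) (.leaf 41568)) (.node (.leaf 25440) (.leaf 58720)))))) (.node (.node (.node (.node (.node (.leaf 144) (.leaf 33424)) (.node (.leaf 17296) (.leaf 50576))) (.node (.node (.leaf 8208) (.leaf 41488)) (.node (.leaf 25360) (.leaf 58640)))) (.node (.node (.node (.leaf 208) (.leaf 33488)) (.node (.leaf 17360) (.leaf 50640))) (.node (.node (.leaf 8272) (.leaf 41552)) (.node (.leaf 25424) (.leaf 58704))))) (.node (.node (.node (.node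 (.leaf 176) (.leaf 33456)) (.node (.leaf 17328) (.leaf 50608))) (.node (.node (.leaf 8240) (.leaf 41520)) (.node (.leaf 25392) (.leaf 58672)))) (.node (.node (.node (.leaf 240) (.leaf 33520)) (.node (.leaf 17392) (.leaf 50672))) (.node (.node (.leaf 8304) (.leaf 41584)) (.node (.leaf 25456) (.leaf 58736)))))))

/-- Part of a collection table. -/
def tblM24_7_1 : Trie := (.node (.node (.node (.node (.node (.node (.leaf 129) (.leaf 33409)) (.node (.leaf 17281) (.leaf 50561))) (.node (.node (.leaf 8193) (.leaf 41473)) (.node (.leaf 25345) (.leaf 58625)))) (.node (.node (.node (.leaf 193) (.leaf 33473)) (.node (.leaf 17345) (.leaf 50625))) (.node (.node (.leaf 8257) (.leaf 41537)) (.node (.leaf 25409) (.leaf 58689))))) (.node (.node (.node (.node (.leaf 161) (.leaf 33441)) (.node (.leaf 17313) (.leaf 50593))) (.node (.node (.leaf 8225) (.leaf 41505)) (.node (.leaf 25377) (.leaf 58657)))) (.node (.node (.node (.leaf 225) (.leaf 33505)) (.node (.leaf 17377) (.leaf 50657))) (.node (.node (.leaf 8289) (.leaf 41569)) (.node (.leaf 25441) (.leaf 58721)))))) (.node (.node (.node (.node (.node (.leaf 145) (.leaf 33425))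 (.node (.leaf 17297) (.leaf 50577))) (.node (.node (.leaf 8209) (.leaf 41489)) (.node (.leaf 25361) (.leaf 58641)))) (.node (.node (.node (.leaf 209) (.leaf 33489)) (.node (.leaf 17361) (.leaf 50641))) (.node (.node (.leaf 8273) (.leaf 41553)) (.node (.leaf 25425) (.leaf 58705))))) (.node (.node (.node (.node (.leaf 177) (.leaf 33457)) (.node (.leaf 17329) (.leaf 50609))) (.node (.node (.leaf 8241) (.leaf 41521)) (.node (.leaf 25393) (.leaf 58673)))) (.node (.node (.node (.leaf 241) (.leaf 33521)) (.node (.leaf 17393) (.leaf 50673))) (.node (.node (.leaf 8305) (.leaf 41585)) (.node (.leaf 25457) (.leaf 58737)))))))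

/-- Part of a collection table. -/
def tblM24_7_2 : Trie := (.node (.node (.node (.node (.node (.node (.leaf 130) (.leaf 33410)) (.node (.leaf 17282) (.leaf 50562))) (.node (.node (.leaf 8194) (.leaf 41474)) (.node (.leaf 25346) (.leaf 58626)))) (.node (.node (.node (.leaf 194) (.leaf 33474)) (.node (.leaf 17346) (.leaf 50626))) (.node (.node (.leaf 8258) (.leaf 41538)) (.node (.leaf 25410) (.leaf 58690))))) (.node (.node (.node (.node (.leaf 162) (.leaf 33442)) (.node (.leaf 17314) (.leaf 50594))) (.node (.node (.leaf 8226) (.leaf 41506)) (.node (.leaf 25378) (.leaf 58658)))) (.node (.node (.node (.leaf 226) (.leaf 33506)) (.node (.leaf 17378) (.leaf 50658))) (.node (.node (.leaf 8290) (.leaf 41570)) (.node (.leaf 25442) (.leaf 58722)))))) (.node (.node (.node (.node (.node (.leaf 146) (.leaf 33426)) (.node (.leaf 17298) (.leaf 50578))) (.node (.node (.leaf 8210) (.leaf 41490)) (.node (.leaf 25362) (.leaf 58642)))) (.node (.node (.node (.leaf 210) (.leaf 33490)) (.node (.leaf 17362) (.leaf 50642))) (.node (.node (.leaf 8274) (.leaf 41554)) (.node (.leaf 25426) (.leaf 58706))))) (.node (.node (.node (.node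 (.leaf 178) (.leaf 33458)) (.node (.leaf 17330) (.leaf 50610))) (.node (.node (.leaf 8242) (.leaf 41522)) (.node (.leaf 25394) (.leaf 58674)))) (.node (.node (.node (.leaf 242) (.leaf 33522)) (.node (.leaf 17394) (.leaf 50674))) (.node (.node (.leaf 8306) (.leaf 41586)) (.node (.leaf 25458) (.leaf 58738)))))))

/-- Part of a collection table. -/
def tblM24_7_3 : Trie := (.node (.node (.node (.node (.node (.node (.leaf 131) (.leaf 33411)) (.node (.leaf 17283) (.leaf 50563))) (.node (.node (.leaf 8195) (.leaf 41475)) (.node (.leaf 25347) (.leaf 58627)))) (.node (.node (.node (.leaf 195) (.leaf 33475)) (.node (.leaf 17347) (.leaf 50627))) (.node (.node (.leaf 8259) (.leaf 41539)) (.node (.leaf 25411) (.leaf 58691))))) (.node (.node (.node (.node (.leaf 163) (.leaf 33443)) (.node (.leaf 17315) (.leaf 50595))) (.node (.node (.leaf 8227) (.leaf 41507)) (.node (.leaf 25379) (.leaf 58659)))) (.node (.node (.node (.leaf 227) (.leaf 33507)) (.node (.leaf 17379) (.leaf 50659))) (.node (.node (.leaf 8291) (.leaf 41571)) (.node (.leaf 25443) (.leaf 58723)))))) (.node (.node (.node (.node (.node (.leaf 147) (.leaf 33427))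 (.node (.leaf 17299) (.leaf 50579))) (.node (.node (.leaf 8211) (.leaf 41491)) (.node (.leaf 25363) (.leaf 58643)))) (.node (.node (.node (.leaf 211) (.leaf 33491)) (.node (.leaf 17363) (.leaf 50643))) (.node (.node (.leaf 8275) (.leaf 41555)) (.node (.leaf 25427) (.leaf 58707))))) (.node (.node (.node (.node (.leaf 179) (.leaf 33459)) (.node (.leaf 17331) (.leaf 50611))) (.node (.node (.leaf 8243) (.leaf 41523)) (.node (.leaf 25395) (.leaf 58675)))) (.node (.node (.node (.leaf 243) (.leaf 33523)) (.node (.leaf 17395) (.leaf 50675))) (.node (.node (.leaf 8307) (.leaf 41587)) (.node (.leaf 25459) (.leaf 58739)))))))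

/-- Part of a collection table. -/
def tblM24_7_4 : Trie := (.node (.node (.node (.node (.node (.node (.leaf 132) (.leaf 33412)) (.node (.leaf 17284) (.leaf 50564))) (.node (.node (.leaf 8196) (.leaf 41476)) (.node (.leaf 25348) (.leaf 58628)))) (.node (.node (.node (.leaf 196) (.leaf 33476)) (.node (.leaf 17348) (.leaf 50628))) (.node (.node (.leaf 8260) (.leaf 41540)) (.node (.leaf 25412) (.leaf 58692))))) (.node (.node (.node (.node (.leaf 164) (.leaf 33444)) (.node (.leaf 17316) (.leaf 50596))) (.node (.node (.leaf 8228) (.leaf 41508)) (.node (.leaf 25380) (.leaf 58660)))) (.node (.node (.node (.leaf 228) (.leaf 33508)) (.node (.leaf 17380) (.leaf 50660))) (.node (.node (.leaf 8292) (.leaf 41572)) (.node (.leaf 25444) (.leaf 58724)))))) (.node (.node (.node (.node (.node (.leaf 148) (.leaf 33428)) (.node (.leaf 17300) (.leaf 50580))) (.node (.node (.leaf 8212) (.leaf 41492)) (.node (.leaf 25364) (.leaf 58644)))) (.node (.node (.node (.leaf 212) (.leaf 33492)) (.node (.leaf 17364) (.leaf 50644))) (.node (.node (.leaf 8276) (.leaf 41556)) (.node (.leaf 25428) (.leaf 58708))))) (.node (.node (.node (.node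 (.leaf 180) (.leaf 33460)) (.node (.leaf 17332) (.leaf 50612))) (.node (.node (.leaf 8244) (.leaf 41524)) (.node (.leaf 25396) (.leaf 58676)))) (.node (.node (.node (.leaf 244) (.leaf 33524)) (.node (.leaf 17396) (.leaf 50676))) (.node (.node (.leaf 8308) (.leaf 41588)) (.node (.leaf 25460) (.leaf 58740)))))))

/-- Part of a collection table. -/
def tblM24_7_5 : Trie := (.node (.node (.node (.node (.node (.node (.leaf 133) (.leaf 33413)) (.node (.leaf 17285) (.leaf 50565))) (.node (.node (.leaf 8197) (.leaf 41477)) (.node (.leaf 25349) (.leaf 58629)))) (.node (.node (.node (.leaf 197) (.leaf 33477)) (.node (.leaf 17349) (.leaf 50629))) (.node (.node (.leaf 8261) (.leaf 41541)) (.node (.leaf 25413) (.leaf 58693))))) (.node (.node (.node (.node (.leaf 165) (.leaf 33445)) (.node (.leaf 17317) (.leaf 50597))) (.node (.node (.leaf 8229) (.leaf 41509)) (.node (.leaf 25381) (.leaf 58661)))) (.node (.node (.node (.leaf 229) (.leaf 33509)) (.node (.leaf 17381) (.leaf 50661))) (.node (.node (.leaf 8293) (.leaf 41573)) (.node (.leaf 25445) (.leaf 58725)))))) (.node (.node (.node (.node (.node (.leaf 149) (.leaf 33429))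 (.node (.leaf 17301) (.leaf 50581))) (.node (.node (.leaf 8213) (.leaf 41493)) (.node (.leaf 25365) (.leaf 58645)))) (.node (.node (.node (.leaf 213) (.leaf 33493)) (.node (.leaf 17365) (.leaf 50645))) (.node (.node (.leaf 8277) (.leaf 41557)) (.node (.leaf 25429) (.leaf 58709))))) (.node (.node (.node (.node (.leaf 181) (.leaf 33461)) (.node (.leaf 17333) (.leaf 50613))) (.node (.node (.leaf 8245) (.leaf 41525)) (.node (.leaf 25397) (.leaf 58677)))) (.node (.node (.node (.leaf 245) (.leaf 33525)) (.node (.leaf 17397) (.leaf 50677))) (.node (.node (.leaf 8309) (.leaf 41589)) (.node (.leaf 25461) (.leaf 58741)))))))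

/-- Part of a collection table. -/
def tblM24_7_6 : Trie := (.node (.node (.node (.node (.node (.node (.leaf 134) (.leaf 33414)) (.node (.leaf 17286) (.leaf 50566))) (.node (.node (.leaf 8198) (.leaf 41478)) (.node (.leaf 25350) (.leaf 58630)))) (.node (.node (.node (.leaf 198) (.leaf 33478)) (.node (.leaf 17350) (.leaf 50630))) (.node (.node (.leaf 8262) (.leaf 41542)) (.node (.leaf 25414) (.leaf 58694))))) (.node (.node (.node (.node (.leaf 166) (.leaf 33446)) (.node (.leaf 17318) (.leaf 50598))) (.node (.node (.leaf 8230) (.leaf 41510)) (.node (.leaf 25382) (.leaf 58662)))) (.node (.node (.node (.leaf 230) (.leaf 33510)) (.node (.leaf 17382) (.leaf 50662))) (.node (.node (.leaf 8294) (.leaf 41574)) (.node (.leaf 25446) (.leaf 58726)))))) (.node (.node (.node (.node (.node (.leaf 150) (.leaf 33430)) (.node (.leaf 17302) (.leaf 50582))) (.node (.node (.leaf 8214) (.leaf 41494)) (.node (.leaf 25366) (.leaf 58646)))) (.node (.node (.node (.leaf 214) (.leaf 33494)) (.node (.leaf 17366) (.leaf 50646))) (.node (.node (.leaf 8278) (.leaf 41558)) (.node (.leaf 25430) (.leaf 58710))))) (.node (.node (.node (.node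 (.leaf 182) (.leaf 33462)) (.node (.leaf 17334) (.leaf 50614))) (.node (.node (.leaf 8246) (.leaf 41526)) (.node (.leaf 25398) (.leaf 58678)))) (.node (.node (.node (.leaf 246) (.leaf 33526)) (.node (.leaf 17398) (.leaf 50678))) (.node (.node (.leaf 8310) (.leaf 41590)) (.node (.leaf 25462) (.leaf 58742)))))))

/-- Part of a collection table. -/
def tblM24_7_7 : Trie := (.node (.node (.node (.node (.node (.node (.leaf 135) (.leaf 33415)) (.node (.leaf 17287) (.leaf 50567))) (.node (.node (.leaf 8199) (.leaf 41479)) (.node (.leaf 25351) (.leaf 58631)))) (.node (.node (.node (.leaf 199) (.leaf 33479)) (.node (.leaf 17351) (.leaf 50631))) (.node (.node (.leaf 8263) (.leaf 41543)) (.node (.leaf 25415) (.leaf 58695))))) (.node (.node (.node (.node (.leaf 167) (.leaf 33447)) (.node (.leaf 17319) (.leaf 50599))) (.node (.node (.leaf 8231) (.leaf 41511)) (.node (.leaf 25383) (.leaf 58663)))) (.node (.node (.node (.leaf 231) (.leaf 33511)) (.node (.leaf 17383) (.leaf 50663))) (.node (.node (.leaf 8295) (.leaf 41575)) (.node (.leaf 25447) (.leaf 58727)))))) (.node (.node (.node (.node (.node (.leaf 151) (.leaf 33431))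 (.node (.leaf 17303) (.leaf 50583))) (.node (.node (.leaf 8215) (.leaf 41495)) (.node (.leaf 25367) (.leaf 58647)))) (.node (.node (.node (.leaf 215) (.leaf 33495)) (.node (.leaf 17367) (.leaf 50647))) (.node (.node (.leaf 8279) (.leaf 41559)) (.node (.leaf 25431) (.leaf 58711))))) (.node (.node (.node (.node (.leaf 183) (.leaf 33463)) (.node (.leaf 17335) (.leaf 50615))) (.node (.node (.leaf 8247) (.leaf 41527)) (.node (.leaf 25399) (.leaf 58679)))) (.node (.node (.node (.leaf 247) (.leaf 33527)) (.node (.leaf 17399) (.leaf 50679))) (.node (.node (.leaf 8311) (.leaf 41591)) (.node (.leaf 25463) (.leaf 58743)))))))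

/-- Part of a collection table. -/
def tblM24_7_8 : Trie := (.node (.node (.node (.node (.node (.node (.leaf 136) (.leaf 33416)) (.node (.leaf 17288) (.leaf 50568))) (.node (.node (.leaf 8200) (.leaf 41480)) (.node (.leaf 25352) (.leaf 58632)))) (.node (.node (.node (.leaf 200) (.leaf 33480)) (.node (.leaf 17352) (.leaf 50632))) (.node (.node (.leaf 8264) (.leaf 41544)) (.node (.leaf 25416) (.leaf 58696))))) (.node (.node (.node (.node (.leaf 168) (.leaf 33448)) (.node (.leaf 17320) (.leaf 50600))) (.node (.node (.leaf 8232) (.leaf 41512)) (.node (.leaf 25384) (.leaf 58664)))) (.node (.node (.node (.leaf 232) (.leaf 33512)) (.node (.leaf 17384) (.leaf 50664))) (.node (.node (.leaf 8296) (.leaf 41576)) (.node (.leaf 25448) (.leaf 58728)))))) (.node (.node (.node (.node (.node (.leaf 152) (.leaf 33432)) (.node (.leaf 17304) (.leaf 50584))) (.node (.node (.leaf 8216) (.leaf 41496)) (.node (.leaf 25368) (.leaf 58648)))) (.node (.node (.node (.leaf 216) (.leaf 33496)) (.node (.leaf 17368) (.leaf 50648))) (.node (.node (.leaf 8280) (.leaf 41560)) (.node (.leaf 25432) (.leaf 58712))))) (.node (.node (.node (.node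 (.leaf 184) (.leaf 33464)) (.node (.leaf 17336) (.leaf 50616))) (.node (.node (.leaf 8248) (.leaf 41528)) (.node (.leaf 25400) (.leaf 58680)))) (.node (.node (.node (.leaf 248) (.leaf 33528)) (.node (.leaf 17400) (.leaf 50680))) (.node (.node (.leaf 8312) (.leaf 41592)) (.node (.leaf 25464) (.leaf 58744)))))))

/-- Part of a collection table. -/
def tblM24_7_9 : Trie := (.node (.node (.node (.node (.node (.node (.leaf 137) (.leaf 33417)) (.node (.leaf 17289) (.leaf 50569))) (.node (.node (.leaf 8201) (.leaf 41481)) (.node (.leaf 25353) (.leaf 58633)))) (.node (.node (.node (.leaf 201) (.leaf 33481)) (.node (.leaf 17353) (.leaf 50633))) (.node (.node (.leaf 8265) (.leaf 41545)) (.node (.leaf 25417) (.leaf 58697))))) (.node (.node (.node (.node (.leaf 169) (.leaf 33449)) (.node (.leaf 17321) (.leaf 50601))) (.node (.node (.leaf 8233) (.leaf 41513)) (.node (.leaf 25385) (.leaf 58665)))) (.node (.node (.node (.leaf 233) (.leaf 33513)) (.node (.leaf 17385) (.leaf 50665))) (.node (.node (.leaf 8297) (.leaf 41577)) (.node (.leaf 25449) (.leaf 58729)))))) (.node (.node (.node (.node (.node (.leaf 153) (.leaf 33433))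 (.node (.leaf 17305) (.leaf 50585))) (.node (.node (.leaf 8217) (.leaf 41497)) (.node (.leaf 25369) (.leaf 58649)))) (.node (.node (.node (.leaf 217) (.leaf 33497)) (.node (.leaf 17369) (.leaf 50649))) (.node (.node (.leaf 8281) (.leaf 41561)) (.node (.leaf 25433) (.leaf 58713))))) (.node (.node (.node (.node (.leaf 185) (.leaf 33465)) (.node (.leaf 17337) (.leaf 50617))) (.node (.node (.leaf 8249) (.leaf 41529)) (.node (.leaf 25401) (.leaf 58681)))) (.node (.node (.node (.leaf 249) (.leaf 33529)) (.node (.leaf 17401) (.leaf 50681))) (.node (.node (.leaf 8313) (.leaf 41593)) (.node (.leaf 25465) (.leaf 58745)))))))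

/-- Part of a collection table. -/
def tblM24_7_10 : Trie := (.node (.node (.node (.node (.node (.node (.leaf 138) (.leaf 33418)) (.node (.leaf 17290) (.leaf 50570))) (.node (.node (.leaf 8202) (.leaf 41482)) (.node (.leaf 25354) (.leaf 58634)))) (.node (.node (.node (.leaf 202) (.leaf 33482)) (.node (.leaf 17354) (.leaf 50634))) (.node (.node (.leaf 8266) (.leaf 41546)) (.node (.leaf 25418) (.leaf 58698))))) (.node (.node (.node (.node (.leaf 170) (.leaf 33450)) (.node (.leaf 17322) (.leaf 50602))) (.node (.node (.leaf 8234) (.leaf 41514)) (.node (.leaf 25386) (.leaf 58666)))) (.node (.node (.node (.leaf 234) (.leaf 33514)) (.node (.leaf 17386) (.leaf 50666))) (.node (.node (.leaf 8298) (.leaf 41578)) (.node (.leaf 25450) (.leaf 58730)))))) (.node (.node (.node (.node (.node (.leaf 154) (.leaf 33434)) (.node (.leaf 17306) (.leaf 50586))) (.node (.node (.leaf 8218) (.leaf 41498)) (.node (.leaf 25370) (.leaf 58650)))) (.node (.node (.node (.leaf 218) (.leaf 33498)) (.node (.leaf 17370) (.leaf 50650))) (.node (.node (.leaf 8282) (.leaf 41562)) (.node (.leaf 25434) (.leaf 58714))))) (.node (.node (.node (.node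 (.leaf 186) (.leaf 33466)) (.node (.leaf 17338) (.leaf 50618))) (.node (.node (.leaf 8250) (.leaf 41530)) (.node (.leaf 25402) (.leaf 58682)))) (.node (.node (.node (.leaf 250) (.leaf 33530)) (.node (.leaf 17402) (.leaf 50682))) (.node (.node (.leaf 8314) (.leaf 41594)) (.node (.leaf 25466) (.leaf 58746)))))))

/-- Part of a collection table. -/
def tblM24_7_11 : Trie := (.node (.node (.node (.node (.node (.node (.leaf 139) (.leaf 33419)) (.node (.leaf 17291) (.leaf 50571))) (.node (.node (.leaf 8203) (.leaf 41483)) (.node (.leaf 25355) (.leaf 58635)))) (.node (.node (.node (.leaf 203) (.leaf 33483)) (.node (.leaf 17355) (.leaf 50635))) (.node (.node (.leaf 8267) (.leaf 41547)) (.node (.leaf 25419) (.leaf 58699))))) (.node (.node (.node (.node (.leaf 171) (.leaf 33451)) (.node (.leaf 17323) (.leaf 50603))) (.node (.node (.leaf 8235) (.leaf 41515)) (.node (.leaf 25387) (.leaf 58667)))) (.node (.node (.node (.leaf 235) (.leaf 33515)) (.node (.leaf 17387) (.leaf 50667))) (.node (.node (.leaf 8299) (.leaf 41579)) (.node (.leaf 25451) (.leaf 58731)))))) (.node (.node (.node (.node (.node (.leaf 155) (.leaf 33435))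 (.node (.leaf 17307) (.leaf 50587))) (.node (.node (.leaf 8219) (.leaf 41499)) (.node (.leaf 25371) (.leaf 58651)))) (.node (.node (.node (.leaf 219) (.leaf 33499)) (.node (.leaf 17371) (.leaf 50651))) (.node (.node (.leaf 8283) (.leaf 41563)) (.node (.leaf 25435) (.leaf 58715))))) (.node (.node (.node (.node (.leaf 187) (.leaf 33467)) (.node (.leaf 17339) (.leaf 50619))) (.node (.node (.leaf 8251) (.leaf 41531)) (.node (.leaf 25403) (.leaf 58683)))) (.node (.node (.node (.leaf 251) (.leaf 33531)) (.node (.leaf 17403) (.leaf 50683))) (.node (.node (.leaf 8315) (.leaf 41595)) (.node (.leaf 25467) (.leaf 58747)))))))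

/-- Part of a collection table. -/
def tblM24_7_12 : Trie := (.node (.node (.node (.node (.node (.node (.leaf 140) (.leaf 33420)) (.node (.leaf 17292) (.leaf 50572))) (.node (.node (.leaf 8204) (.leaf 41484)) (.node (.leaf 25356) (.leaf 58636)))) (.node (.node (.node (.leaf 204) (.leaf 33484)) (.node (.leaf 17356) (.leaf 50636))) (.node (.node (.leaf 8268) (.leaf 41548)) (.node (.leaf 25420) (.leaf 58700))))) (.node (.node (.node (.node (.leaf 172) (.leaf 33452)) (.node (.leaf 17324) (.leaf 50604))) (.node (.node (.leaf 8236) (.leaf 41516)) (.node (.leaf 25388) (.leaf 58668)))) (.node (.node (.node (.leaf 236) (.leaf 33516)) (.node (.leaf 17388) (.leaf 50668))) (.node (.node (.leaf 8300) (.leaf 41580)) (.node (.leaf 25452) (.leaf 58732)))))) (.node (.node (.node (.node (.node (.leaf 156) (.leaf 33436)) (.node (.leaf 17308) (.leaf 50588))) (.node (.node (.leaf 8220) (.leaf 41500)) (.node (.leaf 25372) (.leaf 58652)))) (.node (.node (.node (.leaf 220) (.leaf 33500)) (.node (.leaf 17372) (.leaf 50652))) (.node (.node (.leaf 8284) (.leaf 41564)) (.node (.leaf 25436) (.leaf 58716))))) (.node (.node (.node (.node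 (.leaf 188) (.leaf 33468)) (.node (.leaf 17340) (.leaf 50620))) (.node (.node (.leaf 8252) (.leaf 41532)) (.node (.leaf 25404) (.leaf 58684)))) (.node (.node (.node (.leaf 252) (.leaf 33532)) (.node (.leaf 17404) (.leaf 50684))) (.node (.node (.leaf 8316) (.leaf 41596)) (.node (.leaf 25468) (.leaf 58748)))))))

/-- Part of a collection table. -/
def tblM24_7_13 : Trie := (.node (.node (.node (.node (.node (.node (.leaf 141) (.leaf 33421)) (.node (.leaf 17293) (.leaf 50573))) (.node (.node (.leaf 8205) (.leaf 41485)) (.node (.leaf 25357) (.leaf 58637)))) (.node (.node (.node (.leaf 205) (.leaf 33485)) (.node (.leaf 17357) (.leaf 50637))) (.node (.node (.leaf 8269) (.leaf 41549)) (.node (.leaf 25421) (.leaf 58701))))) (.node (.node (.node (.node (.leaf 173) (.leaf 33453)) (.node (.leaf 17325) (.leaf 50605))) (.node (.node (.leaf 8237) (.leaf 41517)) (.node (.leaf 25389) (.leaf 58669)))) (.node (.node (.node (.leaf 237) (.leaf 33517)) (.node (.leaf 17389) (.leaf 50669))) (.node (.node (.leaf 8301) (.leaf 41581)) (.node (.leaf 25453) (.leaf 58733)))))) (.node (.node (.node (.node (.node (.leaf 157) (.leaf 33437))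 (.node (.leaf 17309) (.leaf 50589))) (.node (.node (.leaf 8221) (.leaf 41501)) (.node (.leaf 25373) (.leaf 58653)))) (.node (.node (.node (.leaf 221) (.leaf 33501)) (.node (.leaf 17373) (.leaf 50653))) (.node (.node (.leaf 8285) (.leaf 41565)) (.node (.leaf 25437) (.leaf 58717))))) (.node (.node (.node (.node (.leaf 189) (.leaf 33469)) (.node (.leaf 17341) (.leaf 50621))) (.node (.node (.leaf 8253) (.leaf 41533)) (.node (.leaf 25405) (.leaf 58685)))) (.node (.node (.node (.leaf 253) (.leaf 33533)) (.node (.leaf 17405) (.leaf 50685))) (.node (.node (.leaf 8317) (.leaf 41597)) (.node (.leaf 25469) (.leaf 58749)))))))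

/-- Part of a collection table. -/
def tblM24_7_14 : Trie := (.node (.node (.node (.node (.node (.node (.leaf 142) (.leaf 33422)) (.node (.leaf 17294) (.leaf 50574))) (.node (.node (.leaf 8206) (.leaf 41486)) (.node (.leaf 25358) (.leaf 58638)))) (.node (.node (.node (.leaf 206) (.leaf 33486)) (.node (.leaf 17358) (.leaf 50638))) (.node (.node (.leaf 8270) (.leaf 41550)) (.node (.leaf 25422) (.leaf 58702))))) (.node (.node (.node (.node (.leaf 174) (.leaf 33454)) (.node (.leaf 17326) (.leaf 50606))) (.node (.node (.leaf 8238) (.leaf 41518)) (.node (.leaf 25390) (.leaf 58670)))) (.node (.node (.node (.leaf 238) (.leaf 33518)) (.node (.leaf 17390) (.leaf 50670))) (.node (.node (.leaf 8302) (.leaf 41582)) (.node (.leaf 25454) (.leaf 58734)))))) (.node (.node (.node (.node (.node (.leaf 158) (.leaf 33438)) (.node (.leaf 17310) (.leaf 50590))) (.node (.node (.leaf 8222) (.leaf 41502)) (.node (.leaf 25374) (.leaf 58654)))) (.node (.node (.node (.leaf 222) (.leaf 33502)) (.node (.leaf 17374) (.leaf 50654))) (.node (.node (.leaf 8286) (.leaf 41566)) (.node (.leaf 25438) (.leaf 58718))))) (.node (.node (.node (.node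 (.leaf 190) (.leaf 33470)) (.node (.leaf 17342) (.leaf 50622))) (.node (.node (.leaf 8254) (.leaf 41534)) (.node (.leaf 25406) (.leaf 58686)))) (.node (.node (.node (.leaf 254) (.leaf 33534)) (.node (.leaf 17406) (.leaf 50686))) (.node (.node (.leaf 8318) (.leaf 41598)) (.node (.leaf 25470) (.leaf 58750)))))))

/-- Part of a collection table. -/
def tblM24_7_15 : Trie := (.node (.node (.node (.node (.node (.node (.leaf 143) (.leaf 33423)) (.node (.leaf 17295) (.leaf 50575))) (.node (.node (.leaf 8207) (.leaf 41487)) (.node (.leaf 25359) (.leaf 58639)))) (.node (.node (.node (.leaf 207) (.leaf 33487)) (.node (.leaf 17359) (.leaf 50639))) (.node (.node (.leaf 8271) (.leaf 41551)) (.node (.leaf 25423) (.leaf 58703))))) (.node (.node (.node (.node (.leaf 175) (.leaf 33455)) (.node (.leaf 17327) (.leaf 50607))) (.node (.node (.leaf 8239) (.leaf 41519)) (.node (.leaf 25391) (.leaf 58671)))) (.node (.node (.node (.leaf 239) (.leaf 33519)) (.node (.leaf 17391) (.leaf 50671))) (.node (.node (.leaf 8303) (.leaf 41583)) (.node (.leaf 25455) (.leaf 58735)))))) (.node (.node (.node (.node (.node (.leaf 159) (.leaf 33439))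 (.node (.leaf 17311) (.leaf 50591))) (.node (.node (.leaf 8223) (.leaf 41503)) (.node (.leaf 25375) (.leaf 58655)))) (.node (.node (.node (.leaf 223) (.leaf 33503)) (.node (.leaf 17375) (.leaf 50655))) (.node (.node (.leaf 8287) (.leaf 41567)) (.node (.leaf 25439) (.leaf 58719))))) (.node (.node (.node (.node (.leaf 191) (.leaf 33471)) (.node (.leaf 17343) (.leaf 50623))) (.node (.node (.leaf 8255) (.leaf 41535)) (.node (.leaf 25407) (.leaf 58687)))) (.node (.node (.node (.leaf 255) (.leaf 33535)) (.node (.leaf 17407) (.leaf 50687))) (.node (.node (.leaf 8319) (.leaf 41599)) (.node (.leaf 25471) (.leaf 58751)))))))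

/-- Part of a collection table. -/
def tblM24_8_0 : Trie := (.node (.node (.node (.node (.node (.node (.leaf 256) (.leaf 4864)) (.node (.leaf 2560) (.leaf 7168))) (.node (.node (.leaf 384) (.leaf 4992)) (.node (.leaf 2688) (.leaf 7296)))) (.node (.node (.node (.leaf 320) (.leaf 4928)) (.node (.leaf 2624) (.leaf 7232))) (.node (.node (.leaf 448) (.leaf 5056)) (.node (.leaf 2752) (.leaf 7360))))) (.node (.node (.node (.node (.leaf 288) (.leaf 4896)) (.node (.leaf 2592) (.leaf 7200))) (.node (.node (.leaf 416) (.leaf 5024)) (.node (.leaf 2720) (.leaf 7328)))) (.node (.node (.node (.leaf 352) (.leaf 4960)) (.node (.leaf 2656) (.leaf 7264))) (.node (.node (.leaf 480) (.leaf 5088)) (.node (.leaf 2784) (.leaf 7392)))))) (.node (.node (.node (.node (.node (.leaf 272) (.leaf 4880)) (.node (.leaf 2576) (.leaf 7184))) (.node (.node (.leaf 400) (.leaf 5008)) (.node (.leaf 2704) (.leaf 7312)))) (.node (.node (.node (.leaf 336) (.leaf 4944)) (.node (.leaf 2640) (.leaf 7248))) (.node (.node (.leaf 464) (.leaf 5072)) (.node (.leaf 2768) (.leaf 7376))))) (.node (.node (.node (.node (.leaf 304) (.leaf 4912)) (.node (.leaf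 2608) (.leaf 7216))) (.node (.node (.leaf 432) (.leaf 5040)) (.node (.leaf 2736) (.leaf 7344)))) (.node (.node (.node (.leaf 368) (.leaf 4976)) (.node (.leaf 2672) (.leaf 7280))) (.node (.node (.leaf 496) (.leaf 5104)) (.node (.leaf 2800) (.leaf 7408)))))))

/-- Part of a collection table. -/
def tblM24_8_1 : Trie := (.node (.node (.node (.node (.node (.node (.leaf 257) (.leaf 4865)) (.node (.leaf 2561) (.leaf 7169))) (.node (.node (.leaf 385) (.leaf 4993)) (.node (.leaf 2689) (.leaf 7297)))) (.node (.node (.node (.leaf 321) (.leaf 4929)) (.node (.leaf 2625) (.leaf 7233))) (.node (.node (.leaf 449) (.leaf 5057)) (.node (.leaf 2753) (.leaf 7361))))) (.node (.node (.node (.node (.leaf 289) (.leaf 4897)) (.node (.leaf 2593) (.leaf 7201))) (.node (.node (.leaf 417) (.leaf 5025)) (.node (.leaf 2721) (.leaf 7329)))) (.node (.node (.node (.leaf 353) (.leaf 4961)) (.node (.leaf 2657) (.leaf 7265))) (.node (.node (.leaf 481) (.leaf 5089)) (.node (.leaf 2785) (.leaf 7393)))))) (.node (.node (.node (.node (.node (.leaf 273) (.leaf 4881)) (.node (.leaf 2577) (.leaf 7185))) (.node (.node (.leaf 401) (.leaf 5009)) (.node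 (.leaf 2705) (.leaf 7313)))) (.node (.node (.node (.leaf 337) (.leaf 4945)) (.node (.leaf 2641) (.leaf 7249))) (.node (.node (.leaf 465) (.leaf 5073)) (.node (.leaf 2769) (.leaf 7377))))) (.node (.node (.node (.node (.leaf 305) (.leaf 4913)) (.node (.leaf 2609) (.leaf 7217))) (.node (.node (.leaf 433) (.leaf 5041)) (.node (.leaf 2737) (.leaf 7345)))) (.node (.node (.node (.leaf 369) (.leaf 4977)) (.node (.leaf 2673) (.leaf 7281))) (.node (.node (.leaf 497) (.leaf 5105)) (.node (.leaf 2801) (.leaf 7409)))))))

/-- Part of a collection table. -/
def tblM24_8_2 : Trie := (.node (.node (.node (.node (.node (.node (.leaf 258) (.leaf 4866)) (.node (.leaf 2562) (.leaf 7170))) (.node (.node (.leaf 386) (.leaf 4994)) (.node (.leaf 2690) (.leaf 7298)))) (.node (.node (.node (.leaf 322) (.leaf 4930)) (.node (.leaf 2626) (.leaf 7234))) (.node (.node (.leaf 450) (.leaf 5058)) (.node (.leaf 2754) (.leaf 7362))))) (.node (.node (.node (.node (.leaf 290) (.leaf 4898)) (.node (.leaf 2594) (.leaf 7202))) (.node (.node (.leaf 418) (.leaf 5026)) (.node (.leaf 2722) (.leaf 7330)))) (.node (.node (.node (.leaf 354) (.leaf 4962))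 (.node (.leaf 2658) (.leaf 7266))) (.node (.node (.leaf 482) (.leaf 5090)) (.node (.leaf 2786) (.leaf 7394)))))) (.node (.node (.node (.node (.node (.leaf 274) (.leaf 4882)) (.node (.leaf 2578) (.leaf 7186))) (.node (.node (.leaf 402) (.leaf 5010)) (.node (.leaf 2706) (.leaf 7314)))) (.node (.node (.node (.leaf 338) (.leaf 4946)) (.node (.leaf 2642) (.leaf 7250))) (.node (.node (.leaf 466) (.leaf 5074)) (.node (.leaf 2770) (.leaf 7378))))) (.node (.node (.node (.node (.leaf 306) (.leaf 4914)) (.node (.leaf 2610) (.leaf 7218))) (.node (.node (.leaf 434) (.leaf 5042)) (.node (.leaf 2738) (.leaf 7346)))) (.node (.node (.node (.leaf 370) (.leaf 4978)) (.node (.leaf 2674) (.leaf 7282))) (.node (.node (.leaf 498) (.leaf 5106)) (.node (.leaf 2802) (.leaf 7410)))))))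

/-- Part of a collection table. -/
def tblM24_8_3 : Trie := (.node (.node (.node (.node (.node (.node (.leaf 259) (.leaf 4867)) (.node (.leaf 2563) (.leaf 7171))) (.node (.node (.leaf 387) (.leaf 4995)) (.node (.leaf 2691) (.leaf 7299)))) (.node (.node (.node (.leaf 323) (.leaf 4931)) (.node (.leaf 2627) (.leaf 7235))) (.node (.node (.leaf 451) (.leaf 5059)) (.node (.leaf 2755) (.leaf 7363))))) (.node (.node (.node (.node (.leaf 291) (.leaf 4899)) (.node (.leaf 2595) (.leaf 7203))) (.node (.node (.leaf 419) (.leaf 5027)) (.node (.leaf 2723) (.leaf 7331)))) (.node (.node (.node (.leaf 355) (.leaf 4963)) (.node (.leaf 2659) (.leaf 7267))) (.node (.node (.leaf 483) (.leaf 5091)) (.node (.leaf 2787) (.leaf 7395)))))) (.node (.node (.node (.node (.node (.leaf 275) (.leaf 4883)) (.node (.leaf 2579) (.leaf 7187))) (.node (.node (.leaf 403) (.leaf 5011)) (.node (.leaf 2707) (.leaf 7315)))) (.node (.node (.node (.leaf 339) (.leaf 4947)) (.node (.leaf 2643) (.leaf 7251))) (.node (.node (.leaf 467) (.leaf 5075)) (.node (.leaf 2771) (.leaf 7379))))) (.node (.node (.node (.node (.leaf 307) (.leaf 4915)) (.node (.leaf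 2611) (.leaf 7219))) (.node (.node (.leaf 435) (.leaf 5043)) (.node (.leaf 2739) (.leaf 7347)))) (.node (.node (.node (.leaf 371) (.leaf 4979)) (.node (.leaf 2675) (.leaf 7283))) (.node (.node (.leaf 499) (.leaf 5107)) (.node (.leaf 2803) (.leaf 7411)))))))

/-- Part of a collection table. -/
def tblM24_8_4 : Trie := (.node (.node (.node (.node (.node (.node (.leaf 260) (.leaf 4868)) (.node (.leaf 2564) (.leaf 7172))) (.node (.node (.leaf 388) (.leaf 4996)) (.node (.leaf 2692) (.leaf 7300)))) (.node (.node (.node (.leaf 324) (.leaf 4932)) (.node (.leaf 2628) (.leaf 7236))) (.node (.node (.leaf 452) (.leaf 5060)) (.node (.leaf 2756) (.leaf 7364))))) (.node (.node (.node (.node (.leaf 292) (.leaf 4900)) (.node (.leaf 2596) (.leaf 7204))) (.node (.node (.leaf 420) (.leaf 5028)) (.node (.leaf 2724) (.leaf 7332)))) (.node (.node (.node (.leaf 356) (.leaf 4964)) (.node (.leaf 2660) (.leaf 7268))) (.node (.node (.leaf 484) (.leaf 5092)) (.node (.leaf 2788) (.leaf 7396)))))) (.node (.node (.node (.node (.node (.leaf 276) (.leaf 4884)) (.node (.leaf 2580) (.leaf 7188))) (.node (.node (.leaf 404) (.leaf 5012)) (.node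 (.leaf 2708) (.leaf 7316)))) (.node (.node (.node (.leaf 340) (.leaf 4948)) (.node (.leaf 2644) (.leaf 7252))) (.node (.node (.leaf 468) (.leaf 5076)) (.node (.leaf 2772) (.leaf 7380))))) (.node (.node (.node (.node (.leaf 308) (.leaf 4916)) (.node (.leaf 2612) (.leaf 7220))) (.node (.node (.leaf 436) (.leaf 5044)) (.node (.leaf 2740) (.leaf 7348)))) (.node (.node (.node (.leaf 372) (.leaf 4980)) (.node (.leaf 2676) (.leaf 7284))) (.node (.node (.leaf 500) (.leaf 5108)) (.node (.leaf 2804) (.leaf 7412)))))))

/-- Part of a collection table. -/
def tblM24_8_5 : Trie := (.node (.node (.node (.node (.node (.node (.leaf 261) (.leaf 4869)) (.node (.leaf 2565) (.leaf 7173))) (.node (.node (.leaf 389) (.leaf 4997)) (.node (.leaf 2693) (.leaf 7301)))) (.node (.node (.node (.leaf 325) (.leaf 4933)) (.node (.leaf 2629) (.leaf 7237))) (.node (.node (.leaf 453) (.leaf 5061)) (.node (.leaf 2757) (.leaf 7365))))) (.node (.node (.node (.node (.leaf 293) (.leaf 4901)) (.node (.leaf 2597) (.leaf 7205))) (.node (.node (.leaf 421) (.leaf 5029)) (.node (.leaf 2725) (.leaf 7333)))) (.node (.node (.node (.leaf 357) (.leaf 4965))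 (.node (.leaf 2661) (.leaf 7269))) (.node (.node (.leaf 485) (.leaf 5093)) (.node (.leaf 2789) (.leaf 7397)))))) (.node (.node (.node (.node (.node (.leaf 277) (.leaf 4885)) (.node (.leaf 2581) (.leaf 7189))) (.node (.node (.leaf 405) (.leaf 5013)) (.node (.leaf 2709) (.leaf 7317)))) (.node (.node (.node (.leaf 341) (.leaf 4949)) (.node (.leaf 2645) (.leaf 7253))) (.node (.node (.leaf 469) (.leaf 5077)) (.node (.leaf 2773) (.leaf 7381))))) (.node (.node (.node (.node (.leaf 309) (.leaf 4917)) (.node (.leaf 2613) (.leaf 7221))) (.node (.node (.leaf 437) (.leaf 5045)) (.node (.leaf 2741) (.leaf 7349)))) (.node (.node (.node (.leaf 373) (.leaf 4981)) (.node (.leaf 2677) (.leaf 7285))) (.node (.node (.leaf 501) (.leaf 5109)) (.node (.leaf 2805) (.leaf 7413)))))))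

/-- Part of a collection table. -/
def tblM24_8_6 : Trie := (.node (.node (.node (.node (.node (.node (.leaf 262) (.leaf 4870)) (.node (.leaf 2566) (.leaf 7174))) (.node (.node (.leaf 390) (.leaf 4998)) (.node (.leaf 2694) (.leaf 7302)))) (.node (.node (.node (.leaf 326) (.leaf 4934)) (.node (.leaf 2630) (.leaf 7238))) (.node (.node (.leaf 454) (.leaf 5062)) (.node (.leaf 2758) (.leaf 7366))))) (.node (.node (.node (.node (.leaf 294) (.leaf 4902)) (.node (.leaf 2598) (.leaf 7206))) (.node (.node (.leaf 422) (.leaf 5030)) (.node (.leaf 2726) (.leaf 7334)))) (.node (.node (.node (.leaf 358) (.leaf 4966)) (.node (.leaf 2662) (.leaf 7270))) (.node (.node (.leaf 486) (.leaf 5094)) (.node (.leaf 2790) (.leaf 7398)))))) (.node (.node (.node (.node (.node (.leaf 278) (.leaf 4886)) (.node (.leaf 2582) (.leaf 7190))) (.node (.node (.leaf 406) (.leaf 5014)) (.node (.leaf 2710) (.leaf 7318)))) (.node (.node (.node (.leaf 342) (.leaf 4950)) (.node (.leaf 2646) (.leaf 7254))) (.node (.node (.leaf 470) (.leaf 5078)) (.node (.leaf 2774) (.leaf 7382))))) (.node (.node (.node (.node (.leaf 310) (.leaf 4918)) (.node (.leaf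 2614) (.leaf 7222))) (.node (.node (.leaf 438) (.leaf 5046)) (.node (.leaf 2742) (.leaf 7350)))) (.node (.node (.node (.leaf 374) (.leaf 4982)) (.node (.leaf 2678) (.leaf 7286))) (.node (.node (.leaf 502) (.leaf 5110)) (.node (.leaf 2806) (.leaf 7414)))))))

/-- Part of a collection table. -/
def tblM24_8_7 : Trie := (.node (.node (.node (.node (.node (.node (.leaf 263) (.leaf 4871)) (.node (.leaf 2567) (.leaf 7175))) (.node (.node (.leaf 391) (.leaf 4999)) (.node (.leaf 2695) (.leaf 7303)))) (.node (.node (.node (.leaf 327) (.leaf 4935)) (.node (.leaf 2631) (.leaf 7239))) (.node (.node (.leaf 455) (.leaf 5063)) (.node (.leaf 2759) (.leaf 7367))))) (.node (.node (.node (.node (.leaf 295) (.leaf 4903)) (.node (.leaf 2599) (.leaf 7207))) (.node (.node (.leaf 423) (.leaf 5031)) (.node (.leaf 2727) (.leaf 7335)))) (.node (.node (.node (.leaf 359) (.leaf 4967)) (.node (.leaf 2663) (.leaf 7271))) (.node (.node (.leaf 487) (.leaf 5095)) (.node (.leaf 2791) (.leaf 7399)))))) (.node (.node (.node (.node (.node (.leaf 279) (.leaf 4887)) (.node (.leaf 2583) (.leaf 7191))) (.node (.node (.leaf 407) (.leaf 5015)) (.node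 (.leaf 2711) (.leaf 7319)))) (.node (.node (.node (.leaf 343) (.leaf 4951)) (.node (.leaf 2647) (.leaf 7255))) (.node (.node (.leaf 471) (.leaf 5079)) (.node (.leaf 2775) (.leaf 7383))))) (.node (.node (.node (.node (.leaf 311) (.leaf 4919)) (.node (.leaf 2615) (.leaf 7223))) (.node (.node (.leaf 439) (.leaf 5047)) (.node (.leaf 2743) (.leaf 7351)))) (.node (.node (.node (.leaf 375) (.leaf 4983)) (.node (.leaf 2679) (.leaf 7287))) (.node (.node (.leaf 503) (.leaf 5111)) (.node (.leaf 2807) (.leaf 7415)))))))

/-- Part of a collection table. -/
def tblM24_8_8 : Trie := (.node (.node (.node (.node (.node (.node (.leaf 264) (.leaf 4872)) (.node (.leaf 2568) (.leaf 7176))) (.node (.node (.leaf 392) (.leaf 5000)) (.node (.leaf 2696) (.leaf 7304)))) (.node (.node (.node (.leaf 328) (.leaf 4936)) (.node (.leaf 2632) (.leaf 7240))) (.node (.node (.leaf 456) (.leaf 5064)) (.node (.leaf 2760) (.leaf 7368))))) (.node (.node (.node (.node (.leaf 296) (.leaf 4904)) (.node (.leaf 2600) (.leaf 7208))) (.node (.node (.leaf 424) (.leaf 5032)) (.node (.leaf 2728) (.leaf 7336)))) (.node (.node (.node (.leaf 360) (.leaf 4968))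 (.node (.leaf 2664) (.leaf 7272))) (.node (.node (.leaf 488) (.leaf 5096)) (.node (.leaf 2792) (.leaf 7400)))))) (.node (.node (.node (.node (.node (.leaf 280) (.leaf 4888)) (.node (.leaf 2584) (.leaf 7192))) (.node (.node (.leaf 408) (.leaf 5016)) (.node (.leaf 2712) (.leaf 7320)))) (.node (.node (.node (.leaf 344) (.leaf 4952)) (.node (.leaf 2648) (.leaf 7256))) (.node (.node (.leaf 472) (.leaf 5080)) (.node (.leaf 2776) (.leaf 7384))))) (.node (.node (.node (.node (.leaf 312) (.leaf 4920)) (.node (.leaf 2616) (.leaf 7224))) (.node (.node (.leaf 440) (.leaf 5048)) (.node (.leaf 2744) (.leaf 7352)))) (.node (.node (.node (.leaf 376) (.leaf 4984)) (.node (.leaf 2680) (.leaf 7288))) (.node (.node (.leaf 504) (.leaf 5112)) (.node (.leaf 2808) (.leaf 7416)))))))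

/-- Part of a collection table. -/
def tblM24_8_9 : Trie := (.node (.node (.node (.node (.node (.node (.leaf 265) (.leaf 4873)) (.node (.leaf 2569) (.leaf 7177))) (.node (.node (.leaf 393) (.leaf 5001)) (.node (.leaf 2697) (.leaf 7305)))) (.node (.node (.node (.leaf 329) (.leaf 4937)) (.node (.leaf 2633) (.leaf 7241))) (.node (.node (.leaf 457) (.leaf 5065)) (.node (.leaf 2761) (.leaf 7369))))) (.node (.node (.node (.node (.leaf 297) (.leaf 4905)) (.node (.leaf 2601) (.leaf 7209))) (.node (.node (.leaf 425) (.leaf 5033)) (.node (.leaf 2729) (.leaf 7337)))) (.node (.node (.node (.leaf 361) (.leaf 4969)) (.node (.leaf 2665) (.leaf 7273))) (.node (.node (.leaf 489) (.leaf 5097)) (.node (.leaf 2793) (.leaf 7401)))))) (.node (.node (.node (.node (.node (.leaf 281) (.leaf 4889)) (.node (.leaf 2585) (.leaf 7193))) (.node (.node (.leaf 409) (.leaf 5017)) (.node (.leaf 2713) (.leaf 7321)))) (.node (.node (.node (.leaf 345) (.leaf 4953)) (.node (.leaf 2649) (.leaf 7257))) (.node (.node (.leaf 473) (.leaf 5081)) (.node (.leaf 2777) (.leaf 7385))))) (.node (.node (.node (.node (.leaf 313) (.leaf 4921)) (.node (.leaf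 2617) (.leaf 7225))) (.node (.node (.leaf 441) (.leaf 5049)) (.node (.leaf 2745) (.leaf 7353)))) (.node (.node (.node (.leaf 377) (.leaf 4985)) (.node (.leaf 2681) (.leaf 7289))) (.node (.node (.leaf 505) (.leaf 5113)) (.node (.leaf 2809) (.leaf 7417)))))))

/-- Part of a collection table. -/
def tblM24_8_10 : Trie := (.node (.node (.node (.node (.node (.node (.leaf 266) (.leaf 4874)) (.node (.leaf 2570) (.leaf 7178))) (.node (.node (.leaf 394) (.leaf 5002)) (.node (.leaf 2698) (.leaf 7306)))) (.node (.node (.node (.leaf 330) (.leaf 4938)) (.node (.leaf 2634) (.leaf 7242))) (.node (.node (.leaf 458) (.leaf 5066)) (.node (.leaf 2762) (.leaf 7370))))) (.node (.node (.node (.node (.leaf 298) (.leaf 4906)) (.node (.leaf 2602) (.leaf 7210))) (.node (.node (.leaf 426) (.leaf 5034)) (.node (.leaf 2730) (.leaf 7338)))) (.node (.node (.node (.leaf 362) (.leaf 4970)) (.node (.leaf 2666) (.leaf 7274))) (.node (.node (.leaf 490) (.leaf 5098)) (.node (.leaf 2794) (.leaf 7402)))))) (.node (.node (.node (.node (.node (.leaf 282) (.leaf 4890)) (.node (.leaf 2586) (.leaf 7194))) (.node (.node (.leaf 410) (.leaf 5018)) (.node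 (.leaf 2714) (.leaf 7322)))) (.node (.node (.node (.leaf 346) (.leaf 4954)) (.node (.leaf 2650) (.leaf 7258))) (.node (.node (.leaf 474) (.leaf 5082)) (.node (.leaf 2778) (.leaf 7386))))) (.node (.node (.node (.node (.leaf 314) (.leaf 4922)) (.node (.leaf 2618) (.leaf 7226))) (.node (.node (.leaf 442) (.leaf 5050)) (.node (.leaf 2746) (.leaf 7354)))) (.node (.node (.node (.leaf 378) (.leaf 4986)) (.node (.leaf 2682) (.leaf 7290))) (.node (.node (.leaf 506) (.leaf 5114)) (.node (.leaf 2810) (.leaf 7418)))))))

/-- Part of a collection table. -/
def tblM24_8_11 : Trie := (.node (.node (.node (.node (.node (.node (.leaf 267) (.leaf 4875)) (.node (.leaf 2571) (.leaf 7179))) (.node (.node (.leaf 395) (.leaf 5003)) (.node (.leaf 2699) (.leaf 7307)))) (.node (.node (.node (.leaf 331) (.leaf 4939)) (.node (.leaf 2635) (.leaf 7243))) (.node (.node (.leaf 459) (.leaf 5067)) (.node (.leaf 2763) (.leaf 7371))))) (.node (.node (.node (.node (.leaf 299) (.leaf 4907)) (.node (.leaf 2603) (.leaf 7211))) (.node (.node (.leaf 427) (.leaf 5035)) (.node (.leaf 2731) (.leaf 7339)))) (.node (.node (.node (.leaf 363) (.leaf 4971))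 (.node (.leaf 2667) (.leaf 7275))) (.node (.node (.leaf 491) (.leaf 5099)) (.node (.leaf 2795) (.leaf 7403)))))) (.node (.node (.node (.node (.node (.leaf 283) (.leaf 4891)) (.node (.leaf 2587) (.leaf 7195))) (.node (.node (.leaf 411) (.leaf 5019)) (.node (.leaf 2715) (.leaf 7323)))) (.node (.node (.node (.leaf 347) (.leaf 4955)) (.node (.leaf 2651) (.leaf 7259))) (.node (.node (.leaf 475) (.leaf 5083)) (.node (.leaf 2779) (.leaf 7387))))) (.node (.node (.node (.node (.leaf 315) (.leaf 4923)) (.node (.leaf 2619) (.leaf 7227))) (.node (.node (.leaf 443) (.leaf 5051)) (.node (.leaf 2747) (.leaf 7355)))) (.node (.node (.node (.leaf 379) (.leaf 4987)) (.node (.leaf 2683) (.leaf 7291))) (.node (.node (.leaf 507) (.leaf 5115)) (.node (.leaf 2811) (.leaf 7419)))))))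

/-- Part of a collection table. -/
def tblM24_8_12 : Trie := (.node (.node (.node (.node (.node (.node (.leaf 268) (.leaf 4876)) (.node (.leaf 2572) (.leaf 7180))) (.node (.node (.leaf 396) (.leaf 5004)) (.node (.leaf 2700) (.leaf 7308)))) (.node (.node (.node (.leaf 332) (.leaf 4940)) (.node (.leaf 2636) (.leaf 7244))) (.node (.node (.leaf 460) (.leaf 5068)) (.node (.leaf 2764) (.leaf 7372))))) (.node (.node (.node (.node (.leaf 300) (.leaf 4908)) (.node (.leaf 2604) (.leaf 7212))) (.node (.node (.leaf 428) (.leaf 5036)) (.node (.leaf 2732) (.leaf 7340)))) (.node (.node (.node (.leaf 364) (.leaf 4972)) (.node (.leaf 2668) (.leaf 7276))) (.node (.node (.leaf 492) (.leaf 5100)) (.node (.leaf 2796) (.leaf 7404)))))) (.node (.node (.node (.node (.node (.leaf 284) (.leaf 4892)) (.node (.leaf 2588) (.leaf 7196))) (.node (.node (.leaf 412) (.leaf 5020)) (.node (.leaf 2716) (.leaf 7324)))) (.node (.node (.node (.leaf 348) (.leaf 4956)) (.node (.leaf 2652) (.leaf 7260))) (.node (.node (.leaf 476) (.leaf 5084)) (.node (.leaf 2780) (.leaf 7388))))) (.node (.node (.node (.node (.leaf 316) (.leaf 4924)) (.node (.leaf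 2620) (.leaf 7228))) (.node (.node (.leaf 444) (.leaf 5052)) (.node (.leaf 2748) (.leaf 7356)))) (.node (.node (.node (.leaf 380) (.leaf 4988)) (.node (.leaf 2684) (.leaf 7292))) (.node (.node (.leaf 508) (.leaf 5116)) (.node (.leaf 2812) (.leaf 7420)))))))

/-- Part of a collection table. -/
def tblM24_8_13 : Trie := (.node (.node (.node (.node (.node (.node (.leaf 269) (.leaf 4877)) (.node (.leaf 2573) (.leaf 7181))) (.node (.node (.leaf 397) (.leaf 5005)) (.node (.leaf 2701) (.leaf 7309)))) (.node (.node (.node (.leaf 333) (.leaf 4941)) (.node (.leaf 2637) (.leaf 7245))) (.node (.node (.leaf 461) (.leaf 5069)) (.node (.leaf 2765) (.leaf 7373))))) (.node (.node (.node (.node (.leaf 301) (.leaf 4909)) (.node (.leaf 2605) (.leaf 7213))) (.node (.node (.leaf 429) (.leaf 5037)) (.node (.leaf 2733) (.leaf 7341)))) (.node (.node (.node (.leaf 365) (.leaf 4973)) (.node (.leaf 2669) (.leaf 7277))) (.node (.node (.leaf 493) (.leaf 5101)) (.node (.leaf 2797) (.leaf 7405)))))) (.node (.node (.node (.node (.node (.leaf 285) (.leaf 4893)) (.node (.leaf 2589) (.leaf 7197))) (.node (.node (.leaf 413) (.leaf 5021)) (.node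 (.leaf 2717) (.leaf 7325)))) (.node (.node (.node (.leaf 349) (.leaf 4957)) (.node (.leaf 2653) (.leaf 7261))) (.node (.node (.leaf 477) (.leaf 5085)) (.node (.leaf 2781) (.leaf 7389))))) (.node (.node (.node (.node (.leaf 317) (.leaf 4925)) (.node (.leaf 2621) (.leaf 7229))) (.node (.node (.leaf 445) (.leaf 5053)) (.node (.leaf 2749) (.leaf 7357)))) (.node (.node (.node (.leaf 381) (.leaf 4989)) (.node (.leaf 2685) (.leaf 7293))) (.node (.node (.leaf 509) (.leaf 5117)) (.node (.leaf 2813) (.leaf 7421)))))))

/-- Part of a collection table. -/
def tblM24_8_14 : Trie := (.node (.node (.node (.node (.node (.node (.leaf 270) (.leaf 4878)) (.node (.leaf 2574) (.leaf 7182))) (.node (.node (.leaf 398) (.leaf 5006)) (.node (.leaf 2702) (.leaf 7310)))) (.node (.node (.node (.leaf 334) (.leaf 4942)) (.node (.leaf 2638) (.leaf 7246))) (.node (.node (.leaf 462) (.leaf 5070)) (.node (.leaf 2766) (.leaf 7374))))) (.node (.node (.node (.node (.leaf 302) (.leaf 4910)) (.node (.leaf 2606) (.leaf 7214))) (.node (.node (.leaf 430) (.leaf 5038)) (.node (.leaf 2734) (.leaf 7342)))) (.node (.node (.node (.leaf 366) (.leaf 4974))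 (.node (.leaf 2670) (.leaf 7278))) (.node (.node (.leaf 494) (.leaf 5102)) (.node (.leaf 2798) (.leaf 7406)))))) (.node (.node (.node (.node (.node (.leaf 286) (.leaf 4894)) (.node (.leaf 2590) (.leaf 7198))) (.node (.node (.leaf 414) (.leaf 5022)) (.node (.leaf 2718) (.leaf 7326)))) (.node (.node (.node (.leaf 350) (.leaf 4958)) (.node (.leaf 2654) (.leaf 7262))) (.node (.node (.leaf 478) (.leaf 5086)) (.node (.leaf 2782) (.leaf 7390))))) (.node (.node (.node (.node (.leaf 318) (.leaf 4926)) (.node (.leaf 2622) (.leaf 7230))) (.node (.node (.leaf 446) (.leaf 5054)) (.node (.leaf 2750) (.leaf 7358)))) (.node (.node (.node (.leaf 382) (.leaf 4990)) (.node (.leaf 2686) (.leaf 7294))) (.node (.node (.leaf 510) (.leaf 5118)) (.node (.leaf 2814) (.leaf 7422)))))))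

/-- Part of a collection table. -/
def tblM24_8_15 : Trie := (.node (.node (.node (.node (.node (.node (.leaf 271) (.leaf 4879)) (.node (.leaf 2575) (.leaf 7183))) (.node (.node (.leaf 399) (.leaf 5007)) (.node (.leaf 2703) (.leaf 7311)))) (.node (.node (.node (.leaf 335) (.leaf 4943)) (.node (.leaf 2639) (.leaf 7247))) (.node (.node (.leaf 463) (.leaf 5071)) (.node (.leaf 2767) (.leaf 7375))))) (.node (.node (.node (.node (.leaf 303) (.leaf 4911)) (.node (.leaf 2607) (.leaf 7215))) (.node (.node (.leaf 431) (.leaf 5039)) (.node (.leaf 2735) (.leaf 7343)))) (.node (.node (.node (.leaf 367) (.leaf 4975)) (.node (.leaf 2671) (.leaf 7279))) (.node (.node (.leaf 495) (.leaf 5103)) (.node (.leaf 2799) (.leaf 7407)))))) (.node (.node (.node (.node (.node (.leaf 287) (.leaf 4895)) (.node (.leaf 2591) (.leaf 7199))) (.node (.node (.leaf 415) (.leaf 5023)) (.node (.leaf 2719) (.leaf 7327)))) (.node (.node (.node (.leaf 351) (.leaf 4959)) (.node (.leaf 2655) (.leaf 7263))) (.node (.node (.leaf 479) (.leaf 5087)) (.node (.leaf 2783) (.leaf 7391))))) (.node (.node (.node (.node (.leaf 319) (.leaf 4927)) (.node (.leaf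 2623) (.leaf 7231))) (.node (.node (.leaf 447) (.leaf 5055)) (.node (.leaf 2751) (.leaf 7359)))) (.node (.node (.node (.leaf 383) (.leaf 4991)) (.node (.leaf 2687) (.leaf 7295))) (.node (.node (.leaf 511) (.leaf 5119)) (.node (.leaf 2815) (.leaf 7423)))))))

/-- Part of a collection table. -/
def tblM24_9_0 : Trie := (.node (.node (.node (.node (.node (.node (.leaf 512) (.leaf 1024)) (.node (.leaf 768) (.leaf 1280))) (.node (.node (.leaf 640) (.leaf 1152)) (.node (.leaf 896) (.leaf 1408)))) (.node (.node (.node (.leaf 576) (.leaf 1088)) (.node (.leaf 832) (.leaf 1344))) (.node (.node (.leaf 704) (.leaf 1216)) (.node (.leaf 960) (.leaf 1472))))) (.node (.node (.node (.node (.leaf 544) (.leaf 1056)) (.node (.leaf 800) (.leaf 1312))) (.node (.node (.leaf 672) (.leaf 1184)) (.node (.leaf 928) (.leaf 1440)))) (.node (.node (.node (.leaf 608) (.leaf 1120)) (.node (.leaf 864) (.leaf 1376))) (.node (.node (.leaf 736) (.leaf 1248)) (.node (.leaf 992) (.leaf 1504)))))) (.node (.node (.node (.node (.node (.leaf 528) (.leaf 1040)) (.node (.leaf 784) (.leaf 1296))) (.node (.node (.leaf 656) (.leaf 1168)) (.node (.leaf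 912) (.leaf 1424)))) (.node (.node (.node (.leaf 592) (.leaf 1104)) (.node (.leaf 848) (.leaf 1360))) (.node (.node (.leaf 720) (.leaf 1232)) (.node (.leaf 976) (.leaf 1488))))) (.node (.node (.node (.node (.leaf 560) (.leaf 1072)) (.node (.leaf 816) (.leaf 1328))) (.node (.node (.leaf 688) (.leaf 1200)) (.node (.leaf 944) (.leaf 1456)))) (.node (.node (.node (.leaf 624) (.leaf 1136)) (.node (.leaf 880) (.leaf 1392))) (.node (.node (.leaf 752) (.leaf 1264)) (.node (.leaf 1008) (.leaf 1520)))))))

/-- Part of a collection table. -/
def tblM24_9_1 : Trie := (.node (.node (.node (.node (.node (.node (.leaf 513) (.leaf 1025)) (.node (.leaf 769) (.leaf 1281))) (.node (.node (.leaf 641) (.leaf 1153)) (.node (.leaf 897) (.leaf 1409)))) (.node (.node (.node (.leaf 577) (.leaf 1089)) (.node (.leaf 833) (.leaf 1345))) (.node (.node (.leaf 705) (.leaf 1217)) (.node (.leaf 961) (.leaf 1473))))) (.node (.node (.node (.node (.leaf 545) (.leaf 1057)) (.node (.leaf 801) (.leaf 1313))) (.node (.node (.leaf 673) (.leaf 1185)) (.node (.leaf 929) (.leaf 1441)))) (.node (.node (.node (.leaf 609) (.leaf 1121)) (.node (.leaf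 865) (.leaf 1377))) (.node (.node (.leaf 737) (.leaf 1249)) (.node (.leaf 993) (.leaf 1505)))))) (.node (.node (.node (.node (.node (.leaf 529) (.leaf 1041)) (.node (.leaf 785) (.leaf 1297))) (.node (.node (.leaf 657) (.leaf 1169)) (.node (.leaf 913) (.leaf 1425)))) (.node (.node (.node (.leaf 593) (.leaf 1105)) (.node (.leaf 849) (.leaf 1361))) (.node (.node (.leaf 721) (.leaf 1233)) (.node (.leaf 977) (.leaf 1489))))) (.node (.node (.node (.node (.leaf 561) (.leaf 1073)) (.node (.leaf 817) (.leaf 1329))) (.node (.node (.leaf 689) (.leaf 1201)) (.node (.leaf 945) (.leaf 1457)))) (.node (.node (.node (.leaf 625) (.leaf 1137)) (.node (.leaf 881) (.leaf 1393))) (.node (.node (.leaf 753) (.leaf 1265)) (.node (.leaf 1009) (.leaf 1521)))))))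

/-- Part of a collection table. -/
def tblM24_9_2 : Trie := (.node (.node (.node (.node (.node (.node (.leaf 514) (.leaf 1026)) (.node (.leaf 770) (.leaf 1282))) (.node (.node (.leaf 642) (.leaf 1154)) (.node (.leaf 898) (.leaf 1410)))) (.node (.node (.node (.leaf 578) (.leaf 1090)) (.node (.leaf 834) (.leaf 1346))) (.node (.node (.leaf 706) (.leaf 1218)) (.node (.leaf 962) (.leaf 1474))))) (.node (.node (.node (.node (.leaf 546) (.leaf 1058)) (.node (.leaf 802) (.leaf 1314))) (.node (.node (.leaf 674) (.leaf 1186)) (.node (.leaf 930) (.leaf 1442)))) (.node (.node (.node (.leaf 610) (.leaf 1122)) (.node (.leaf 866) (.leaf 1378))) (.node (.node (.leaf 738) (.leaf 1250)) (.node (.leaf 994) (.leaf 1506)))))) (.node (.node (.node (.node (.node (.leaf 530) (.leaf 1042)) (.node (.leaf 786) (.leaf 1298))) (.node (.node (.leaf 658) (.leaf 1170)) (.node (.leaf 914) (.leaf 1426)))) (.node (.node (.node (.leaf 594) (.leaf 1106)) (.node (.leaf 850) (.leaf 1362))) (.node (.node (.leaf 722) (.leaf 1234)) (.node (.leaf 978) (.leaf 1490))))) (.node (.node (.node (.node (.leaf 562) (.leaf 1074)) (.node (.leaf 818) (.leaf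 1330))) (.node (.node (.leaf 690) (.leaf 1202)) (.node (.leaf 946) (.leaf 1458)))) (.node (.node (.node (.leaf 626) (.leaf 1138)) (.node (.leaf 882) (.leaf 1394))) (.node (.node (.leaf 754) (.leaf 1266)) (.node (.leaf 1010) (.leaf 1522)))))))

/-- Part of a collection table. -/
def tblM24_9_3 : Trie := (.node (.node (.node (.node (.node (.node (.leaf 515) (.leaf 1027)) (.node (.leaf 771) (.leaf 1283))) (.node (.node (.leaf 643) (.leaf 1155)) (.node (.leaf 899) (.leaf 1411)))) (.node (.node (.node (.leaf 579) (.leaf 1091)) (.node (.leaf 835) (.leaf 1347))) (.node (.node (.leaf 707) (.leaf 1219)) (.node (.leaf 963) (.leaf 1475))))) (.node (.node (.node (.node (.leaf 547) (.leaf 1059)) (.node (.leaf 803) (.leaf 1315))) (.node (.node (.leaf 675) (.leaf 1187)) (.node (.leaf 931) (.leaf 1443)))) (.node (.node (.node (.leaf 611) (.leaf 1123)) (.node (.leaf 867) (.leaf 1379))) (.node (.node (.leaf 739) (.leaf 1251)) (.node (.leaf 995) (.leaf 1507)))))) (.node (.node (.node (.node (.node (.leaf 531) (.leaf 1043)) (.node (.leaf 787) (.leaf 1299))) (.node (.node (.leaf 659) (.leaf 1171)) (.node (.leaf 915) (.leaf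 1427)))) (.node (.node (.node (.leaf 595) (.leaf 1107)) (.node (.leaf 851) (.leaf 1363))) (.node (.node (.leaf 723) (.leaf 1235)) (.node (.leaf 979) (.leaf 1491))))) (.node (.node (.node (.node (.leaf 563) (.leaf 1075)) (.node (.leaf 819) (.leaf 1331))) (.node (.node (.leaf 691) (.leaf 1203)) (.node (.leaf 947) (.leaf 1459)))) (.node (.node (.node (.leaf 627) (.leaf 1139)) (.node (.leaf 883) (.leaf 1395))) (.node (.node (.leaf 755) (.leaf 1267)) (.node (.leaf 1011) (.leaf 1523)))))))

/-- Part of a collection table. -/
def tblM24_9_4 : Trie := (.node (.node (.node (.node (.node (.node (.leaf 516) (.leaf 1028)) (.node (.leaf 772) (.leaf 1284))) (.node (.node (.leaf 644) (.leaf 1156)) (.node (.leaf 900) (.leaf 1412)))) (.node (.node (.node (.leaf 580) (.leaf 1092)) (.node (.leaf 836) (.leaf 1348))) (.node (.node (.leaf 708) (.leaf 1220)) (.node (.leaf 964) (.leaf 1476))))) (.node (.node (.node (.node (.leaf 548) (.leaf 1060)) (.node (.leaf 804) (.leaf 1316))) (.node (.node (.leaf 676) (.leaf 1188)) (.node (.leaf 932) (.leaf 1444)))) (.node (.node (.node (.leaf 612) (.leaf 1124)) (.node (.leaf 868) (.leaf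 1380))) (.node (.node (.leaf 740) (.leaf 1252)) (.node (.leaf 996) (.leaf 1508)))))) (.node (.node (.node (.node (.node (.leaf 532) (.leaf 1044)) (.node (.leaf 788) (.leaf 1300))) (.node (.node (.leaf 660) (.leaf 1172)) (.node (.leaf 916) (.leaf 1428)))) (.node (.node (.node (.leaf 596) (.leaf 1108)) (.node (.leaf 852) (.leaf 1364))) (.node (.node (.leaf 724) (.leaf 1236)) (.node (.leaf 980) (.leaf 1492))))) (.node (.node (.node (.node (.leaf 564) (.leaf 1076)) (.node (.leaf 820) (.leaf 1332))) (.node (.node (.leaf 692) (.leaf 1204)) (.node (.leaf 948) (.leaf 1460)))) (.node (.node (.node (.leaf 628) (.leaf 1140)) (.node (.leaf 884) (.leaf 1396))) (.node (.node (.leaf 756) (.leaf 1268)) (.node (.leaf 1012) (.leaf 1524)))))))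

/-- Part of a collection table. -/
def tblM24_9_5 : Trie := (.node (.node (.node (.node (.node (.node (.leaf 517) (.leaf 1029)) (.node (.leaf 773) (.leaf 1285))) (.node (.node (.leaf 645) (.leaf 1157)) (.node (.leaf 901) (.leaf 1413)))) (.node (.node (.node (.leaf 581) (.leaf 1093)) (.node (.leaf 837) (.leaf 1349))) (.node (.node (.leaf 709) (.leaf 1221)) (.node (.leaf 965) (.leaf 1477))))) (.node (.node (.node (.node (.leaf 549) (.leaf 1061)) (.node (.leaf 805) (.leaf 1317))) (.node (.node (.leaf 677) (.leaf 1189)) (.node (.leaf 933) (.leaf 1445)))) (.node (.node (.node (.leaf 613) (.leaf 1125)) (.node (.leaf 869) (.leaf 1381))) (.node (.node (.leaf 741) (.leaf 1253)) (.node (.leaf 997) (.leaf 1509)))))) (.node (.node (.node (.node (.node (.leaf 533) (.leaf 1045)) (.node (.leaf 789) (.leaf 1301))) (.node (.node (.leaf 661) (.leaf 1173)) (.node (.leaf 917) (.leaf 1429)))) (.node (.node (.node (.leaf 597) (.leaf 1109)) (.node (.leaf 853) (.leaf 1365))) (.node (.node (.leaf 725) (.leaf 1237)) (.node (.leaf 981) (.leaf 1493))))) (.node (.node (.node (.node (.leaf 565) (.leaf 1077)) (.node (.leaf 821) (.leaf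 1333))) (.node (.node (.leaf 693) (.leaf 1205)) (.node (.leaf 949) (.leaf 1461)))) (.node (.node (.node (.leaf 629) (.leaf 1141)) (.node (.leaf 885) (.leaf 1397))) (.node (.node (.leaf 757) (.leaf 1269)) (.node (.leaf 1013) (.leaf 1525)))))))

/-- Part of a collection table. -/
def tblM24_9_6 : Trie := (.node (.node (.node (.node (.node (.node (.leaf 518) (.leaf 1030)) (.node (.leaf 774) (.leaf 1286))) (.node (.node (.leaf 646) (.leaf 1158)) (.node (.leaf 902) (.leaf 1414)))) (.node (.node (.node (.leaf 582) (.leaf 1094)) (.node (.leaf 838) (.leaf 1350))) (.node (.node (.leaf 710) (.leaf 1222)) (.node (.leaf 966) (.leaf 1478))))) (.node (.node (.node (.node (.leaf 550) (.leaf 1062)) (.node (.leaf 806) (.leaf 1318))) (.node (.node (.leaf 678) (.leaf 1190)) (.node (.leaf 934) (.leaf 1446)))) (.node (.node (.node (.leaf 614) (.leaf 1126)) (.node (.leaf 870) (.leaf 1382))) (.node (.node (.leaf 742) (.leaf 1254)) (.node (.leaf 998) (.leaf 1510)))))) (.node (.node (.node (.node (.node (.leaf 534) (.leaf 1046)) (.node (.leaf 790) (.leaf 1302))) (.node (.node (.leaf 662) (.leaf 1174)) (.node (.leaf 918) (.leaf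 1430)))) (.node (.node (.node (.leaf 598) (.leaf 1110)) (.node (.leaf 854) (.leaf 1366))) (.node (.node (.leaf 726) (.leaf 1238)) (.node (.leaf 982) (.leaf 1494))))) (.node (.node (.node (.node (.leaf 566) (.leaf 1078)) (.node (.leaf 822) (.leaf 1334))) (.node (.node (.leaf 694) (.leaf 1206)) (.node (.leaf 950) (.leaf 1462)))) (.node (.node (.node (.leaf 630) (.leaf 1142)) (.node (.leaf 886) (.leaf 1398))) (.node (.node (.leaf 758) (.leaf 1270)) (.node (.leaf 1014) (.leaf 1526)))))))

/-- Part of a collection table. -/
def tblM24_9_7 : Trie := (.node (.node (.node (.node (.node (.node (.leaf 519) (.leaf 1031)) (.node (.leaf 775) (.leaf 1287))) (.node (.node (.leaf 647) (.leaf 1159)) (.node (.leaf 903) (.leaf 1415)))) (.node (.node (.node (.leaf 583) (.leaf 1095)) (.node (.leaf 839) (.leaf 1351))) (.node (.node (.leaf 711) (.leaf 1223)) (.node (.leaf 967) (.leaf 1479))))) (.node (.node (.node (.node (.leaf 551) (.leaf 1063)) (.node (.leaf 807) (.leaf 1319))) (.node (.node (.leaf 679) (.leaf 1191)) (.node (.leaf 935) (.leaf 1447)))) (.node (.node (.node (.leaf 615) (.leaf 1127)) (.node (.leaf 871) (.leaf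 1383))) (.node (.node (.leaf 743) (.leaf 1255)) (.node (.leaf 999) (.leaf 1511)))))) (.node (.node (.node (.node (.node (.leaf 535) (.leaf 1047)) (.node (.leaf 791) (.leaf 1303))) (.node (.node (.leaf 663) (.leaf 1175)) (.node (.leaf 919) (.leaf 1431)))) (.node (.node (.node (.leaf 599) (.leaf 1111)) (.node (.leaf 855) (.leaf 1367))) (.node (.node (.leaf 727) (.leaf 1239)) (.node (.leaf 983) (.leaf 1495))))) (.node (.node (.node (.node (.leaf 567) (.leaf 1079)) (.node (.leaf 823) (.leaf 1335))) (.node (.node (.leaf 695) (.leaf 1207)) (.node (.leaf 951) (.leaf 1463)))) (.node (.node (.node (.leaf 631) (.leaf 1143)) (.node (.leaf 887) (.leaf 1399))) (.node (.node (.leaf 759) (.leaf 1271)) (.node (.leaf 1015) (.leaf 1527)))))))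

/-- Part of a collection table. -/
def tblM24_9_8 : Trie := (.node (.node (.node (.node (.node (.node (.leaf 520) (.leaf 1032)) (.node (.leaf 776) (.leaf 1288))) (.node (.node (.leaf 648) (.leaf 1160)) (.node (.leaf 904) (.leaf 1416)))) (.node (.node (.node (.leaf 584) (.leaf 1096)) (.node (.leaf 840) (.leaf 1352))) (.node (.node (.leaf 712) (.leaf 1224)) (.node (.leaf 968) (.leaf 1480))))) (.node (.node (.node (.node (.leaf 552) (.leaf 1064)) (.node (.leaf 808) (.leaf 1320))) (.node (.node (.leaf 680) (.leaf 1192)) (.node (.leaf 936) (.leaf 1448)))) (.node (.node (.node (.leaf 616) (.leaf 1128)) (.node (.leaf 872) (.leaf 1384))) (.node (.node (.leaf 744) (.leaf 1256)) (.node (.leaf 1000) (.leaf 1512)))))) (.node (.node (.node (.node (.node (.leaf 536) (.leaf 1048)) (.node (.leaf 792) (.leaf 1304))) (.node (.node (.leaf 664) (.leaf 1176)) (.node (.leaf 920) (.leaf 1432)))) (.node (.node (.node (.leaf 600) (.leaf 1112)) (.node (.leaf 856) (.leaf 1368))) (.node (.node (.leaf 728) (.leaf 1240)) (.node (.leaf 984) (.leaf 1496))))) (.node (.node (.node (.node (.leaf 568) (.leaf 1080)) (.node (.leaf 824) (.leaf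 1336))) (.node (.node (.leaf 696) (.leaf 1208)) (.node (.leaf 952) (.leaf 1464)))) (.node (.node (.node (.leaf 632) (.leaf 1144)) (.node (.leaf 888) (.leaf 1400))) (.node (.node (.leaf 760) (.leaf 1272)) (.node (.leaf 1016) (.leaf 1528)))))))

/-- Part of a collection table. -/
def tblM24_9_9 : Trie := (.node (.node (.node (.node (.node (.node (.leaf 521) (.leaf 1033)) (.node (.leaf 777) (.leaf 1289))) (.node (.node (.leaf 649) (.leaf 1161)) (.node (.leaf 905) (.leaf 1417)))) (.node (.node (.node (.leaf 585) (.leaf 1097)) (.node (.leaf 841) (.leaf 1353))) (.node (.node (.leaf 713) (.leaf 1225)) (.node (.leaf 969) (.leaf 1481))))) (.node (.node (.node (.node (.leaf 553) (.leaf 1065)) (.node (.leaf 809) (.leaf 1321))) (.node (.node (.leaf 681) (.leaf 1193)) (.node (.leaf 937) (.leaf 1449)))) (.node (.node (.node (.leaf 617) (.leaf 1129)) (.node (.leaf 873) (.leaf 1385))) (.node (.node (.leaf 745) (.leaf 1257)) (.node (.leaf 1001) (.leaf 1513)))))) (.node (.node (.node (.node (.node (.leaf 537) (.leaf 1049)) (.node (.leaf 793) (.leaf 1305))) (.node (.node (.leaf 665) (.leaf 1177)) (.node (.leaf 921) (.leaf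 1433)))) (.node (.node (.node (.leaf 601) (.leaf 1113)) (.node (.leaf 857) (.leaf 1369))) (.node (.node (.leaf 729) (.leaf 1241)) (.node (.leaf 985) (.leaf 1497))))) (.node (.node (.node (.node (.leaf 569) (.leaf 1081)) (.node (.leaf 825) (.leaf 1337))) (.node (.node (.leaf 697) (.leaf 1209)) (.node (.leaf 953) (.leaf 1465)))) (.node (.node (.node (.leaf 633) (.leaf 1145)) (.node (.leaf 889) (.leaf 1401))) (.node (.node (.leaf 761) (.leaf 1273)) (.node (.leaf 1017) (.leaf 1529)))))))

/-- Part of a collection table. -/
def tblM24_9_10 : Trie := (.node (.node (.node (.node (.node (.node (.leaf 522) (.leaf 1034)) (.node (.leaf 778) (.leaf 1290))) (.node (.node (.leaf 650) (.leaf 1162)) (.node (.leaf 906) (.leaf 1418)))) (.node (.node (.node (.leaf 586) (.leaf 1098)) (.node (.leaf 842) (.leaf 1354))) (.node (.node (.leaf 714) (.leaf 1226)) (.node (.leaf 970) (.leaf 1482))))) (.node (.node (.node (.node (.leaf 554) (.leaf 1066)) (.node (.leaf 810) (.leaf 1322))) (.node (.node (.leaf 682) (.leaf 1194)) (.node (.leaf 938) (.leaf 1450)))) (.node (.node (.node (.leaf 618) (.leaf 1130)) (.node (.leaf 874) (.leaf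 1386))) (.node (.node (.leaf 746) (.leaf 1258)) (.node (.leaf 1002) (.leaf 1514)))))) (.node (.node (.node (.node (.node (.leaf 538) (.leaf 1050)) (.node (.leaf 794) (.leaf 1306))) (.node (.node (.leaf 666) (.leaf 1178)) (.node (.leaf 922) (.leaf 1434)))) (.node (.node (.node (.leaf 602) (.leaf 1114)) (.node (.leaf 858) (.leaf 1370))) (.node (.node (.leaf 730) (.leaf 1242)) (.node (.leaf 986) (.leaf 1498))))) (.node (.node (.node (.node (.leaf 570) (.leaf 1082)) (.node (.leaf 826) (.leaf 1338))) (.node (.node (.leaf 698) (.leaf 1210)) (.node (.leaf 954) (.leaf 1466)))) (.node (.node (.node (.leaf 634) (.leaf 1146)) (.node (.leaf 890) (.leaf 1402))) (.node (.node (.leaf 762) (.leaf 1274)) (.node (.leaf 1018) (.leaf 1530)))))))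

/-- Part of a collection table. -/
def tblM24_9_11 : Trie := (.node (.node (.node (.node (.node (.node (.leaf 523) (.leaf 1035)) (.node (.leaf 779) (.leaf 1291))) (.node (.node (.leaf 651) (.leaf 1163)) (.node (.leaf 907) (.leaf 1419)))) (.node (.node (.node (.leaf 587) (.leaf 1099)) (.node (.leaf 843) (.leaf 1355))) (.node (.node (.leaf 715) (.leaf 1227)) (.node (.leaf 971) (.leaf 1483))))) (.node (.node (.node (.node (.leaf 555) (.leaf 1067)) (.node (.leaf 811) (.leaf 1323))) (.node (.node (.leaf 683) (.leaf 1195)) (.node (.leaf 939) (.leaf 1451)))) (.node (.node (.node (.leaf 619) (.leaf 1131)) (.node (.leaf 875) (.leaf 1387))) (.node (.node (.leaf 747) (.leaf 1259)) (.node (.leaf 1003) (.leaf 1515)))))) (.node (.node (.node (.node (.node (.leaf 539) (.leaf 1051)) (.node (.leaf 795) (.leaf 1307))) (.node (.node (.leaf 667) (.leaf 1179)) (.node (.leaf 923) (.leaf 1435)))) (.node (.node (.node (.leaf 603) (.leaf 1115)) (.node (.leaf 859) (.leaf 1371))) (.node (.node (.leaf 731) (.leaf 1243)) (.node (.leaf 987) (.leaf 1499))))) (.node (.node (.node (.node (.leaf 571) (.leaf 1083)) (.node (.leaf 827) (.leaf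 1339))) (.node (.node (.leaf 699) (.leaf 1211)) (.node (.leaf 955) (.leaf 1467)))) (.node (.node (.node (.leaf 635) (.leaf 1147)) (.node (.leaf 891) (.leaf 1403))) (.node (.node (.leaf 763) (.leaf 1275)) (.node (.leaf 1019) (.leaf 1531)))))))

/-- Part of a collection table. -/
def tblM24_9_12 : Trie := (.node (.node (.node (.node (.node (.node (.leaf 524) (.leaf 1036)) (.node (.leaf 780) (.leaf 1292))) (.node (.node (.leaf 652) (.leaf 1164)) (.node (.leaf 908) (.leaf 1420)))) (.node (.node (.node (.leaf 588) (.leaf 1100)) (.node (.leaf 844) (.leaf 1356))) (.node (.node (.leaf 716) (.leaf 1228)) (.node (.leaf 972) (.leaf 1484))))) (.node (.node (.node (.node (.leaf 556) (.leaf 1068)) (.node (.leaf 812) (.leaf 1324))) (.node (.node (.leaf 684) (.leaf 1196)) (.node (.leaf 940) (.leaf 1452)))) (.node (.node (.node (.leaf 620) (.leaf 1132)) (.node (.leaf 876) (.leaf 1388))) (.node (.node (.leaf 748) (.leaf 1260)) (.node (.leaf 1004) (.leaf 1516)))))) (.node (.node (.node (.node (.node (.leaf 540) (.leaf 1052)) (.node (.leaf 796) (.leaf 1308))) (.node (.node (.leaf 668) (.leaf 1180)) (.node (.leaf 924) (.leaf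 1436)))) (.node (.node (.node (.leaf 604) (.leaf 1116)) (.node (.leaf 860) (.leaf 1372))) (.node (.node (.leaf 732) (.leaf 1244)) (.node (.leaf 988) (.leaf 1500))))) (.node (.node (.node (.node (.leaf 572) (.leaf 1084)) (.node (.leaf 828) (.leaf 1340))) (.node (.node (.leaf 700) (.leaf 1212)) (.node (.leaf 956) (.leaf 1468)))) (.node (.node (.node (.leaf 636) (.leaf 1148)) (.node (.leaf 892) (.leaf 1404))) (.node (.node (.leaf 764) (.leaf 1276)) (.node (.leaf 1020) (.leaf 1532)))))))

/-- Part of a collection table. -/
def tblM24_9_13 : Trie := (.node (.node (.node (.node (.node (.node (.leaf 525) (.leaf 1037)) (.node (.leaf 781) (.leaf 1293))) (.node (.node (.leaf 653) (.leaf 1165)) (.node (.leaf 909) (.leaf 1421)))) (.node (.node (.node (.leaf 589) (.leaf 1101)) (.node (.leaf 845) (.leaf 1357))) (.node (.node (.leaf 717) (.leaf 1229)) (.node (.leaf 973) (.leaf 1485))))) (.node (.node (.node (.node (.leaf 557) (.leaf 1069)) (.node (.leaf 813) (.leaf 1325))) (.node (.node (.leaf 685) (.leaf 1197)) (.node (.leaf 941) (.leaf 1453)))) (.node (.node (.node (.leaf 621) (.leaf 1133)) (.node (.leaf 877) (.leaf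 1389))) (.node (.node (.leaf 749) (.leaf 1261)) (.node (.leaf 1005) (.leaf 1517)))))) (.node (.node (.node (.node (.node (.leaf 541) (.leaf 1053)) (.node (.leaf 797) (.leaf 1309))) (.node (.node (.leaf 669) (.leaf 1181)) (.node (.leaf 925) (.leaf 1437)))) (.node (.node (.node (.leaf 605) (.leaf 1117)) (.node (.leaf 861) (.leaf 1373))) (.node (.node (.leaf 733) (.leaf 1245)) (.node (.leaf 989) (.leaf 1501))))) (.node (.node (.node (.node (.leaf 573) (.leaf 1085)) (.node (.leaf 829) (.leaf 1341))) (.node (.node (.leaf 701) (.leaf 1213)) (.node (.leaf 957) (.leaf 1469)))) (.node (.node (.node (.leaf 637) (.leaf 1149)) (.node (.leaf 893) (.leaf 1405))) (.node (.node (.leaf 765) (.leaf 1277)) (.node (.leaf 1021) (.leaf 1533)))))))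

/-- Part of a collection table. -/
def tblM24_9_14 : Trie := (.node (.node (.node (.node (.node (.node (.leaf 526) (.leaf 1038)) (.node (.leaf 782) (.leaf 1294))) (.node (.node (.leaf 654) (.leaf 1166)) (.node (.leaf 910) (.leaf 1422)))) (.node (.node (.node (.leaf 590) (.leaf 1102)) (.node (.leaf 846) (.leaf 1358))) (.node (.node (.leaf 718) (.leaf 1230)) (.node (.leaf 974) (.leaf 1486))))) (.node (.node (.node (.node (.leaf 558) (.leaf 1070)) (.node (.leaf 814) (.leaf 1326))) (.node (.node (.leaf 686) (.leaf 1198)) (.node (.leaf 942) (.leaf 1454)))) (.node (.node (.node (.leaf 622) (.leaf 1134)) (.node (.leaf 878) (.leaf 1390))) (.node (.node (.leaf 750) (.leaf 1262)) (.node (.leaf 1006) (.leaf 1518)))))) (.node (.node (.node (.node (.node (.leaf 542) (.leaf 1054)) (.node (.leaf 798) (.leaf 1310))) (.node (.node (.leaf 670) (.leaf 1182)) (.node (.leaf 926) (.leaf 1438)))) (.node (.node (.node (.leaf 606) (.leaf 1118)) (.node (.leaf 862) (.leaf 1374))) (.node (.node (.leaf 734) (.leaf 1246)) (.node (.leaf 990) (.leaf 1502))))) (.node (.node (.node (.node (.leaf 574) (.leaf 1086)) (.node (.leaf 830) (.leaf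 1342))) (.node (.node (.leaf 702) (.leaf 1214)) (.node (.leaf 958) (.leaf 1470)))) (.node (.node (.node (.leaf 638) (.leaf 1150)) (.node (.leaf 894) (.leaf 1406))) (.node (.node (.leaf 766) (.leaf 1278)) (.node (.leaf 1022) (.leaf 1534)))))))

/-- Part of a collection table. -/
def tblM24_9_15 : Trie := (.node (.node (.node (.node (.node (.node (.leaf 527) (.leaf 1039)) (.node (.leaf 783) (.leaf 1295))) (.node (.node (.leaf 655) (.leaf 1167)) (.node (.leaf 911) (.leaf 1423)))) (.node (.node (.node (.leaf 591) (.leaf 1103)) (.node (.leaf 847) (.leaf 1359))) (.node (.node (.leaf 719) (.leaf 1231)) (.node (.leaf 975) (.leaf 1487))))) (.node (.node (.node (.node (.leaf 559) (.leaf 1071)) (.node (.leaf 815) (.leaf 1327))) (.node (.node (.leaf 687) (.leaf 1199)) (.node (.leaf 943) (.leaf 1455)))) (.node (.node (.node (.leaf 623) (.leaf 1135)) (.node (.leaf 879) (.leaf 1391))) (.node (.node (.leaf 751) (.leaf 1263)) (.node (.leaf 1007) (.leaf 1519)))))) (.node (.node (.node (.node (.node (.leaf 543) (.leaf 1055)) (.node (.leaf 799) (.leaf 1311))) (.node (.node (.leaf 671) (.leaf 1183)) (.node (.leaf 927) (.leaf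 1439)))) (.node (.node (.node (.leaf 607) (.leaf 1119)) (.node (.leaf 863) (.leaf 1375))) (.node (.node (.leaf 735) (.leaf 1247)) (.node (.leaf 991) (.leaf 1503))))) (.node (.node (.node (.node (.leaf 575) (.leaf 1087)) (.node (.leaf 831) (.leaf 1343))) (.node (.node (.leaf 703) (.leaf 1215)) (.node (.leaf 959) (.leaf 1471)))) (.node (.node (.node (.leaf 639) (.leaf 1151)) (.node (.leaf 895) (.leaf 1407))) (.node (.node (.leaf 767) (.leaf 1279)) (.node (.leaf 1023) (.leaf 1535)))))))

/-- Collector for `M24`. -/
def colM24 : Collector where
  n := 10
  rels := [([9, 9], []),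
    ([8, 8], [9]),
    ([9, 8], [8, 9]),
    ([7, 7], []),
    ([8, 7], [7, 8, 9]),
    ([9, 7], [7, 9]),
    ([6, 6], [9]),
    ([7, 6], [6, 7, 9]),
    ([8, 6], [6, 8]),
    ([9, 6], [6, 9]),
    ([5, 5], []),
    ([6, 5], [5, 8, 9]),
    ([7, 5], [5, 7]),
    ([8, 5], [5, 6, 9]),
    ([9, 5], [5, 9]),
    ([4, 4], [5]),
    ([5, 4], [4, 5]),
    ([6, 4], [4, 5, 6, 9]),
    ([7, 4], [4, 5, 6, 7, 8, 9]),
    ([8, 4], [4, 5, 6]),
    ([9, 4], [4, 6, 8, 9]),
    ([3, 3], []),
    ([4, 3], [3, 4, 9]),
    ([5, 3], [3, 5, 6, 8]),
    ([6, 3], [3, 6, 9]),
    ([7, 3], [3, 6, 7, 8]),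
    ([8, 3], [3, 8, 9]),
    ([9, 3], [3, 9]),
    ([2, 2], [5]),
    ([3, 2], [2, 3, 6, 8, 9]),
    ([4, 2], [2, 4]),
    ([5, 2], [2, 5]),
    ([6, 2], [2, 5, 8]),
    ([7, 2], [2, 5, 7]),
    ([8, 2], [2, 5, 8, 9]),
    ([9, 2], [2, 6, 8, 9]),
    ([1, 1], [2, 3, 4, 7, 8]),
    ([2, 1], [1, 3, 4, 7, 8]),
    ([3, 1], [1, 2, 4, 5, 7, 8]),
    ([4, 1], [1, 2, 3, 5, 6, 7]),
    ([5, 1], [1, 5]),
    ([6, 1], [1, 2, 3, 4, 5, 6, 7, 8, 9]),
    ([7, 1], [1, 5, 7]),
    ([8, 1], [1, 2, 3, 4, 5, 6, 7, 8]),
    ([9, 1], [1, 6, 8, 9]),
    ([0, 0], [1, 2, 3, 4, 6, 8, 9]),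
    ([1, 0], [0, 1, 3, 4, 5, 7]),
    ([2, 0], [0, 1, 2, 6, 7, 9]),
    ([3, 0], [0, 2, 4, 5, 6, 7, 9]),
    ([4, 0], [0, 1, 3, 8, 9]),
    ([5, 0], [0, 2, 3, 4, 7, 8, 9]),
    ([6, 0], [0, 1, 5, 7, 9]),
    ([7, 0], [0, 1, 3, 4, 5, 6, 7, 9]),
    ([8, 0], [0, 1, 2, 3, 4, 8]),
    ([9, 0], [0, 2, 3, 4, 5, 7, 8])]
  table := [(.node (.node (.node (.node tblM24_0_0 tblM24_0_8) (.node tblM24_0_4 tblM24_0_12)) (.node (.node tblM24_0_2 tblM24_0_10) (.node tblM24_0_6 tblM24_0_14))) (.node (.node (.node tblM24_0_1 tblM24_0_9) (.node tblM24_0_5 tblM24_0_13)) (.node (.node tblM24_0_3 tblM24_0_11) (.node tblM24_0_7 tblM24_0_15)))),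
    (.node (.node (.node (.node tblM24_1_0 tblM24_1_8) (.node tblM24_1_4 tblM24_1_12)) (.node (.node tblM24_1_2 tblM24_1_10) (.node tblM24_1_6 tblM24_1_14))) (.node (.node (.node tblM24_1_1 tblM24_1_9) (.node tblM24_1_5 tblM24_1_13)) (.node (.node tblM24_1_3 tblM24_1_11) (.node tblM24_1_7 tblM24_1_15)))),
    (.node (.node (.node (.node tblM24_2_0 tblM24_2_8) (.node tblM24_2_4 tblM24_2_12)) (.node (.node tblM24_2_2 tblM24_2_10) (.node tblM24_2_6 tblM24_2_14))) (.node (.node (.node tblM24_2_1 tblM24_2_9) (.node tblM24_2_5 tblM24_2_13)) (.node (.node tblM24_2_3 tblM24_2_11) (.node tblM24_2_7 tblM24_2_15)))),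
    (.node (.node (.node (.node tblM24_3_0 tblM24_3_8) (.node tblM24_3_4 tblM24_3_12)) (.node (.node tblM24_3_2 tblM24_3_10) (.node tblM24_3_6 tblM24_3_14))) (.node (.node (.node tblM24_3_1 tblM24_3_9) (.node tblM24_3_5 tblM24_3_13)) (.node (.node tblM24_3_3 tblM24_3_11) (.node tblM24_3_7 tblM24_3_15)))),
    (.node (.node (.node (.node tblM24_4_0 tblM24_4_8) (.node tblM24_4_4 tblM24_4_12)) (.node (.node tblM24_4_2 tblM24_4_10) (.node tblM24_4_6 tblM24_4_14))) (.node (.node (.node tblM24_4_1 tblM24_4_9) (.node tblM24_4_5 tblM24_4_13)) (.node (.node tblM24_4_3 tblM24_4_11) (.node tblM24_4_7 tblM24_4_15)))),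
    (.node (.node (.node (.node tblM24_5_0 tblM24_5_8) (.node tblM24_5_4 tblM24_5_12)) (.node (.node tblM24_5_2 tblM24_5_10) (.node tblM24_5_6 tblM24_5_14))) (.node (.node (.node tblM24_5_1 tblM24_5_9) (.node tblM24_5_5 tblM24_5_13)) (.node (.node tblM24_5_3 tblM24_5_11) (.node tblM24_5_7 tblM24_5_15)))),
    (.node (.node (.node (.node tblM24_6_0 tblM24_6_8) (.node tblM24_6_4 tblM24_6_12)) (.node (.node tblM24_6_2 tblM24_6_10) (.node tblM24_6_6 tblM24_6_14))) (.node (.node (.node tblM24_6_1 tblM24_6_9) (.node tblM24_6_5 tblM24_6_13)) (.node (.node tblM24_6_3 tblM24_6_11) (.node tblM24_6_7 tblM24_6_15)))),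
    (.node (.node (.node (.node tblM24_7_0 tblM24_7_8) (.node tblM24_7_4 tblM24_7_12)) (.node (.node tblM24_7_2 tblM24_7_10) (.node tblM24_7_6 tblM24_7_14))) (.node (.node (.node tblM24_7_1 tblM24_7_9) (.node tblM24_7_5 tblM24_7_13)) (.node (.node tblM24_7_3 tblM24_7_11) (.node tblM24_7_7 tblM24_7_15)))),
    (.node (.node (.node (.node tblM24_8_0 tblM24_8_8) (.node tblM24_8_4 tblM24_8_12)) (.node (.node tblM24_8_2 tblM24_8_10) (.node tblM24_8_6 tblM24_8_14))) (.node (.node (.node tblM24_8_1 tblM24_8_9) (.node tblM24_8_5 tblM24_8_13)) (.node (.node tblM24_8_3 tblM24_8_11) (.node tblM24_8_7 tblM24_8_15)))),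
    (.node (.node (.node (.node tblM24_9_0 tblM24_9_8) (.node tblM24_9_4 tblM24_9_12)) (.node (.node tblM24_9_2 tblM24_9_10) (.node tblM24_9_6 tblM24_9_14))) (.node (.node (.node tblM24_9_1 tblM24_9_9) (.node tblM24_9_5 tblM24_9_13)) (.node (.node tblM24_9_3 tblM24_9_11) (.node tblM24_9_7 tblM24_9_15))))]
  eqs := [.assoc [0] 45,
    .assoc [1] 36,
    .assoc [1] 45,
    .assoc [1] 46,
    .assoc [2] 28,
    .assoc [2] 36,
    .assoc [2] 37,
    .assoc [2] 45,
    .assoc [2] 46,
    .assoc [2] 47,
    .assoc [3] 28,
    .assoc [3] 29,
    .assoc [3] 36,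
    .assoc [3] 37,
    .assoc [3] 38,
    .assoc [3] 45,
    .assoc [3] 46,
    .assoc [3] 47,
    .assoc [3] 48,
    .assoc [4] 15,
    .assoc [4] 21,
    .assoc [4] 22,
    .assoc [4] 29,
    .assoc [4] 36,
    .assoc [4] 37,
    .assoc [4] 38,
    .assoc [4] 39,
    .assoc [4] 45,
    .assoc [4] 46,
    .assoc [4] 47,
    .assoc [4] 48,
    .assoc [4] 49,
    .assoc [5] 21,
    .assoc [5] 22,
    .assoc [5] 23,
    .assoc [5] 36,
    .assoc [5] 39,
    .conj 0 [(0, 0), (37, 278)] [(37, 37)],
    .conj 1 [(0, 0), (37, 278), (59, 1004), (194, 442)] [(59, 37), (37, 59)],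
    .conj 2 [(0, 0), (59, 1004)] [(59, 59)],
    .conj 3 [(0, 0), (37, 278), (97, 518), (100, 80)] [(97, 37), (37, 97)],
    .conj 4 [(0, 0), (59, 1004), (97, 518), (486, 458)] [(97, 59), (59, 97)],
    .conj 5 [(0, 0), (97, 518)] [(97, 97)],
    .conj 6 [(0, 0), (37, 278), (189, 924), (984, 650)] [(189, 37), (37, 189)],
    .conj 7 [(0, 0), (97, 518), (189, 924), (412, 250)] [(189, 97), (97, 189)],
    .conj 8 [(0, 0), (8, 326)] [(8, 8)],
    .conj 9 [(0, 0), (8, 326), (19, 512), (539, 838)] [(19, 8), (8, 19)],
    .conj 10 [(0, 0), (8, 326), (19, 512), (22, 60), (32, 688), (40, 502), (51, 1008), (54, 684), (202, 492), (386, 650), (732, 496), (837, 1004)] [(202, 8), (51, 19), (202, 19), (32, 22), (40, 22), (51, 22), (54, 22), (8, 32)],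
    .conj 11 [(0, 0), (22, 60), (32, 688), (54, 684)] [(32, 22), (22, 32)]]
  gauge := [0, 23116132462362624, 29871531903418368, 6755399441055744, 0, 34339947158700032, 29273397577908224, 0, 0, 20301382695256064]
  comb := [11291018011192, 319013798551609, 85003974094, 476732176964698, 463364270111495, 11349718740085, 325968465855984, 463338503712615, 79143253533, 80710057422, 11298134310933, 489107772801294, 11288250783211, 482216631474441, 87733446239, 531942627840840, 524288, 225162069000697, 274927480193598, 404675629522119, 163487889096962, 441560814916252, 33069415698763, 174771223405370, 209114667557974, 322838961528436, 198340116218444, 11291016962616, 386761018084733, 36064535119018, 194830360526514, 16, 502638831634146, 519625097272482, 140417297865659, 163425022222001, 363305349736414, 379963739898858, 43674792225386, 57869103705546, 466387821719868, 27848136593241, 521026285569519, 15070100502480, 348041044467726, 0, 270844903353922, 360391679145536, 105562621430850, 0, 17616797637469, 0, 0, 0, 0]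

/-- Certificate for `M24`. -/
def twoM24 : TwoCert where
  sets := []
  col := colM24
  gens := [486170995597092119450861981365672556,
    933982513890077352930606682579632200,
    652323141993527933175108488870017427,
    485082119312589139867644285096723524,
    721039951994069011447781397985802835,
    984817004119829251961091542889860423,
    479883286140323161641369118234187890,
    894018928896418748558972256008933669,
    692407295117342256167099553287448648,
    640644077699241715117290973339209031]
  conjs := [716686562388887211197268957746118220,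
    716686562388887211197268957746118220,
    716686562388887211197268957746118220,
    716686562388887211197268957746118220,
    716686562388887211197268957746118220,
    716686562388887211197268957746118220,
    716686562388887211197268957746118220,
    716686562388887211197268957746118220,
    726526614898318048821172904413957716,
    726526614898318048821172904413957716,
    726526614898318048821172904413957716,
    726526614898318048821172904413957716]
  order := [181, 777, 517, 441, 409, 149, 73, 809, 217, 105, 981, 869, 1013, 549, 249, 837, 739, 351, 687, 275, 627, 707, 31, 383, 307, 63, 899, 655, 931, 463, 595, 495, 534, 746, 966, 998, 602, 714, 938, 566, 282, 886, 906, 314, 854, 634, 166, 134, 700, 64, 240, 208, 44, 800, 768, 476, 364, 668, 96, 332, 508, 12, 400, 432, 798, 482, 398, 238, 338, 642, 674, 126, 18, 830, 450, 370, 94, 50, 430, 206, 436, 328, 504, 664, 100, 360, 8, 404, 804, 212, 40, 68, 244, 772, 472, 696, 957, 1, 269, 689, 465, 733, 321, 353, 657, 33, 925, 301, 765, 621, 497, 589, 491, 599, 935, 27, 59, 651, 279, 311, 379, 631, 459, 711, 683, 903, 347, 743, 79, 979, 835, 415, 447,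 815, 147, 179, 255, 1011, 111, 547, 783, 867, 223, 515, 25, 901, 649, 597, 309, 377, 709, 741, 629, 933, 57, 681, 345, 489, 277, 457, 618, 662, 730, 954, 326, 502, 470, 266, 6, 586, 694, 358, 298, 38, 762, 922, 928, 28, 652, 492, 272, 60, 348, 896, 592, 704, 380, 304, 736, 624, 684, 460, 327, 923, 587, 471, 695, 359, 731, 955, 503, 763, 39, 619, 7, 299, 663, 267, 273, 461, 705, 349, 381, 305, 653, 493, 61, 685, 625, 929, 593, 737, 29, 897, 546, 222, 146, 178, 78, 254, 414, 514, 782, 834, 446, 814, 866, 110, 1010, 978, 680, 276, 708, 740, 24, 628, 596, 456, 344, 648, 308, 376, 488, 56, 932, 900, 780, 144, 544, 512, 412, 1008, 976, 108, 220, 812, 176, 252, 76, 444, 832, 864, 230, 570, 822, 790, 138, 538, 890, 198, 970, 390, 858, 1002, 422, 170, 86, 118, 339, 207, 831, 675, 451, 371, 399, 239, 643, 431, 51, 799, 19, 95, 483, 127, 101, 697, 213, 9, 41, 69, 505, 665, 361, 473, 773, 437, 805, 245, 329, 405, 603, 135, 887, 939, 907, 315, 967, 999, 715, 167, 635, 535, 283, 855, 747, 567, 45, 433, 669, 769, 97, 333, 241, 209, 801, 401, 13, 701, 365, 509, 65, 477, 4, 728, 616, 264, 468, 760, 920, 36, 660, 356, 952,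 500, 324, 692, 584, 296, 1006, 114, 894, 542, 194, 786, 818, 142, 386, 974, 82, 226, 174, 418, 862, 574, 139, 119, 391, 891, 859, 1003, 823, 791, 539, 87, 171, 231, 971, 423, 571, 199, 413, 865, 813, 977, 177, 253, 545, 513, 1009, 833, 445, 781, 221, 77, 145, 109, 916, 552, 152, 1016, 580, 520, 872, 948, 260, 756, 840, 612, 724, 292, 184, 984, 318, 130, 942, 718, 562, 994, 962, 606, 882, 286, 162, 530, 638, 850, 910, 750, 988, 608, 720, 752, 844, 256, 288, 188, 524, 1020, 576, 556, 156, 876, 944, 912, 374, 202, 678, 646, 122, 234, 394, 342, 826, 22, 426, 794, 54, 90, 454, 486, 195, 575, 975, 819, 83, 227, 895, 543, 787, 863, 419, 1007, 387, 175, 115, 143, 469, 297, 357, 921, 953, 501, 617, 265, 761, 585, 693, 5, 661, 325, 729, 37, 16, 396, 796, 124, 672, 428, 204, 48, 480, 368, 236, 640, 336, 448, 828, 92, 154, 262, 554, 842, 726, 614, 582, 1018, 918, 186, 294, 758, 986, 950, 522, 874, 393, 53, 793, 485, 645, 233, 373, 341, 453, 21, 425, 825, 201, 121, 677, 89, 511, 771, 403, 47, 15, 671, 67, 99, 335, 803, 479, 243, 703, 435, 367, 211, 280, 964, 532, 564, 936, 164, 132, 632, 744, 312, 996, 712, 600, 904,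 884, 852, 722, 526, 610, 578, 158, 558, 846, 754, 990, 946, 878, 1022, 914, 190, 258, 290, 961, 637, 529, 749, 717, 993, 317, 605, 909, 285, 161, 881, 129, 561, 941, 849, 247, 11, 475, 103, 775, 215, 331, 43, 71, 363, 407, 507, 439, 699, 807, 667, 242, 366, 66, 98, 510, 334, 46, 210, 702, 402, 14, 670, 434, 478, 802, 770, 824, 676, 372, 340, 392, 452, 484, 88, 200, 792, 644, 232, 120, 424, 20, 52, 727, 875, 187, 583, 295, 759, 555, 843, 615, 523, 951, 155, 919, 987, 263, 1019, 673, 93, 369, 205, 237, 641, 797, 125, 429, 829, 449, 17, 481, 337, 397, 49, 506, 806, 330, 42, 246, 70, 102, 666, 438, 474, 774, 214, 698, 406, 362, 10, 880, 940, 316, 604, 960, 908, 748, 848, 128, 528, 716, 992, 560, 160, 284, 636, 159, 291, 947, 847, 879, 1023, 611, 579, 559, 259, 191, 723, 991, 915, 527, 755, 937, 853, 313, 133, 997, 713, 533, 565, 165, 885, 905, 281, 745, 601, 965, 633, 817, 173, 225, 573, 541, 785, 1005, 141, 861, 973, 81, 385, 113, 193, 893, 417, 551, 443, 107, 183, 983, 519, 251, 411, 151, 219, 839, 75, 871, 779, 1015, 811, 968, 820, 228, 196, 888, 84, 116, 168, 568, 1000, 788, 536, 136, 856, 388, 420, 322,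 766, 498, 466, 622, 734, 958, 354, 302, 34, 926, 270, 2, 590, 658, 690, 889, 421, 1001, 117, 789, 537, 229, 197, 85, 389, 857, 969, 569, 137, 821, 169, 623, 691, 35, 959, 927, 271, 499, 467, 735, 659, 591, 323, 303, 3, 767, 355, 384, 892, 1004, 140, 816, 860, 572, 416, 112, 224, 540, 784, 192, 80, 972, 172, 74, 1014, 250, 410, 550, 150, 182, 810, 870, 106, 982, 518, 778, 838, 218, 442, 654, 594, 30, 382, 738, 306, 274, 494, 930, 686, 626, 706, 462, 898, 62, 350, 868, 248, 72, 808, 180, 216, 440, 836, 1012, 516, 408, 148, 548, 980, 104, 776, 845, 913, 1021, 289, 577, 557, 721, 753, 257, 945, 877, 989, 525, 157, 609, 189, 123, 487, 23, 395, 427, 795, 679, 647, 235, 455, 91, 375, 827, 55, 203, 343, 581, 985, 757, 873, 841, 613, 153, 1017, 521, 185, 293, 917, 261, 725, 553, 949, 563, 751, 287, 963, 163, 531, 943, 719, 995, 911, 851, 319, 883, 639, 131, 607, 710, 346, 278, 310, 490, 378, 26, 742, 682, 934, 58, 650, 902, 458, 630, 598, 300, 496, 320, 352, 956, 656, 688, 588, 764, 268, 464, 732, 620, 924, 32, 0]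

theorem twoM24_mem : twoM24.memOK = true ∧ twoM24.relOK = true ∧ twoM24.conjOK = true := by
  refine ⟨?_, ?_, ?_⟩ <;> decide +kernel

theorem twoM24_order : twoM24.orderOK = true := by decide +kernel

theorem twoM24_table : colM24.tableOK = true := by
  rw [SchurMult.Collector.tableOK, List.all_eq_true]
  intro i hi
  have h : i < 10 := lt_of_lt_of_eq (List.mem_range.1 hi) (by decide +kernel)
  interval_cases i <;> decide +kernel

theorem twoM24_solved : colM24.solvedOK = true := by decide +kernel

end CfsgLib.OutMathieu
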